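import Cfsg.Agent.Lib.OrderPFive.Groups

/-!
# Groups of order `p ^ 5` with automorphisms inherited from an elementary abelian subgroup of order `p ^ 3`
-/

set_option autoImplicit false
set_option linter.style.haveILetI false

namespace Cfsg.Lib.OrderPFive

open Subgroup
open Cfsg.Lib.FusionSys
open scoped commutatorElement

variable {p : ℕ} [hp : Fact p.Prime] {G : Type*} [Group G]

omit hp in
theorem mod_trans {L : Subgroup G} {x y z : G} (h1 : x⁻¹ * y ∈ L) (h2 : z⁻¹ * y ∈ L) : x⁻¹ * z ∈ L := by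
  have := L.mul_mem h1 (L.inv_mem h2)
  simpa [mul_assoc] using this

omit hp in
theorem mod_iter {L : Subgroup G} {T : MulAut G} (hL : ∀ x ∈ L, T x ∈ L) {w : G} (h : w⁻¹ * T w ∈ L) :
    ∀ n : ℕ, w⁻¹ * (T ^ n) w ∈ L := by
  intro n
  induction n with
  | zero => simp
  | succ n ih =>
    refine mod_trans' h ?_
    have := hL _ ih
    rwa [map_mul, map_inv, ← MulAut.mul_apply, ← pow_succ'] at this

omit hp in
theorem scalar_three : ∀ x y z s : ZMod 3, x * y * x = s → z * y = s → s ≠ 0 → z = 1 := by decide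

theorem two_mul_three : ∀ x : ZMod 3, 2 * x = 2 * 2 → x = 2 := by decide

/-- The elements commuting with `b` modulo `L`. -/
def commMod (L : Subgroup G) [L.Normal] (b : G) : Subgroup G :=
  (centralizer {QuotientGroup.mk' L b}).comap (QuotientGroup.mk' L)

omit hp in
theorem mem_commMod {L : Subgroup G} [L.Normal] {b x : G} : x ∈ commMod L b ↔ ⁅x, b⁆ ∈ L := by
  rw [commMod, mem_comap, mem_centralizer_singleton_iff, ← commutatorElement_eq_one_iff_mul_comm,
    ← map_commutatorElement]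
  exact QuotientGroup.eq_one_iff _

omit hp in
theorem eq_one_of_mem_bot {x y : G} (h : x⁻¹ * y ∈ (⊥ : Subgroup G)) : x = y :=
  inv_mul_eq_one.mp (mem_bot.mp h)

/-- The calculation: `p = 3` and a proper subgroup contains all displacements. -/
theorem calc_elem [Finite G] (hG : IsPGroup p G) (hp2 : p ≠ 2) (hcard : Nat.card G = p ^ 5)
    (hab : ∀ B : Subgroup G, p ^ 4 ≤ Nat.card B → ∃ a ∈ B, ∃ b ∈ B, a * b ≠ b * a)
    {N D E A0 : Subgroup G} [hNn : N.Normal] [hDn : D.Normal] [hAn : A0.Normal]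
    (hAD : A0 ≤ D) (hDN : D ≤ N) (hAE : A0 ≤ E) (hEN : E ≤ N) (hN : Nat.card N = p ^ 4)
    (hD : Nat.card D = p ^ 3) (hE : Nat.card E = p ^ 3) (hA : Nat.card A0 = p ^ 2) (hED : E ≠ D)
    (hAN : ∀ a ∈ A0, ∀ n ∈ N, a * n = n * a) (hcenE : center G ≤ E) {c w f g : G}
    (hcZ : c ∈ center G) (hc1 : c ≠ 1) (hcp : c ^ p = 1) (hcA : c ∈ A0) (hwA : w ∈ A0) (hwp : w ^ p = 1)
    (hwc : w ∉ zpowers c) (hfE : f ∈ E) (hfA : f ∉ A0) (hfp : f ^ p = 1) (hgN : g ∉ N)
    (hd : ⁅f, g⁆ ∉ E) (hNN : ∀ x ∈ N, ∀ y ∈ N, ⁅x, y⁆ ∈ zpowers c)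
    (A : Subgroup (MulAut G)) {m : ℕ} (hm : ¬ p ∣ m) (hinn : ∀ γ ∈ A, ∃ y, γ ^ m = MulAut.conj y)
    (hT : ∀ n l : ℕ, n * l ≡ 1 [MOD p] → ∃ T ∈ A, T c = c ^ n ∧ w⁻¹ * T w ∈ zpowers c ∧
      (∀ x ∈ N, T x ∈ N) ∧ (∀ x ∈ D, T x ∈ D) ∧ (f ^ l)⁻¹ * T f ∈ A0 ∧
      ∀ x ∈ N, (x ^ (n * n))⁻¹ * T x ∈ E) :
    p = 3 ∧ center G ≤ commutator G ∧ Nat.card (center G) = p ∧
      ∃ K : Subgroup G, commutator G ≤ K ∧ K ≠ ⊤ ∧ ∀ h ∈ A, ∀ x, x⁻¹ * h x ∈ K := by
  have hp1 := hp.out.one_lt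
  set Zc := zpowers c with hZc
  haveI hZn : Zc.Normal := ⟨fun a ha x => by
    rw [mem_center_iff.mp (zpowers_le.mpr hcZ ha) x, mul_inv_cancel_right]; exact ha⟩
  have hcC : ∀ x, Commute c x := fun x => (mem_center_iff.mp hcZ x).symm
  have hZA : Zc ≤ A0 := zpowers_le.mpr hcA
  have hZc' : Nat.card Zc = p := by rw [hZc, Nat.card_zpowers, orderOf_eq_prime hcp hc1]
  have hAgen : ∀ a ∈ A0, ∃ i : ℕ, (w ^ i)⁻¹ * a ∈ Zc := fun a ha =>
    gen_of_step hG hZA (by rw [hA, hZc', sq]) hwA hwc ha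
  have hAG : ∀ a ∈ A0, ∀ x, ⁅a, x⁆ ∈ Zc := fun a ha x =>
    (comm_mem_step hG hZA (by rw [hA, hZc', sq]) ha x).2
  set d := ⁅f, g⁆ with hd'
  have hfN : f ∈ N := hEN hfE
  have hdD : d ∈ D := (comm_mem_step hG hDN (by rw [hN, hD, ← pow_succ']) hfN g).2
  have hdA : d ∉ A0 := fun h => hd (hAE h)
  have hfD : f ∉ D := by
    intro h
    have h1 : A0 < D ⊓ E := lt_of_le_of_ne (le_inf hAD hAE) fun e => hfA (e.ge ⟨h, hfE⟩)
    have h2 : D ≤ E := (eq_of_step hG h1 inf_le_left (by rw [hD, hA, ← pow_succ'])).ge.trans inf_le_right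
    exact hED (eq_of_le_of_card_ge h2 (by rw [hD, hE])).symm
  have hDgen : ∀ x ∈ D, ∃ i : ℕ, (d ^ i)⁻¹ * x ∈ A0 := fun x hx =>
    gen_of_step hG hAD (by rw [hD, hA, ← pow_succ']) hdD hdA hx
  have hNgen : ∀ x ∈ N, ∃ i : ℕ, (f ^ i)⁻¹ * x ∈ D := fun x hx =>
    gen_of_step hG hDN (by rw [hN, hD, ← pow_succ']) hfN hfD hx
  have hGN : Nat.card (⊤ : Subgroup G) = p * Nat.card N := by rw [card_top, hcard, hN, ← pow_succ']
  have hGgen : ∀ x, ∃ i : ℕ, (g ^ i)⁻¹ * x ∈ N := fun x =>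
    gen_of_step hG le_top hGN (mem_top g) hgN (mem_top x)
  have htop : ∀ U : Subgroup G, g ∈ U → f ∈ U → D ≤ U → ∀ x, x ∈ U := by
    intro U hg hf hDU x
    obtain ⟨j, hj⟩ := hGgen x
    obtain ⟨i, hi⟩ := hNgen _ hj
    rw [← mul_inv_cancel_left (g ^ j) x, ← mul_inv_cancel_left (f ^ i) ((g ^ j)⁻¹ * x)]
    exact U.mul_mem (U.pow_mem hg j) (U.mul_mem (U.pow_mem hf i) (hDU hi))
  have hDle : ∀ U : Subgroup G, d ∈ U → A0 ≤ U → D ≤ U := by
    intro U hdU hAU x hx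
    obtain ⟨i, hi⟩ := hDgen x hx
    rw [← mul_inv_cancel_left (d ^ i) x]
    exact U.mul_mem (U.pow_mem hdU i) (hAU hi)
  have hdp : d ^ p ∈ A0 := pow_p_mem_step hG hAD (by rw [hD, hA, ← pow_succ']) hdD
  -- `f` and `d` do not commute
  obtain ⟨a0, ha0⟩ := mem_powers_iff_mem_zpowers.mpr (hNN d (hDN hdD) f hfN)
  have ha0' : ⁅d, f⁆ = c ^ a0 := ha0.symm
  have hpa0 : ¬ p ∣ a0 := by
    intro hd0
    have h1 : d * f = f * d := commutatorElement_eq_one_iff_mul_comm.mp (by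
      rw [ha0', Plane.pow_eq_pow_of_modEq hcp (Nat.modEq_zero_iff_dvd.mpr hd0), pow_zero])
    obtain ⟨B, hB, hBc⟩ := exists_abelian hG (s := insert f (insert d (A0 : Set G))) (by
        have hA' : ∀ x ∈ A0, ∀ y ∈ insert f (insert d (A0 : Set G)), x * y = y * x := by
          rintro x hx y (rfl | rfl | hy)
          exacts [hAN x hx y hfN, hAN x hx _ (hDN hdD), hAN x hx y (hDN (hAD hy))]
        rintro x (rfl | rfl | hx) y hy
        · rcases hy with rfl | rfl | hy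
          exacts [rfl, h1.symm, (hA' y hy x (Or.inl rfl)).symm]
        · rcases hy with rfl | rfl | hy
          exacts [h1, rfl, (hA' y hy _ (Or.inr (Or.inl rfl))).symm]
        · exact hA' x hx y hy)
      (hDle _ (subset_closure (Or.inr (Or.inl rfl))) fun x hx => subset_closure (Or.inr (Or.inr hx))) hD
      (subset_closure (Or.inl rfl) : f ∈ closure _) hfD
    obtain ⟨x, hx, y, hy, hxy⟩ := hab B hB
    exact hxy (hBc x hx y hy)
  obtain ⟨k, hk⟩ := mem_powers_iff_mem_zpowers.mpr (hAG w hwA g)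
  have hk' : ⁅w, g⁆ = c ^ k := hk.symm
  have hcomm0' : ∀ x : G, ∀ z ∈ Zc, ⁅x, z⁆ = 1 := fun x z hz =>
    commutatorElement_eq_one_iff_mul_comm.mpr (mem_center_iff.mp (zpowers_le.mpr hcZ hz) x)
  have hcomm0'' : ∀ x : G, ∀ z ∈ Zc, ⁅z, x⁆ = 1 := fun x z hz =>
    commutatorElement_eq_one_iff_mul_comm.mpr (mem_center_iff.mp (zpowers_le.mpr hcZ hz) x).symm
  -- the scalars
  have hmu : ∀ n l : ℕ, ∀ T : MulAut G, T c = c ^ n → w⁻¹ * T w ∈ Zc → (∀ x ∈ N, T x ∈ N) →
      (∀ x ∈ D, T x ∈ D) → (f ^ l)⁻¹ * T f ∈ A0 → (∀ x ∈ N, (x ^ (n * n))⁻¹ * T x ∈ E) →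
      ∃ μ : ℕ, (g ^ μ)⁻¹ * T g ∈ N ∧ (d ^ (n * n))⁻¹ * T d ∈ A0 ∧ l * μ ≡ n * n [MOD p] ∧
        k * μ ≡ n * k [MOD p] := by
    intro n l T hTc hTw hTN hTD hTf hTE
    obtain ⟨μ, hμ⟩ := hGgen (T g)
    have h1 : (d ^ (l * μ))⁻¹ * T d ∈ A0 :=
      comm_scalar_map T l μ A0 N hTf hμ
        (hZA (hNN f hfN d (hDN hdD)))
        (comm_mem_step hG hAD (by rw [hD, hA, ← pow_succ']) hdD g).1
        (fun x hx => hZA (hAG x hx g))
        (fun x hx y hy => by rw [commutatorElement_eq_one_iff_mul_comm.mpr (hAN x hx y hy)]; exact one_mem _)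
        (fun y hy => hZA (hNN f hfN y hy))
    have h2 : (d ^ (n * n))⁻¹ * T d ∈ A0 := by
      have hm1 : (d ^ (n * n))⁻¹ * T d ∈ D ⊓ E :=
        ⟨D.mul_mem (D.inv_mem (D.pow_mem hdD _)) (hTD d hdD), hTE d (hDN hdD)⟩
      have hle : A0 ≤ D ⊓ E := le_inf hAD hAE
      by_contra hn
      have h1 : A0 < D ⊓ E := lt_of_le_of_ne hle fun e => hn (e.ge hm1)
      exact hd (((eq_of_step hG h1 inf_le_left (by rw [hD, hA, ← pow_succ'])).ge hdD).2)
    refine ⟨μ, hμ, h2, modEq_of_pow_mem hdp hdA (mod_trans h1 h2), ?_⟩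
    have h3 := comm_scalar_map (L := (⊥ : Subgroup G)) T 1 μ Zc N (a := w) (b := g)
      (by rwa [pow_one]) hμ
      (by rw [hk', hcomm0' w _ (pow_mem (mem_zpowers c) k)]; exact one_mem _)
      (by rw [hk', hcomm0' g _ (pow_mem (mem_zpowers c) k)]; exact one_mem _)
      (fun x hx => by rw [hcomm0'' g x hx]; exact one_mem _)
      (fun x hx y _ => by rw [hcomm0'' y x hx]; exact one_mem _)
      (fun y hy => by rw [commutatorElement_eq_one_iff_mul_comm.mpr (hAN w hwA y hy)]; exact one_mem _)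
    have h4 := eq_one_of_mem_bot h3
    rw [hk', map_pow, hTc, one_mul, ← pow_mul, ← pow_mul] at h4
    exact Plane.modEq_of_pow_eq hcp hc1 h4
  -- `n = -1`
  obtain ⟨T, hTA, hTc, hTw, hTN, hTD, hTf, hTE⟩ := hT (p - 1) (p - 1) (by
    rw [← ZMod.natCast_eq_natCast_iff]
    push_cast [Nat.cast_sub hp.out.one_le]
    simp)
  obtain ⟨μ, hμ, hTd, hlμ, hkμ⟩ := hmu _ _ T hTc hTw hTN hTD hTf hTE
  have hm1 : ((μ : ℕ) : ZMod p) = -1 := by
    rw [← ZMod.natCast_eq_natCast_iff] at hlμ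
    push_cast [Nat.cast_sub hp.out.one_le] at hlμ
    simp at hlμ
    linear_combination -hlμ
  have h2ne : (2 : ZMod p) ≠ 0 := by
    intro h
    have h' : ((2 : ℕ) : ZMod p) = 0 := by exact_mod_cast h
    exact hp2 ((Nat.prime_dvd_prime_iff_eq hp.out Nat.prime_two).mp
      ((ZMod.natCast_eq_zero_iff 2 p).mp h'))
  have hTd1 : (d ^ 1)⁻¹ * T d ∈ A0 := by
    refine mod_trans' (pow_congr_mem hdp ?_) hTd
    rw [← ZMod.natCast_eq_natCast_iff]
    push_cast [Nat.cast_sub hp.out.one_le]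
    simp
  -- the commutator of `d` and `g` is central
  set r := ⁅d, g⁆ with hr'
  have hrA : r ∈ A0 := (comm_mem_step hG hAD (by rw [hD, hA, ← pow_succ']) hdD g).2
  have hrZ : r ∈ Zc := by
    by_contra hrZ
    have h1 : (r ^ μ)⁻¹ * T r ∈ Zc := by
      have := comm_scalar_map (L := Zc) T 1 μ A0 N hTd1 hμ
        (comm_mem_swap (hAG r hrA d)) (comm_mem_swap (hAG r hrA g))
        (fun x hx => hAG x hx g) (fun x hx y _ => hAG x hx y) (fun y hy => hNN d (hDN hdD) y hy)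
      rwa [one_mul] at this
    have hTZ : ∀ x ∈ Zc, T x ∈ Zc :=
      (zpowers_le (H := Zc.comap T.toMonoidHom)).2 (show T c ∈ Zc from hTc ▸ pow_mem (mem_zpowers c) _)
    obtain ⟨j, hj⟩ := hAgen r hrA
    have h2 : r⁻¹ * T r ∈ Zc := by
      have e1 : (QuotientGroup.mk (T r) : G ⧸ Zc) = QuotientGroup.mk r := by
        rw [← mul_inv_cancel_left (w ^ j) r, map_mul, map_pow, QuotientGroup.mk_mul, QuotientGroup.mk_pow,
          QuotientGroup.mk_mul, QuotientGroup.mk_pow, (QuotientGroup.eq.mpr hTw).symm,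
          (QuotientGroup.eq_one_iff _).mpr (hTZ _ hj), (QuotientGroup.eq_one_iff _).mpr hj]
      exact QuotientGroup.eq.mp e1.symm
    have h3 : (r ^ μ)⁻¹ * r ^ 1 ∈ Zc := by rw [pow_one]; exact mod_trans h1 h2
    have h4 := modEq_of_pow_mem (pow_p_mem_step hG hZA (by rw [hA, hZc', sq]) hrA) hrZ h3
    rw [← ZMod.natCast_eq_natCast_iff, hm1, Nat.cast_one] at h4
    exact h2ne (by linear_combination -h4)
  obtain ⟨r0, hr0⟩ := mem_powers_iff_mem_zpowers.mpr hrZ
  have hr0' : ⁅d, g⁆ = c ^ r0 := hr0.symm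
  -- adjust `g`
  obtain ⟨i0, hi0⟩ := Plane.exists_mul_modEq hpa0 (r0 * (p - 1))
  set g1 := g * f ^ i0 with hg1
  have hdf : ∀ i j : ℕ, ⁅d ^ i, f ^ j⁆ = c ^ (a0 * (i * j)) := by
    intro i j
    rw [comm_pow_pow (by rw [ha0']; exact ((hcC d).symm.pow_right _)) (by rw [ha0']; exact ((hcC f).symm.pow_right _)),
      ha0', ← pow_mul]
  have hdg1 : ⁅d, g1⁆ = 1 := by
    have h1 : ⁅d, g1⁆ = ⁅d, g⁆ * (g * ⁅d, f ^ i0⁆ * g⁻¹) := by
      rw [hg1, commutatorElement_def, commutatorElement_def, commutatorElement_def]; group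
    have h2 := hdf 1 i0
    rw [pow_one, one_mul] at h2
    rw [h1, h2, hr0', ((hcC g).pow_left _).symm.eq, mul_inv_cancel_right, ← pow_add,
      Plane.pow_eq_pow_of_modEq hcp (j := 0) ?_, pow_zero]
    have := hi0.add_left r0
    rw [show r0 + r0 * (p - 1) = r0 * p by rw [add_comm, ← Nat.mul_succ, Nat.succ_eq_add_one, Nat.sub_add_cancel hp.out.one_le]] at this
    exact this.trans (Nat.modEq_zero_iff_dvd.mpr (dvd_mul_left p r0))
  have hwf : ⁅w, f ^ i0⁆ = 1 :=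
    commutatorElement_eq_one_iff_mul_comm.mpr (hAN w hwA _ (N.pow_mem hfN i0))
  have hwg1 : ⁅w, g1⁆ = c ^ k := by
    have h1 : ⁅w, g1⁆ = ⁅w, g⁆ * (g * ⁅w, f ^ i0⁆ * g⁻¹) := by
      rw [hg1, commutatorElement_def, commutatorElement_def, commutatorElement_def]; group
    rw [h1, hwf, mul_one, mul_inv_cancel, mul_one, hk']
  have hg1N : g1 ∉ N := fun h => hgN ((N.mul_mem_cancel_right (N.pow_mem hfN i0)).mp h)
  have hpk : ¬ p ∣ k := by
    intro hd0
    have h1 : w * g1 = g1 * w := commutatorElement_eq_one_iff_mul_comm.mp (by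
      rw [hwg1, Plane.pow_eq_pow_of_modEq hcp (Nat.modEq_zero_iff_dvd.mpr hd0), pow_zero])
    have h2 : ∀ x ∈ A0, x * g1 = g1 * x := by
      intro x hx
      obtain ⟨j, hj⟩ := hAgen x hx
      rw [← mul_inv_cancel_left (w ^ j) x]
      exact ((show Commute w g1 from h1).pow_left j).mul_left (mem_center_iff.mp (zpowers_le.mpr hcZ hj) g1).symm
    obtain ⟨B, hB, hBc⟩ := exists_abelian hG (s := insert g1 (insert d (A0 : Set G))) (by
        have hA' : ∀ x ∈ A0, ∀ y ∈ insert g1 (insert d (A0 : Set G)), x * y = y * x := by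
          rintro x hx y (rfl | rfl | hy)
          exacts [h2 x hx, hAN x hx _ (hDN hdD), hAN x hx y (hDN (hAD hy))]
        have hdg : d * g1 = g1 * d := commutatorElement_eq_one_iff_mul_comm.mp hdg1
        rintro x (rfl | rfl | hx) y hy
        · rcases hy with rfl | rfl | hy
          exacts [rfl, hdg.symm, (hA' y hy _ (Or.inl rfl)).symm]
        · rcases hy with rfl | rfl | hy
          exacts [hdg, rfl, (hA' y hy _ (Or.inr (Or.inl rfl))).symm]
        · exact hA' x hx y hy)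
      (hDle _ (subset_closure (Or.inr (Or.inl rfl))) fun x hx => subset_closure (Or.inr (Or.inr hx))) hD
      (subset_closure (Or.inl rfl) : g1 ∈ closure _) fun h => hg1N (hDN h)
    obtain ⟨x, hx, y, hy, hxy⟩ := hab B hB
    exact hxy (hBc x hx y hy)
  have hk0 : ((k : ℕ) : ZMod p) ≠ 0 := fun h => hpk ((ZMod.natCast_eq_zero_iff k p).mp h)
  -- `p = 3`
  obtain rfl : p = 3 := by
    obtain ⟨T2, -, h2c, h2w, h2N, h2D, h2f, h2E⟩ := hT 2 ((p + 1) / 2) (Plane.half_modEq hp2)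
    obtain ⟨ν, -, -, hlν, hkν⟩ := hmu _ _ T2 h2c h2w h2N h2D h2f h2E
    have hl := Plane.half_modEq (p := p) hp2
    rw [← ZMod.natCast_eq_natCast_iff] at hlν hkν hl
    push_cast at hlν hkν hl
    have h3 : (3 : ZMod p) * (k : ZMod p) = 0 := by
      linear_combination (((p + 1) / 2 : ℕ) : ZMod p) * hkν + (-(k : ZMod p)) * hlν + (k : ZMod p) * hl
    have h3' : ((3 : ℕ) : ZMod p) = 0 := by exact_mod_cast (mul_eq_zero.mp h3).resolve_right hk0
    exact (Nat.prime_dvd_prime_iff_eq hp.out Nat.prime_three).mp ((ZMod.natCast_eq_zero_iff 3 p).mp h3')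
  refine ⟨rfl, ?_⟩
  have hfg1 : ⁅f, g1⁆ = d := by
    have h1 : ⁅f, g1⁆ = ⁅f, g⁆ * (g * ⁅f, f ^ i0⁆ * g⁻¹) := by
      rw [hg1, commutatorElement_def, commutatorElement_def, commutatorElement_def]; group
    rw [h1, commutatorElement_eq_one_iff_mul_comm.mpr ((Commute.refl f).pow_right i0).eq, mul_one,
      mul_inv_cancel, mul_one]
  have hcC' : c ∈ commutator G := by
    refine Plane.mem_of_pow_mem (k := 1) (by rwa [pow_one]) hpa0 ?_
    rw [← ha0']
    exact commutator_mem_commutator (mem_top _) (mem_top _)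
  have hZC : Zc ≤ commutator G := zpowers_le.mpr hcC'
  have hdC : d ∈ commutator G := commutator_mem_commutator (mem_top _) (mem_top _)
  -- the centre
  have hcen : center G = Zc := by
    refine le_antisymm (fun z hz => ?_) (zpowers_le.mpr hcZ)
    have hzE := hcenE hz
    obtain ⟨i, hi⟩ := gen_of_step hG hAE (by rw [hE, hA, ← pow_succ']) hfE hfA hzE
    set a := (f ^ i)⁻¹ * z with ha
    have hza : z = f ^ i * a := by rw [ha, mul_inv_cancel_left]
    have hzA : z ∈ A0 := by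
      have h1 : Commute d (f ^ i) := by
        have h2 : Commute d (f ^ i * a) := hza ▸ mem_center_iff.mp hz d
        have h3 : Commute d a := (hAN a hi d (hDN hdD)).symm
        simpa using h2.mul_right h3.inv_right
      have h2 := hdf 1 i
      rw [pow_one, one_mul, commutatorElement_eq_one_iff_mul_comm.mpr h1.eq] at h2
      have h3 : (3 : ℕ) ∣ a0 * i :=
        Nat.modEq_zero_iff_dvd.mp (Plane.modEq_of_pow_eq hcp hc1 (j := 0) (by rw [← h2, pow_zero]))
      rw [hza, Plane.pow_eq_pow_of_modEq hfp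
        (Nat.modEq_zero_iff_dvd.mpr ((hp.out.dvd_mul.mp h3).resolve_left hpa0)), pow_zero, one_mul]
      exact hi
    obtain ⟨j, hj⟩ := hAgen z hzA
    have h1 : ⁅w ^ j, g⁆ = 1 := commutatorElement_eq_one_iff_mul_comm.mpr (by
      have h2 : Commute g z := mem_center_iff.mp hz g
      have h3 : Commute g ((w ^ j)⁻¹ * z) := mem_center_iff.mp (zpowers_le.mpr hcZ hj) g
      have h4 := h2.mul_right h3.inv_right
      simpa using h4.symm.eq)
    rw [comm_pow_left (by rw [hk']; exact ((hcC w).symm.pow_right _)), hk', ← pow_mul] at h1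
    have h3 : (3 : ℕ) ∣ k * j :=
      Nat.modEq_zero_iff_dvd.mp (Plane.modEq_of_pow_eq hcp hc1 (j := 0) (by rw [h1, pow_zero]))
    rw [← mul_inv_cancel_left (w ^ j) z, Plane.pow_eq_pow_of_modEq hwp
      (Nat.modEq_zero_iff_dvd.mpr ((hp.out.dvd_mul.mp h3).resolve_left hpk)), pow_zero, one_mul] at hj ⊢
    simpa using hj
  refine ⟨hcen ▸ hZC, hcen ▸ hZc', ?_⟩
  -- commutators with `D`
  have hDG : ∀ x ∈ D, ∀ y, ⁅x, y⁆ ∈ Zc := by
    intro x hx y
    refine comm_mem_swap ?_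
    rw [← mem_commMod]
    refine htop (commMod Zc x) ?_ ?_ ?_ y
    · rw [mem_commMod]
      refine comm_mem_swap ?_
      rw [← mem_commMod]
      exact hDle (commMod Zc g) (mem_commMod.mpr hrZ) (fun a ha => mem_commMod.mpr (hAG a ha g)) hx
    · exact mem_commMod.mpr (hNN f hfN x (hDN hx))
    · exact fun z hz => mem_commMod.mpr (hNN z (hDN hz) x (hDN hx))
  set π := QuotientGroup.mk' Zc
  have hπd : ∀ q, Commute (π d) q := fun q => QuotientGroup.induction_on q fun y => commute_mk (hDG d hdD y)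
  haveI hzdn : (zpowers (π d)).Normal := ⟨fun a ha q => by
    obtain ⟨i, rfl⟩ := ha
    rw [show (fun n : ℤ => π d ^ n) i = π d ^ i from rfl, ← ((hπd q).zpow_left i).eq, mul_inv_cancel_right]
    exact zpow_mem (mem_zpowers _) i⟩
  set Cd := (zpowers (π d)).comap π with hCd'
  have hCdmem : ∀ x ∈ Cd, ∃ i : ℕ, (d ^ i)⁻¹ * x ∈ Zc := by
    intro x hx
    obtain ⟨i, hi⟩ := mem_powers_iff_mem_zpowers.mpr hx
    exact ⟨i, QuotientGroup.eq.mp ((map_pow π d i).trans hi)⟩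
  have hZCd : Zc ≤ Cd := fun x hx => by
    rw [hCd', mem_comap, show π x = 1 from (QuotientGroup.eq_one_iff x).mpr hx]
    exact one_mem _
  have hdCd : d ∈ Cd := mem_zpowers (π d)
  have hCdC : Cd ≤ commutator G := fun x hx => by
    obtain ⟨i, hi⟩ := hCdmem x hx
    rw [← mul_inv_cancel_left (d ^ i) x]
    exact mul_mem (pow_mem hdC i) (hZC hi)
  have hCdD : Cd ≤ D := fun x hx => by
    obtain ⟨i, hi⟩ := hCdmem x hx
    rw [← mul_inv_cancel_left (d ^ i) x]
    exact mul_mem (pow_mem hdD i) (hAD (hZA hi))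
  haveI : Cd.Normal := Normal.comap hzdn π
  have hCle : commutator G ≤ Cd := by
    rw [_root_.commutator_def, Subgroup.commutator_le]
    intro x _ y _
    rw [← mem_commMod]
    refine htop (commMod Cd y) ?_ ?_ ?_ x
    · rw [mem_commMod]
      refine comm_mem_swap ?_
      rw [← mem_commMod]
      exact htop (commMod Cd g) (mem_commMod.mpr (by rw [commutatorElement_self]; exact one_mem _))
        (mem_commMod.mpr hdCd) (fun z hz => mem_commMod.mpr (hZCd (hDG z hz g))) y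
    · rw [mem_commMod]
      refine comm_mem_swap ?_
      rw [← mem_commMod]
      exact htop (commMod Cd f) (mem_commMod.mpr (comm_mem_swap hdCd))
        (mem_commMod.mpr (by rw [commutatorElement_self]; exact one_mem _))
        (fun z hz => mem_commMod.mpr (hZCd (hDG z hz f))) y
    · exact fun z hz => mem_commMod.mpr (hZCd (hDG z hz y))
  have hdpZ : d ^ 3 ∈ Zc := by
    obtain ⟨j, hj⟩ := hAgen _ hdp
    have h1 : Commute (d ^ 3) g1 :=
      ((show Commute d g1 from commutatorElement_eq_one_iff_mul_comm.mp hdg1).pow_left 3)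
    have h2 : Commute ((w ^ j)⁻¹ * d ^ 3) g1 := (mem_center_iff.mp (zpowers_le.mpr hcZ hj) g1).symm
    have h3 : Commute (w ^ j) g1 := by simpa using h1.mul_left h2.inv_left
    have h4 := commutatorElement_eq_one_iff_mul_comm.mpr h3.eq
    rw [comm_pow_left (by rw [hwg1]; exact ((hcC w).symm.pow_right _)), hwg1, ← pow_mul] at h4
    have h5 : (3 : ℕ) ∣ k * j :=
      Nat.modEq_zero_iff_dvd.mp (Plane.modEq_of_pow_eq hcp hc1 (j := 0) (by rw [h4, pow_zero]))
    rw [Plane.pow_eq_pow_of_modEq hwp (Nat.modEq_zero_iff_dvd.mpr ((hp.out.dvd_mul.mp h5).resolve_left hpk)),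
      pow_zero, inv_one, one_mul] at hj
    exact hj
  have hdZ : d ∉ Zc := fun h => hdA (hZA h)
  have hwC : w ∉ commutator G := by
    intro h
    obtain ⟨i, hi⟩ := hCdmem w (hCle h)
    have hdi : d ^ i ∈ A0 := by
      have h1 : d ^ i = w * ((d ^ i)⁻¹ * w)⁻¹ := by group
      rw [h1]
      exact mul_mem hwA (inv_mem (hZA hi))
    obtain ⟨t, ht⟩ := dvd_of_pow_mem hdp hdA hdi
    apply hwc
    rw [← mul_inv_cancel_left (d ^ i) w]
    exact mul_mem (by rw [ht, pow_mul]; exact pow_mem hdpZ t) hi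
  have hDC : ∀ x ∈ D, ∃ i : ℕ, (w ^ i)⁻¹ * x ∈ Cd := by
    intro x hx
    obtain ⟨i, hi⟩ := hDgen x hx
    obtain ⟨j, hj⟩ := hAgen _ hi
    refine ⟨j, ?_⟩
    have hc2 : Commute (d ^ i) (w ^ j) := ((show Commute w d from hAN w hwA d (hDN hdD)).pow_pow j i).symm
    rw [show (w ^ j)⁻¹ * x = d ^ i * ((w ^ j)⁻¹ * ((d ^ i)⁻¹ * x)) by
      rw [← mul_assoc (d ^ i), (hc2.inv_right).eq, mul_assoc, mul_inv_cancel_left]]
    exact mul_mem (pow_mem hdCd i) (hZCd hj)
  have hCinv : ∀ h : MulAut G, ∀ x ∈ commutator G, h x ∈ commutator G := fun h x hx => by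
    rw [← characteristic_iff_map_eq.mp (inferInstance : (commutator G).Characteristic) h]
    exact ⟨x, hx, rfl⟩
  have hZinv : ∀ h : MulAut G, ∀ x ∈ Zc, h x ∈ Zc := fun h x hx => by
    rw [← hcen] at hx ⊢
    rw [← characteristic_iff_map_eq.mp (inferInstance : (center G).Characteristic) h]
    exact ⟨x, hx, rfl⟩
  have hfg : ∀ i j : ℕ, (⁅f, g⁆ ^ (i * j))⁻¹ * ⁅f ^ i, g ^ j⁆ ∈ Zc := fun i j => by
    have := comm_scalar (L := Zc) (a := f) (b := g) (za := 1) (zb := 1) i j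
      (hNN f hfN d (hDN hdD)) (comm_mem_swap hrZ) (by simp) (by simp) (by simp)
    simpa using this
  -- `D` is invariant
  have hDinv : ∀ h ∈ A, ∀ x ∈ D, h x ∈ D := by
    intro h _ x hx
    have hy : ∀ y, ⁅h x, y⁆ ∈ Zc := fun y => by
      have := hZinv h _ (hDG x hx (h.symm y))
      rwa [map_commutatorElement, MulEquiv.apply_symm_apply] at this
    set y := h x
    obtain ⟨j, hj⟩ := hGgen y
    have hgj : g ^ j ∈ N := by
      set n := (g ^ j)⁻¹ * y with hn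
      have h1 : ⁅f, y⁆ ∈ Zc := comm_mem_swap (hy f)
      have h2 : ⁅f, g ^ j⁆ ∈ Zc := by
        have e1 : ⁅f, y⁆ = ⁅f, g ^ j⁆ * (g ^ j * ⁅f, n⁆ * (g ^ j)⁻¹) := by
          rw [hn, commutatorElement_def, commutatorElement_def, commutatorElement_def]; group
        rw [e1] at h1
        exact (mul_mem_cancel_right (hZn.conj_mem _ (hNN f hfN n hj) _)).mp h1
      have h3 := hfg 1 j
      rw [one_mul, pow_one] at h3
      have h4 : d ^ j ∈ Zc := by
        have e : d ^ j = ⁅f, g ^ j⁆ * ((⁅f, g⁆ ^ j)⁻¹ * ⁅f, g ^ j⁆)⁻¹ := by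
          rw [mul_inv_rev, inv_inv, mul_inv_cancel_left]
        rw [e]
        exact mul_mem h2 (inv_mem h3)
      obtain ⟨t, ht⟩ := dvd_of_pow_mem hdpZ hdZ h4
      rw [ht, pow_mul]
      exact pow_mem (pow_p_mem_step hG le_top hGN (mem_top g)) t
    have hyN : y ∈ N := by rw [← mul_inv_cancel_left (g ^ j) y]; exact mul_mem hgj hj
    obtain ⟨i, hi⟩ := hNgen y hyN
    have h4 : d ^ i ∈ Zc := by
      set e := (f ^ i)⁻¹ * y with he
      have e1 : ⁅y, g⁆ = (f ^ i * ⁅e, g⁆ * (f ^ i)⁻¹) * ⁅f ^ i, g⁆ := by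
        rw [he, commutatorElement_def, commutatorElement_def, commutatorElement_def]; group
      have h1 := hy g
      rw [e1] at h1
      have h2 : ⁅f ^ i, g⁆ ∈ Zc :=
        (mul_mem_cancel_left (hZn.conj_mem _ (hDG e hi g) _)).mp h1
      have h3 := hfg i 1
      rw [mul_one, pow_one] at h3
      have e : d ^ i = ⁅f ^ i, g⁆ * ((⁅f, g⁆ ^ i)⁻¹ * ⁅f ^ i, g⁆)⁻¹ := by
        rw [mul_inv_rev, inv_inv, mul_inv_cancel_left]
      rw [e]
      exact mul_mem h2 (inv_mem h3)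
    rw [← mul_inv_cancel_left (f ^ i) y, Plane.pow_eq_pow_of_modEq hfp
      (Nat.modEq_zero_iff_dvd.mpr (dvd_of_pow_mem hdpZ hdZ h4)), pow_zero, one_mul] at hi ⊢
    simpa using hi
  -- the centralizer of the derived subgroup
  set M := centralizer ((commutator G : Subgroup G) : Set G) with hM
  haveI hMn : M.Normal := inferInstance
  have hMd : ∀ {x}, x ∈ M → ⁅d, x⁆ = 1 := fun {x} hx =>
    commutatorElement_eq_one_iff_mul_comm.mpr (mem_centralizer_iff.mp hx d hdC)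
  have hMinv : ∀ h : MulAut G, ∀ x ∈ M, h x ∈ M := fun h x hx => mem_centralizer_iff.mpr fun z hz => by
    have hz' := hCinv h.symm z hz
    have := congrArg h (mem_centralizer_iff.mp hx _ hz')
    simpa using this
  have hmemM : ∀ x, Commute d x → x ∈ M := fun x hx => mem_centralizer_iff.mpr fun z hz => by
    obtain ⟨i, hi⟩ := hCdmem z (hCle hz)
    rw [← mul_inv_cancel_left (d ^ i) z]
    exact ((hx.pow_left i).mul_left (mem_center_iff.mp (zpowers_le.mpr hcZ hi) x).symm).eq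
  have hDcomm : ∀ x ∈ D, ∀ y ∈ D, Commute x y := by
    intro x hx y hy
    have hd' : ∀ z ∈ D, Commute z d := fun z hz => by
      obtain ⟨i, hi⟩ := hDgen z hz
      rw [← mul_inv_cancel_left (d ^ i) z]
      exact ((Commute.refl d).pow_left i).mul_left (hAN _ hi d (hDN hdD))
    obtain ⟨i, hi⟩ := hDgen x hx
    rw [← mul_inv_cancel_left (d ^ i) x]
    exact ((hd' y hy).symm.pow_left i).mul_left (hAN _ hi y (hDN hy))
  have hg1M : g1 ∈ M := hmemM _ (commutatorElement_eq_one_iff_mul_comm.mp hdg1)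
  have hDM : D ≤ M := fun x hx => hmemM _ (hDcomm d hdD x hx)
  have hMgen : ∀ x ∈ M, ∃ j : ℕ, (g1 ^ j)⁻¹ * x ∈ D := by
    intro x hx
    obtain ⟨j, hj⟩ := gen_of_step hG le_top hGN (mem_top g1) hg1N (mem_top x)
    refine ⟨j, ?_⟩
    set n := (g1 ^ j)⁻¹ * x with hn
    obtain ⟨i, hi⟩ := hNgen n hj
    have hnM : n ∈ M := mul_mem (inv_mem (pow_mem hg1M j)) hx
    have hfM : f ^ i ∈ M := by
      have h1 : f ^ i = n * ((f ^ i)⁻¹ * n)⁻¹ := by group
      rw [h1]
      exact mul_mem hnM (inv_mem (hDM hi))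
    have h2 := hdf 1 i
    rw [pow_one, one_mul, hMd hfM] at h2
    have h3 : (3 : ℕ) ∣ a0 * i :=
      Nat.modEq_zero_iff_dvd.mp (Plane.modEq_of_pow_eq hcp hc1 (j := 0) (by rw [← h2, pow_zero]))
    rw [Plane.pow_eq_pow_of_modEq hfp (Nat.modEq_zero_iff_dvd.mpr ((hp.out.dvd_mul.mp h3).resolve_left hpa0)),
      pow_zero, inv_one, one_mul] at hi
    exact hi
  have hfgen : ∀ x, ∃ i : ℕ, (f ^ i)⁻¹ * x ∈ M := by
    intro x
    obtain ⟨j, hj⟩ := gen_of_step hG le_top hGN (mem_top g1) hg1N (mem_top x)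
    obtain ⟨i, hi⟩ := hNgen _ hj
    refine ⟨i, ?_⟩
    have h1 : (f ^ i)⁻¹ * x = ((f ^ i)⁻¹ * g1 ^ j * f ^ i) * ((f ^ i)⁻¹ * ((g1 ^ j)⁻¹ * x)) := by group
    rw [h1]
    exact mul_mem (by simpa using hMn.conj_mem _ (pow_mem hg1M j) (f ^ i)⁻¹) (hDM hi)
  -- every automorphism fixes `w` modulo the derived subgroup
  have hb : ∀ h ∈ A, w⁻¹ * h w ∈ commutator G := by
    intro h hh
    obtain ⟨σ, hσ⟩ := mem_powers_iff_mem_zpowers.mpr (hZinv h c (mem_zpowers c))
    have hσ' : h c = c ^ σ := hσ.symm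
    obtain ⟨al, hal⟩ := hfgen (h f)
    obtain ⟨de, hde⟩ := hMgen _ (hMinv h g1 hg1M)
    obtain ⟨b, hb'⟩ := hDC _ (hDinv h hh w (hAD hwA))
    have hgg : ∀ x ∈ M, ⁅x, g1⁆ ∈ Zc := fun x hx => by
      obtain ⟨j, hj⟩ := hMgen x hx
      rw [← mem_commMod, ← mul_inv_cancel_left (g1 ^ j) x]
      exact mul_mem (pow_mem (mem_commMod.mpr (by rw [commutatorElement_self]; exact one_mem _)) j)
        (mem_commMod.mpr (hDG _ hj g1))
    have h1 : (d ^ (al * de))⁻¹ * h d ∈ Zc := by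
      have := comm_scalar_map (L := Zc) h (a := f) (b := g1) al de M D hal hde
        (by rw [hfg1]; exact hNN f hfN d (hDN hdD))
        (by rw [hfg1]; exact comm_mem_swap (by rw [hdg1]; exact one_mem _))
        hgg (fun x _ y hy => comm_mem_swap (hDG y hy x)) (fun y hy => hNN f hfN y (hDN hy))
      rwa [hfg1] at this
    have h2 := comm_scalar_map (L := (⊥ : Subgroup G)) h (a := d) (b := f) (al * de) al Zc M h1 hal
      (by rw [ha0', hcomm0' d _ (pow_mem (mem_zpowers c) a0)]; exact one_mem _)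
      (by rw [ha0', hcomm0' f _ (pow_mem (mem_zpowers c) a0)]; exact one_mem _)
      (fun x hx => by rw [hcomm0'' f x hx]; exact one_mem _)
      (fun x hx y _ => by rw [hcomm0'' y x hx]; exact one_mem _)
      (fun y hy => by rw [hMd hy]; exact one_mem _)
    have h2' := eq_one_of_mem_bot h2
    rw [ha0', map_pow, hσ', ← pow_mul, ← pow_mul] at h2'
    have h3 := comm_scalar_map (L := (⊥ : Subgroup G)) h (a := w) (b := g1) b de Cd D hb' hde
      (by rw [hwg1, hcomm0' w _ (pow_mem (mem_zpowers c) k)]; exact one_mem _)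
      (by rw [hwg1, hcomm0' g1 _ (pow_mem (mem_zpowers c) k)]; exact one_mem _)
      (fun x hx => by
        obtain ⟨i, hi⟩ := hCdmem x hx
        rw [mem_bot, commutatorElement_eq_one_iff_mul_comm, ← mul_inv_cancel_left (d ^ i) x]
        exact (((show Commute d g1 from commutatorElement_eq_one_iff_mul_comm.mp hdg1).pow_left i).mul_left
          (mem_center_iff.mp (zpowers_le.mpr hcZ hi) g1).symm).eq)
      (fun x hx y hy => by rw [commutatorElement_eq_one_iff_mul_comm.mpr (hDcomm x (hCdD hx) y hy).eq]; exact one_mem _)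
      (fun y hy => by rw [commutatorElement_eq_one_iff_mul_comm.mpr (hAN w hwA y (hDN hy))]; exact one_mem _)
    have h3' := eq_one_of_mem_bot h3
    rw [hwg1, map_pow, hσ', ← pow_mul, ← pow_mul] at h3'
    have hσ0 : ((σ : ℕ) : ZMod 3) ≠ 0 := fun h0 => hc1 (h.injective (by
      rw [hσ', Plane.pow_eq_pow_of_modEq hcp (Nat.modEq_zero_iff_dvd.mpr ((ZMod.natCast_eq_zero_iff σ 3).mp h0)),
        pow_zero, map_one]))
    have h4 := Plane.modEq_of_pow_eq hcp hc1 h2'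
    have h5 := Plane.modEq_of_pow_eq hcp hc1 h3'
    rw [← ZMod.natCast_eq_natCast_iff] at h4 h5
    push_cast at h4 h5
    have ha00 : ((a0 : ℕ) : ZMod 3) ≠ 0 := fun h0 => hpa0 ((ZMod.natCast_eq_zero_iff a0 3).mp h0)
    have e1 : (al : ZMod 3) * de * al = σ := mul_left_cancel₀ ha00 (by linear_combination h4)
    have e2 : (b : ZMod 3) * de = σ := mul_left_cancel₀ hk0 (by linear_combination h5)
    have hb1 : b ≡ 1 [MOD 3] := by
      rw [← ZMod.natCast_eq_natCast_iff, Nat.cast_one]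
      exact scalar_three _ _ _ _ e1 e2 hσ0
    have h6 : (w ^ b)⁻¹ * h w ∈ commutator G := hCdC hb'
    rwa [Plane.pow_eq_pow_of_modEq hwp hb1, pow_one] at h6
  -- the inverting automorphism
  obtain ⟨T2, h2A, h2c, h2w, h2N, h2D, h2f, h2E⟩ := hT 2 2 (by decide)
  obtain ⟨ν, hν, -, hlν, -⟩ := hmu _ _ T2 h2c h2w h2N h2D h2f h2E
  set q := QuotientGroup.mk' D
  have hGD : Nat.card G = 3 ^ 2 * Nat.card D := by rw [hcard, hD, ← pow_add]
  have hqc : ∀ a b : G ⧸ D, Commute a b := fun a b => QuotientGroup.induction_on a fun a =>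
    QuotientGroup.induction_on b fun b => commute_mk (comm_of_card_sq hGD a b)
  have hqD : ∀ x ∈ D, q x = 1 := fun x hx => (QuotientGroup.eq_one_iff x).mpr hx
  have hT3D : ∀ x ∈ D, (T2 ^ 3) x ∈ D := fun x hx => h2D _ (h2D _ (h2D x hx))
  have hqTf : q (T2 f) = (q f)⁻¹ := by
    have h1 : q (T2 f) = q f ^ 2 := by
      rw [← map_pow]
      exact (QuotientGroup.eq.mpr (hAD h2f)).symm
    rw [h1, eq_inv_iff_mul_eq_one, ← pow_succ, ← map_pow, hfp, map_one]
  have hg3 : g ^ 3 ∈ N := pow_p_mem_step hG le_top hGN (mem_top g)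
  have hTgN : T2 g * g ∈ N := by
    have hν2 : ν + 1 ≡ 0 [MOD 3] := by
      have h1 : ν ≡ 2 [MOD 3] := by
        rw [← ZMod.natCast_eq_natCast_iff] at hlν ⊢
        push_cast at hlν ⊢
        exact two_mul_three _ hlν
      exact (h1.add_right 1).trans (Nat.modEq_zero_iff_dvd.mpr dvd_rfl)
    have h1 : g ^ (ν + 1) ∈ N := by
      obtain ⟨t, ht⟩ := Nat.modEq_zero_iff_dvd.mp hν2
      rw [ht, pow_mul]
      exact pow_mem hg3 t
    have h2 : T2 g * g = (g ^ ν * ((g ^ ν)⁻¹ * T2 g) * (g ^ ν)⁻¹) * g ^ (ν + 1) := by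
      rw [pow_succ]; group
    rw [h2]
    exact mul_mem (hNn.conj_mem _ hν _) h1
  obtain ⟨ee, hee⟩ := hNgen _ hTgN
  have hqTg : q (T2 g) = q f ^ ee * (q g)⁻¹ := by
    rw [eq_mul_inv_iff_mul_eq, ← map_mul, ← map_pow]
    exact (QuotientGroup.eq.mpr hee).symm
  have hTq : ∀ {x y : G}, q x = q y → q (T2 x) = q (T2 y) := fun {x y} h => by
    refine QuotientGroup.eq.mpr ?_
    rw [← map_inv, ← map_mul]
    exact h2D _ (QuotientGroup.eq.mp h)
  have hqT3f : q ((T2 ^ 3) f) = (q f)⁻¹ := by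
    show q (T2 (T2 (T2 f))) = _
    have e1 : q (T2 f) = q f⁻¹ := by rw [hqTf, map_inv]
    have e2 : q (T2 (T2 f)) = q f := by rw [hTq e1, map_inv, map_inv, hqTf, inv_inv]
    rw [hTq e2, hqTf]
  have hqT3g : q ((T2 ^ 3) g) = (q g)⁻¹ := by
    show q (T2 (T2 (T2 g))) = _
    have e1 : q (T2 g) = q (f ^ ee * g⁻¹) := by rw [hqTg, map_mul, map_pow, map_inv]
    have e2 : q (T2 (T2 g)) = q ((f ^ ee)⁻¹ * g * (f ^ ee)⁻¹) := by
      rw [hTq e1]
      simp only [map_mul, map_pow, map_inv, hqTf, hqTg, mul_inv_rev, inv_inv, inv_pow, mul_assoc]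
    rw [hTq e2]
    simp only [map_mul, map_pow, map_inv, hqTf, hqTg, inv_inv, inv_pow]
    rw [(hqc (q f ^ ee * (q f ^ ee * (q g)⁻¹)) (q f ^ ee)).eq, ← mul_assoc, ← mul_assoc, ← pow_add, ← pow_add,
      show ee + ee + ee = 3 * ee by ring, pow_mul, show q f ^ 3 = 1 by rw [← map_pow, hfp, map_one], one_pow,
      one_mul]
  have hTx : ∀ x, (T2 ^ 3) x * x ∈ D := by
    intro x
    refine htop
      { carrier := {x | (T2 ^ 3) x * x ∈ D}
        one_mem' := by simp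
        mul_mem' := fun {a b} ha hb => by
          show (T2 ^ 3) (a * b) * (a * b) ∈ D
          rw [← QuotientGroup.eq_one_iff]
          show q _ = 1
          have ha' : q ((T2 ^ 3) a) * q a = 1 := (map_mul q _ _).symm.trans (hqD _ ha)
          have hb' : q ((T2 ^ 3) b) * q b = 1 := (map_mul q _ _).symm.trans (hqD _ hb)
          rw [map_mul, map_mul, map_mul, map_mul, mul_assoc, ← mul_assoc (q ((T2 ^ 3) b)),
            (hqc (q ((T2 ^ 3) b)) (q a)).eq, mul_assoc, hb', mul_one, ha']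
        inv_mem' := fun {a} ha => by
          show (T2 ^ 3) a⁻¹ * a⁻¹ ∈ D
          rw [← QuotientGroup.eq_one_iff]
          show q _ = 1
          have ha' : q ((T2 ^ 3) a) * q a = 1 := (map_mul q _ _).symm.trans (hqD _ ha)
          rw [map_mul, map_inv, map_inv, map_inv, ← mul_inv_rev, (hqc (q a) _).eq, ha', inv_one] }
      ?_ ?_ ?_ x
    · show (T2 ^ 3) g * g ∈ D
      rw [← QuotientGroup.eq_one_iff]
      show q _ = 1
      rw [map_mul, hqT3g, inv_mul_cancel]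
    · show (T2 ^ 3) f * f ∈ D
      rw [← QuotientGroup.eq_one_iff]
      show q _ = 1
      rw [map_mul, hqT3f, inv_mul_cancel]
    · exact fun z hz => mul_mem (hT3D z hz) hz
  exact exists_invariant hG hp2 hm hinn (M := D) hDinv (hAD hwA) hwC
    (fun x hx => (hDC x hx).imp fun i hi => hCdC hi) (by rw [hwp]; exact one_mem _)
    (T := T2 ^ 3) (pow_mem h2A 3) (mod_iter (hCinv T2) (hZC h2w) 3) hTx hb

end Cfsg.Lib.OrderPFive
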