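import Cfsg.Agent.Lib.OrderPFive.CalcElem

/-!
# Groups of order `p ^ 5` with automorphisms inherited from a self-centralizing subgroup of order `p ^ 2`
-/

set_option autoImplicit false
set_option linter.style.haveILetI false

namespace Cfsg.Lib.OrderPFive

open Subgroup
open Cfsg.Lib.FusionSys
open scoped commutatorElement

theorem scalar_three' : ∀ a b s : ZMod 3, a * (a * (a * b)) = s → b * (a * b) = s → s ≠ 0 → b = 1 := by
  decide

variable {p : ℕ} [hp : Fact p.Prime] {G : Type*} [Group G]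

/-- The calculation: `p = 3` and a proper subgroup contains all displacements. -/
theorem calc_pearl [Finite G] (hG : IsPGroup p G) (hp2 : p ≠ 2) (hp7 : p ≠ 7)
    (hcard : Nat.card G = p ^ 5)
    (hab : ∀ B : Subgroup G, p ^ 4 ≤ Nat.card B → ∃ a ∈ B, ∃ b ∈ B, a * b ≠ b * a)
    {E N1 D1 D2 Γ N2 : Subgroup G} [hD1n : D1.Normal] [hD2n : D2.Normal] [hΓn : Γ.Normal] [hN2n : N2.Normal]
    {z x g : G} (hzp : z ^ p = 1) (hz1 : z ≠ 1) (hcen : center G = zpowers z) (hzE : z ∈ E)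
    (hxE : x ∈ E) (hxp : x ^ p = 1) (hxz : x ∉ zpowers z) (hE : Nat.card E = p ^ 2)
    (hCE : ∀ y, y * x = x * y → y ∈ E) (hEN1 : E ≤ N1) (hN1 : Nat.card N1 = p ^ 3) (hN1n : ¬ N1.Normal)
    (hNorm : ∀ y, ⁅x, y⁆ ∈ zpowers z → y ∈ N1) (hN1N2 : N1 ≤ N2) (hN2 : Nat.card N2 = p ^ 4)
    (hN2norm : ∀ y, ⁅x, y⁆ ∈ D1 → y ∈ N2) (hzD1 : z ∈ D1) (hD1 : Nat.card D1 = p ^ 2) (hD12 : D1 ≤ D2)
    (hD2 : Nat.card D2 = p ^ 3) (hD2Γ : D2 ≤ Γ) (hΓ : Nat.card Γ = p ^ 4) (hD2N2 : D2 ≤ N2)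
    (hΓD1 : ∀ y ∈ Γ, ∀ a ∈ D1, y * a = a * y) (hgΓ : g ∈ Γ) (hgD2 : g ∉ D2)
    (A : Subgroup (MulAut G)) {m : ℕ} (hm : ¬ p ∣ m) (hinn : ∀ γ ∈ A, ∃ y, γ ^ m = MulAut.conj y)
    (hT : ∃ T ∈ A, T z = z ^ 2 ∧ (x ^ ((p + 1) / 2))⁻¹ * T x ∈ D1 ∧
      (∀ y ∈ D1, (y ^ 4)⁻¹ * T y ∈ zpowers z) ∧ ∀ y ∈ N2, T y ∈ N2) :
    p = 3 ∧ center G ≤ commutator G ∧ Nat.card (center G) = p ∧
      ∃ K : Subgroup G, commutator G ≤ K ∧ K ≠ ⊤ ∧ ∀ h ∈ A, ∀ y, y⁻¹ * h y ∈ K := by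
  set Zc := zpowers z with hZc
  haveI hZn : Zc.Normal := hcen ▸ inferInstance
  have hzC : ∀ {a}, a ∈ Zc → ∀ y : G, y * a = a * y := fun {a} ha y => by
    rw [← hcen] at ha
    exact mem_center_iff.mp ha y
  have hZc' : Nat.card Zc = p := by rw [hZc, Nat.card_zpowers, orderOf_eq_prime hzp hz1]
  have hZD1 : Zc ≤ D1 := zpowers_le.mpr hzD1
  have hZE : Zc ≤ E := zpowers_le.mpr hzE
  have s1 : Nat.card D1 = p * Nat.card Zc := by rw [hD1, hZc', sq]
  have s2 : Nat.card D2 = p * Nat.card D1 := by rw [hD2, hD1, ← pow_succ']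
  have s3 : Nat.card Γ = p * Nat.card D2 := by rw [hΓ, hD2, ← pow_succ']
  have s4 : Nat.card (⊤ : Subgroup G) = p * Nat.card Γ := by rw [card_top, hcard, hΓ, ← pow_succ']
  have hD1G : ∀ a ∈ D1, ∀ y, ⁅a, y⁆ ∈ Zc := fun a ha y => (comm_mem_step hG hZD1 s1 ha y).2
  have hD2G : ∀ a ∈ D2, ∀ y, ⁅a, y⁆ ∈ D1 := fun a ha y => (comm_mem_step hG hD12 s2 ha y).2
  have hD1N1 : D1 ≤ N1 := fun a ha => hNorm a (comm_mem_swap (hD1G a ha x))
  have hxΓ : x ∉ Γ := by
    intro hx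
    have h1 : D1 ≤ E := fun a ha => hCE a (hΓD1 x hx a ha).symm
    have h2 : D1 = E := eq_of_le_of_card_ge h1 (by rw [hE, hD1])
    have h3 : Γ ≤ E := fun y hy => hCE y (hΓD1 y hy x (h2 ▸ hxE))
    have := card_le_of_le h3
    rw [hΓ, hE] at this
    exact absurd ((Nat.pow_le_pow_iff_right hp.out.one_lt).mp this) (by norm_num)
  have hED1 : E ⊓ D1 = Zc := by
    have hle : Zc ≤ E ⊓ D1 := le_inf hZE hZD1
    by_contra hne
    have h1 : Zc < E ⊓ D1 := lt_of_le_of_ne hle (Ne.symm hne)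
    have h2 : E ⊓ D1 = D1 := eq_of_step hG h1 inf_le_right s1
    have h3 : D1 = E := eq_of_le_of_card_ge (h2.ge.trans inf_le_left) (by rw [hE, hD1])
    exact hxΓ (hD2Γ (hD12 (h3.ge hxE)))
  have hN2Γ : N2 ⊓ Γ = D2 := by
    by_contra hne
    have h1 : D2 < N2 ⊓ Γ := lt_of_le_of_ne (le_inf hD2N2 hD2Γ) (Ne.symm hne)
    have h2 : N2 ⊓ Γ = Γ := eq_of_step hG h1 inf_le_right s3
    have h3 : Γ = N2 := eq_of_le_of_card_ge (h2.ge.trans inf_le_left) (by rw [hN2, hΓ])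
    exact hxΓ (h3.ge (hN1N2 (hEN1 hxE)))
  have hD1gen : ∀ {w}, w ∈ D1 → w ∉ Zc → ∀ a ∈ D1, ∃ i : ℕ, (w ^ i)⁻¹ * a ∈ Zc := fun hw hwZ a ha =>
    gen_of_step hG hZD1 s1 hw hwZ ha
  have hΓgen : ∀ a ∈ Γ, ∃ i : ℕ, (g ^ i)⁻¹ * a ∈ D2 := fun a ha =>
    gen_of_step hG hD2Γ s3 hgΓ hgD2 ha
  set c := ⁅x, g⁆ with hc'
  have hcD2 : c ∈ D2 := by
    rw [← hN2Γ]
    refine ⟨?_, ?_⟩
    · rw [hc', commutatorElement_def, mul_assoc, mul_assoc]
      exact mul_mem (hN1N2 (hEN1 hxE)) (by simpa [mul_assoc] using hN2n.conj_mem _ (inv_mem (hN1N2 (hEN1 hxE))) g)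
    · show c ∈ Γ
      rw [hc', commutatorElement_def]
      exact mul_mem (hΓn.conj_mem _ hgΓ x) (inv_mem hgΓ)
  have hcD1 : c ∉ D1 := fun h => hgD2 (hN2Γ.le ⟨hN2norm g h, hgΓ⟩)
  set w := ⁅x, c⁆ with hw'
  have hwD1 : w ∈ D1 := comm_mem_swap (hD2G c hcD2 x)
  have hwZ : w ∉ Zc := by
    intro h
    have hcN1 : c ∈ N1 ⊓ D2 := ⟨hNorm c h, hcD2⟩
    have h1 : D1 < N1 ⊓ D2 := lt_of_le_of_ne (le_inf hD1N1 hD12) fun e => hcD1 (e.ge hcN1)
    have h2 : N1 ⊓ D2 = D2 := eq_of_step hG h1 inf_le_right s2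
    have h3 : D2 = N1 := eq_of_le_of_card_ge (h2.ge.trans inf_le_left) (by rw [hN1, hD2])
    exact hN1n (h3 ▸ hD2n)
  have hwp : w ^ p ∈ Zc := pow_p_mem_step hG hZD1 s1 hwD1
  have hcp : c ^ p ∈ D1 := pow_p_mem_step hG hD12 s2 hcD2
  have hΓc : ∀ y ∈ Γ, Commute y w := fun y hy => hΓD1 y hy w hwD1
  have hD2c : ∀ a ∈ D2, ∀ b ∈ D2, a * b = b * a := by
    intro a ha b hb
    obtain ⟨i, hi⟩ := gen_of_step hG hD12 s2 hcD2 hcD1 ha
    obtain ⟨j, hj⟩ := gen_of_step hG hD12 s2 hcD2 hcD1 hb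
    rw [← mul_inv_cancel_left (c ^ i) a, ← mul_inv_cancel_left (c ^ j) b]
    have h1 : ∀ (k : ℕ), ∀ u ∈ D1, Commute (c ^ k) u := fun k u hu =>
      hΓD1 _ (pow_mem (hD2Γ hcD2) k) u hu
    exact ((((Commute.refl c).pow_pow i j).mul_right (h1 i _ hj)).mul_left
      ((h1 j _ hi).symm.mul_right (hΓD1 _ (hD2Γ (hD12 hi)) _ hj))).eq
  -- the commutator of `g` and `c` is central
  set r := ⁅g, c⁆ with hr'
  have hrD1 : r ∈ D1 := comm_mem_swap (hD2G c hcD2 g)
  have hrZ : r ∈ Zc := by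
    rw [← hED1]
    refine ⟨hCE r ?_, hrD1⟩
    have h1 : x * r * x⁻¹ = ⁅x * g * x⁻¹, x * c * x⁻¹⁆ := by
      rw [hr', commutatorElement_def, commutatorElement_def]; group
    have e1 : x * g * x⁻¹ = c * g := by rw [hc', commutatorElement_def]; group
    have e2 : x * c * x⁻¹ = w * c := by rw [hw', commutatorElement_def]; group
    have cc : Commute c w := hΓc c (hD2Γ hcD2)
    have cg : Commute g w := hΓc g hgΓ
    have cr : Commute c r := hΓD1 c (hD2Γ hcD2) r hrD1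
    have h2 : ⁅c * g, w * c⁆ = r := by
      have e3 : ⁅c * g, w * c⁆ = w * ⁅c * g, c⁆ * w⁻¹ := by
        simp only [commutatorElement_def]
        calc c * g * (w * c) * (c * g)⁻¹ * (w * c)⁻¹ = (c * g * w) * c * (c * g)⁻¹ * c⁻¹ * w⁻¹ := by group
          _ = _ := by rw [((cc.mul_left cg)).eq]; group
      have e4 : ⁅c * g, c⁆ = c * r * c⁻¹ := by rw [hr', commutatorElement_def, commutatorElement_def]; group
      rw [e3, e4, cr.eq, mul_inv_cancel_right, (show Commute w r from (hΓc r (hD2Γ (hD12 hrD1))).symm).eq,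
        mul_inv_cancel_right]
    rw [e1, e2, h2] at h1
    exact (mul_inv_eq_iff_eq_mul.mp h1).symm
  obtain ⟨k, hk⟩ := mem_powers_iff_mem_zpowers.mpr hrZ
  have hk' : ⁅g, c⁆ = z ^ k := hk.symm
  have hcentral : ∀ (a : G), ∀ u ∈ Zc, ⁅a, u⁆ = 1 ∧ ⁅u, a⁆ = 1 := fun a u hu =>
    ⟨commutatorElement_eq_one_iff_mul_comm.mpr (hzC hu a),
      commutatorElement_eq_one_iff_mul_comm.mpr (hzC hu a).symm⟩
  have hpk : ¬ p ∣ k := by
    intro hd0
    have h1 : g * c = c * g := commutatorElement_eq_one_iff_mul_comm.mp (by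
      rw [hk', Plane.pow_eq_pow_of_modEq hzp (Nat.modEq_zero_iff_dvd.mpr hd0), pow_zero])
    obtain ⟨B, hB, hBc⟩ := exists_abelian hG (s := insert g (D2 : Set G)) (by
        have hg : ∀ a ∈ D2, g * a = a * g := fun a ha => by
          obtain ⟨i, hi⟩ := gen_of_step hG hD12 s2 hcD2 hcD1 ha
          rw [← mul_inv_cancel_left (c ^ i) a]
          exact (((show Commute g c from h1).pow_right i).mul_right (hΓD1 g hgΓ _ hi)).eq
        rintro a (rfl | ha) b (rfl | hb)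
        exacts [rfl, hg b hb, (hg a ha).symm, hD2c a ha b hb])
      (fun a ha => subset_closure (Or.inr ha)) hD2 (subset_closure (Or.inl rfl) : g ∈ closure _) hgD2
    obtain ⟨a, ha, b, hb, hne⟩ := hab B hB
    exact hne (hBc a ha b hb)
  -- the invariance of the series
  have hΓ' : ∀ y, (∀ a ∈ D1, y * a = a * y) → y ∈ Γ := by
    intro y hy
    let C : Subgroup G := centralizer (D1 : Set G)
    have h1 : Γ ≤ C := fun u hu => mem_centralizer_iff.mpr fun a ha => (hΓD1 u hu a ha).symm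
    have h2 : y ∈ C := mem_centralizer_iff.mpr fun a ha => (hy a ha).symm
    by_contra hyΓ
    have h3 : Γ < C := lt_of_le_of_ne h1 fun e => hyΓ (e.ge h2)
    have h4 : C = ⊤ := eq_of_step hG h3 le_top s4
    have h5 : D1 ≤ E := fun a ha => hCE a
      (mem_centralizer_iff.mp (h4.ge (mem_top x) : x ∈ C) a ha)
    exact hxΓ (hD2Γ (hD12 ((eq_of_le_of_card_ge h5 (by rw [hE, hD1])).ge hxE)))
  have hZinv : ∀ (h : MulAut G), ∀ u ∈ Zc, h u ∈ Zc := fun h u hu => by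
    rw [← hcen] at hu ⊢
    rw [← characteristic_iff_map_eq.mp (inferInstance : (center G).Characteristic) h]
    exact ⟨u, hu, rfl⟩
  have hD1inv : ∀ (h : MulAut G), ∀ u ∈ D1, h u ∈ D1 := by
    intro h u hu
    set X := D1.map h.toMonoidHom with hX
    haveI : X.Normal := Normal.map hD1n _ h.surjective
    have hXc : Nat.card X = p ^ 2 := by rw [hX, card_map_of_injective h.injective, hD1]
    have hZX : Zc ≤ X := fun v hv => ⟨h.symm v, hZD1 (hZinv h.symm v hv), h.apply_symm_apply v⟩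
    have hXN : X ≤ N1 := fun v hv =>
      hNorm v (comm_mem_swap (comm_mem_step hG hZX (by rw [hXc, hZc', sq]) hv x).2)
    by_contra hn
    have hlt : D1 < D1 ⊔ X := lt_of_le_of_ne le_sup_left fun e => hn (e.symm ▸ mem_sup_right ⟨u, hu, rfl⟩)
    have h2 : D1 ⊔ X = N1 := eq_of_step hG hlt (sup_le hD1N1 hXN) (by rw [hN1, hD1, ← pow_succ'])
    exact hN1n (h2 ▸ sup_normal D1 X)
  have hΓinv : ∀ (h : MulAut G), ∀ u ∈ Γ, h u ∈ Γ := fun h u hu => hΓ' _ fun a ha => by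
    have := congrArg h (hΓD1 u hu _ (hD1inv h.symm a ha))
    simpa using this
  -- the scalars
  obtain ⟨T, hTA, hTz, hTx, hT4, hTN2⟩ := hT
  set l := (p + 1) / 2
  have hl : ((2 : ℕ) : ZMod p) * (l : ZMod p) = 1 := by
    rw [← Nat.cast_mul, ← Nat.cast_one, ZMod.natCast_eq_natCast_iff]
    exact Plane.half_modEq hp2
  have hTc : T c ∈ D2 := hN2Γ.le ⟨hTN2 c (hD2N2 hcD2), hΓinv T c (hD2Γ hcD2)⟩
  obtain ⟨μ, hμ⟩ := gen_of_step hG hD12 s2 hcD2 hcD1 hTc
  obtain ⟨ν, hν⟩ := hΓgen _ (hΓinv T g hgΓ)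
  have e1 : l * μ ≡ 4 [MOD p] := by
    have h1 : (w ^ (l * μ))⁻¹ * T w ∈ Zc :=
      comm_scalar_map T l μ D1 D1 hTx hμ (comm_mem_swap (hD1G w hwD1 x)) (comm_mem_swap (hD1G w hwD1 c))
        (fun u hu => hD1G u hu c) (fun u hu v _ => hD1G u hu v)
        (fun v hv => comm_mem_swap (hD1G v hv x))
    have h2 : (w ^ 4)⁻¹ * T w ∈ Zc := hT4 w hwD1
    exact modEq_of_pow_mem hwp hwZ (mod_trans h1 h2)
  have e2 : l * ν ≡ μ [MOD p] := by
    have h1 : (c ^ (l * ν))⁻¹ * T c ∈ D1 :=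
      comm_scalar_map T l ν D1 D2 hTx hν (comm_mem_swap (hD2G c hcD2 x)) (comm_mem_swap (hD2G c hcD2 g))
        (fun u hu => hZD1 (hD1G u hu g)) (fun u hu v _ => hZD1 (hD1G u hu v))
        (fun v hv => comm_mem_swap (hD2G v hv x))
    exact modEq_of_pow_mem hcp hcD1 (mod_trans h1 hμ)
  have e3 : k * (ν * μ) ≡ 2 * k [MOD p] := by
    have h3 := comm_scalar_map (L := (⊥ : Subgroup G)) T (a := g) (b := c) ν μ D2 D1 hν hμ
      (by rw [hk', (hcentral g _ (pow_mem (mem_zpowers z) k)).1]; exact one_mem _)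
      (by rw [hk', (hcentral c _ (pow_mem (mem_zpowers z) k)).1]; exact one_mem _)
      (fun u hu => by rw [commutatorElement_eq_one_iff_mul_comm.mpr (hD2c u hu c hcD2)]; exact one_mem _)
      (fun u hu v hv => by rw [commutatorElement_eq_one_iff_mul_comm.mpr (hΓD1 u (hD2Γ hu) v hv)]; exact one_mem _)
      (fun v hv => by rw [commutatorElement_eq_one_iff_mul_comm.mpr (hΓD1 g hgΓ v hv)]; exact one_mem _)
    have h4 := eq_one_of_mem_bot h3
    rw [hk', map_pow, hTz, ← pow_mul, ← pow_mul] at h4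
    exact Plane.modEq_of_pow_eq hzp hz1 h4
  have hk0 : ((k : ℕ) : ZMod p) ≠ 0 := fun h => hpk ((ZMod.natCast_eq_zero_iff k p).mp h)
  rw [← ZMod.natCast_eq_natCast_iff] at e1 e2 e3
  push_cast at e1 e2 e3 hl
  have hμ8 : (μ : ZMod p) = 8 := by linear_combination 2 * e1 - (μ : ZMod p) * hl
  have hν16 : (ν : ZMod p) = 16 := by linear_combination 2 * e2 - (ν : ZMod p) * hl + 2 * hμ8
  have h126 : ((2 * (3 * (3 * 7)) : ℕ) : ZMod p) = 0 := by
    rw [hν16, hμ8] at e3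
    push_cast
    have h0 := (mul_eq_zero.mp (show (k : ZMod p) * (2 * (3 * (3 * 7))) = 0 by linear_combination e3)).resolve_left hk0
    linear_combination h0
  obtain rfl : p = 3 := by
    have hd := (ZMod.natCast_eq_zero_iff _ p).mp h126
    have h7 : Nat.Prime 7 := by decide
    rcases hp.out.dvd_mul.mp hd with h | h
    · exact absurd ((Nat.prime_dvd_prime_iff_eq hp.out Nat.prime_two).mp h) hp2
    rcases hp.out.dvd_mul.mp h with h | h
    · exact (Nat.prime_dvd_prime_iff_eq hp.out Nat.prime_three).mp h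
    rcases hp.out.dvd_mul.mp h with h | h
    · exact (Nat.prime_dvd_prime_iff_eq hp.out Nat.prime_three).mp h
    · exact absurd ((Nat.prime_dvd_prime_iff_eq hp.out h7).mp h) hp7
  refine ⟨rfl, ?_⟩
  -- the derived subgroup
  obtain ⟨ll, hll⟩ := mem_powers_iff_mem_zpowers.mpr (comm_mem_swap (hD1G w hwD1 x) : ⁅x, w⁆ ∈ Zc)
  have hll' : ⁅x, w⁆ = z ^ ll := hll.symm
  have hpl : ¬ (3 : ℕ) ∣ ll := fun hd => hwZ (hED1.le ⟨hCE w (commutatorElement_eq_one_iff_mul_comm.mp (by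
    rw [hll', Plane.pow_eq_pow_of_modEq hzp (Nat.modEq_zero_iff_dvd.mpr hd), pow_zero])).symm, hwD1⟩)
  have hzCm : z ∈ commutator G := by
    refine Plane.mem_of_pow_mem (k := 1) (by rwa [pow_one]) hpl ?_
    rw [← hll']
    exact commutator_mem_commutator (mem_top _) (mem_top _)
  have hD2C : D2 ≤ commutator G := by
    intro u hu
    obtain ⟨i, hi⟩ := gen_of_step hG hD12 s2 hcD2 hcD1 hu
    obtain ⟨j, hj⟩ := hD1gen hwD1 hwZ _ hi
    rw [← mul_inv_cancel_left (c ^ i) u, ← mul_inv_cancel_left (w ^ j) ((c ^ i)⁻¹ * u)]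
    exact mul_mem (pow_mem (commutator_mem_commutator (mem_top _) (mem_top _)) i)
      (mul_mem (pow_mem (commutator_mem_commutator (mem_top _) (mem_top _)) j) (zpowers_le.mpr hzCm hj))
  have hCD2 : commutator G ≤ D2 := by
    rw [_root_.commutator_def, Subgroup.commutator_le]
    exact fun a _ b _ => comm_of_card_sq (by rw [hcard, hD2, ← pow_add]) a b
  refine ⟨hcen ▸ zpowers_le.mpr hzCm, hcen ▸ hZc', ?_⟩
  have hxgen : ∀ y, ∃ i : ℕ, (x ^ i)⁻¹ * y ∈ Γ := fun y =>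
    gen_of_step hG le_top s4 (mem_top x) hxΓ (mem_top y)
  -- every automorphism fixes `g` modulo the derived subgroup
  have hb : ∀ h ∈ A, g⁻¹ * h g ∈ commutator G := by
    intro h _
    obtain ⟨a, ha⟩ := hxgen (h x)
    obtain ⟨b, hb'⟩ := hΓgen _ (hΓinv h g hgΓ)
    obtain ⟨s, hs⟩ := mem_powers_iff_mem_zpowers.mpr (hZinv h z (mem_zpowers z))
    have hs' : h z = z ^ s := hs.symm
    have h1 : (c ^ (a * b))⁻¹ * h c ∈ D1 :=
      comm_scalar_map h a b Γ D2 ha hb' (comm_mem_swap (hD2G c hcD2 x)) (comm_mem_swap (hD2G c hcD2 g))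
        (fun u hu => by
          obtain ⟨i, hi⟩ := hΓgen u hu
          rw [← mem_commMod, ← mul_inv_cancel_left (g ^ i) u]
          exact mul_mem (pow_mem (mem_commMod.mpr (by rw [commutatorElement_self]; exact one_mem _)) i)
            (mem_commMod.mpr (hD2G _ hi g)))
        (fun u _ v hv => comm_mem_swap (hD2G v hv u)) (fun v hv => comm_mem_swap (hD2G v hv x))
    have h2 : (w ^ (a * (a * b)))⁻¹ * h w ∈ Zc :=
      comm_scalar_map h a (a * b) Γ D1 ha h1 (comm_mem_swap (hD1G w hwD1 x)) (comm_mem_swap (hD1G w hwD1 c))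
        (fun u hu => by
          obtain ⟨i, hi⟩ := hΓgen u hu
          rw [← mem_commMod, ← mul_inv_cancel_left (g ^ i) u]
          exact mul_mem (pow_mem (mem_commMod.mpr hrZ) i) (mem_commMod.mpr (by
            rw [commutatorElement_eq_one_iff_mul_comm.mpr (hD2c _ hi c hcD2)]; exact one_mem _)))
        (fun u hu v hv => by rw [commutatorElement_eq_one_iff_mul_comm.mpr (hΓD1 u hu v hv)]; exact one_mem _)
        (fun v hv => comm_mem_swap (hD1G v hv x))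
    have h3 := eq_one_of_mem_bot (comm_scalar_map (L := (⊥ : Subgroup G)) h (a := x) (b := w) a (a * (a * b)) Γ Zc ha h2
      (by rw [hll', (hcentral x _ (pow_mem (mem_zpowers z) ll)).1]; exact one_mem _)
      (by rw [hll', (hcentral w _ (pow_mem (mem_zpowers z) ll)).1]; exact one_mem _)
      (fun u hu => by rw [commutatorElement_eq_one_iff_mul_comm.mpr (hΓc u hu).eq]; exact one_mem _)
      (fun u _ v hv => by rw [(hcentral u v hv).1]; exact one_mem _)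
      (fun v hv => by rw [(hcentral x v hv).1]; exact one_mem _))
    have h4 := eq_one_of_mem_bot (comm_scalar_map (L := (⊥ : Subgroup G)) h (a := g) (b := c) b (a * b) D2 D1 hb' h1
      (by rw [hk', (hcentral g _ (pow_mem (mem_zpowers z) k)).1]; exact one_mem _)
      (by rw [hk', (hcentral c _ (pow_mem (mem_zpowers z) k)).1]; exact one_mem _)
      (fun u hu => by rw [commutatorElement_eq_one_iff_mul_comm.mpr (hD2c u hu c hcD2)]; exact one_mem _)
      (fun u hu v hv => by rw [commutatorElement_eq_one_iff_mul_comm.mpr (hΓD1 u (hD2Γ hu) v hv)]; exact one_mem _)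
      (fun v hv => by rw [commutatorElement_eq_one_iff_mul_comm.mpr (hΓD1 g hgΓ v hv)]; exact one_mem _))
    rw [hll', map_pow, hs', ← pow_mul, ← pow_mul] at h3
    rw [hk', map_pow, hs', ← pow_mul, ← pow_mul] at h4
    have e4 := Plane.modEq_of_pow_eq hzp hz1 h3
    have e5 := Plane.modEq_of_pow_eq hzp hz1 h4
    rw [← ZMod.natCast_eq_natCast_iff] at e4 e5
    push_cast at e4 e5
    have hs0 : ((s : ℕ) : ZMod 3) ≠ 0 := fun h0 => hz1 (h.injective (by
      rw [hs', Plane.pow_eq_pow_of_modEq hzp (Nat.modEq_zero_iff_dvd.mpr ((ZMod.natCast_eq_zero_iff s 3).mp h0)),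
        pow_zero, map_one]))
    have hl0 : ((ll : ℕ) : ZMod 3) ≠ 0 := fun h0 => hpl ((ZMod.natCast_eq_zero_iff ll 3).mp h0)
    have f1 : (a : ZMod 3) * (a * (a * b)) = s := mul_left_cancel₀ hl0 (by linear_combination e4)
    have f2 : (b : ZMod 3) * (a * b) = s := mul_left_cancel₀ hk0 (by linear_combination e5)
    have hb1 : 1 ≡ b [MOD 3] := by
      rw [← ZMod.natCast_eq_natCast_iff, Nat.cast_one]
      exact (scalar_three' _ _ _ f1 f2 hs0).symm
    have := mod_trans' (pow_congr_mem (pow_p_mem_step hG hD2Γ s3 hgΓ) hb1) hb'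
    rw [pow_one] at this
    exact hD2C this
  refine exists_invariant hG hp2 hm hinn (M := Γ) (fun h _ => hΓinv h) hgΓ (fun h => hgD2 (hCD2 h))
    (fun u hu => (hΓgen u hu).imp fun i hi => hD2C hi) (hD2C (pow_p_mem_step hG hD2Γ s3 hgΓ))
    (T := T) hTA (hb T hTA) ?_ hb
  intro y
  obtain ⟨i, hi⟩ := hxgen y
  set q := QuotientGroup.mk' Γ
  have hqx : q (T x) = q x ^ 2 := by
    rw [← map_pow]
    refine (QuotientGroup.eq.mpr ?_).symm
    exact hD2Γ (hD12 hTx)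
  have hqy : q y = q x ^ i := by rw [← map_pow]; exact (QuotientGroup.eq.mpr hi).symm
  have hqTy : q (T y) = (q x ^ 2) ^ i := by
    rw [← hqx, ← map_pow, ← map_pow]
    refine (QuotientGroup.eq.mpr ?_).symm
    rw [← map_inv, ← map_mul]
    exact hΓinv T _ hi
  rw [← QuotientGroup.eq_one_iff]
  show q _ = 1
  rw [map_mul, hqTy, hqy, ← pow_mul, ← pow_add, show 2 * i + i = 3 * i by ring, pow_mul, ← map_pow q x 3, hxp,
    map_one, one_pow]

end Cfsg.Lib.OrderPFive
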