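import Cfsg.Agent.Lib.OrderPFive.Groups

/-!
# Automorphism groups of an elementary abelian group of order `p ^ 3` with Sylow subgroups of order `p ^ 2`

Such a group has a nontrivial normal `p`-subgroup.
-/

set_option autoImplicit false
set_option linter.style.haveILetI false

namespace Cfsg.Lib.OrderPFive

open Subgroup
open Cfsg.Lib.FusionSys

section

variable {p : ℕ} [hp : Fact p.Prime] {E : Type*} [Group E] [Finite E] {A : Subgroup (MulAut E)}

/-- Fixing `U` pointwise and moving every element inside its coset of `L`. -/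
def fixShift (A : Subgroup (MulAut E)) (U L : Subgroup E) (hLU : L ≤ U) : Subgroup A where
  carrier := {a | (∀ x ∈ U, (a : MulAut E) x = x) ∧ ∀ x, x⁻¹ * (a : MulAut E) x ∈ L}
  one_mem' := ⟨fun x _ => by simp, fun x => by simp⟩
  mul_mem' := by
    rintro a b ⟨ha, ha'⟩ ⟨hb, hb'⟩
    refine ⟨fun x hx => by rw [Subgroup.coe_mul, MulAut.mul_apply, hb x hx, ha x hx], fun x => ?_⟩
    rw [Subgroup.coe_mul, MulAut.mul_apply]
    have h1 : (b : MulAut E) x = x * (x⁻¹ * (b : MulAut E) x) := (mul_inv_cancel_left _ _).symm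
    rw [h1, map_mul, ha _ (hLU (hb' x)), ← mul_assoc]
    exact mul_mem (ha' x) (hb' x)
  inv_mem' := by
    rintro a ⟨ha, ha'⟩
    have key : ∀ v, (a : MulAut E) (((a⁻¹ : A) : MulAut E) v) = v := fun v => by
      rw [← MulAut.mul_apply, ← Subgroup.coe_mul, mul_inv_cancel, Subgroup.coe_one, MulAut.one_apply]
    refine ⟨fun x hx => (a : MulAut E).injective (by rw [key, ha x hx]), fun x => ?_⟩
    have h := ha' (((a⁻¹ : A) : MulAut E) x)
    rw [key] at h
    simpa using L.inv_mem h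

theorem inv_apply_self (a : A) (x : E) : ((a⁻¹ : A) : MulAut E) ((a : MulAut E) x) = x := by
  rw [← MulAut.mul_apply, ← Subgroup.coe_mul, inv_mul_cancel, Subgroup.coe_one, MulAut.one_apply]

theorem apply_inv_self (a : A) (x : E) : (a : MulAut E) (((a⁻¹ : A) : MulAut E) x) = x := by
  rw [← MulAut.mul_apply, ← Subgroup.coe_mul, mul_inv_cancel, Subgroup.coe_one, MulAut.one_apply]

theorem conj_apply' (a b : A) (x : E) :
    ((a * b * a⁻¹ : A) : MulAut E) x = (a : MulAut E) ((b : MulAut E) (((a⁻¹ : A) : MulAut E) x)) := by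
  rw [Subgroup.coe_mul, Subgroup.coe_mul, MulAut.mul_apply, MulAut.mul_apply]

theorem fixShift_pGroup {U L : Subgroup E} (hLU : L ≤ U) (hexp : ∀ x : E, x ^ p = 1) :
    IsPGroup p (fixShift A U L hLU) := by
  rintro ⟨a, ha, ha'⟩
  refine ⟨1, Subtype.ext (Subtype.ext (MulEquiv.ext fun x => ?_))⟩
  have hit : ∀ n : ℕ, ((a : MulAut E) ^ n) x = x * (x⁻¹ * (a : MulAut E) x) ^ n := by
    intro n
    induction n with
    | zero => simp
    | succ n ih =>
      rw [pow_succ', MulAut.mul_apply, ih, map_mul, map_pow, ha _ (hLU (ha' x)), pow_succ',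
        ← mul_assoc x, mul_inv_cancel_left]
  rw [pow_one]
  show ((a : MulAut E) ^ p) x = x
  rw [hit, hexp, mul_one]

/-- Conjugates of elements of `fixShift`. -/
theorem conj_mem_fixShift {U L U' L' : Subgroup E} (hLU : L ≤ U) (hLU' : L' ≤ U') (a : A) {b : A}
    (hb : b ∈ fixShift A U L hLU) (hU : ∀ x ∈ U', ((a⁻¹ : A) : MulAut E) x ∈ U)
    (hL : ∀ x ∈ L, (a : MulAut E) x ∈ L') : a * b * a⁻¹ ∈ fixShift A U' L' hLU' := by
  refine ⟨fun x hx => by rw [conj_apply', hb.1 _ (hU x hx), apply_inv_self], fun x => ?_⟩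
  have h := hL _ (hb.2 (((a⁻¹ : A) : MulAut E) x))
  rw [map_mul, map_inv, apply_inv_self] at h
  rwa [conj_apply']

theorem zpowers_map {x : E} {L' : Subgroup E} (f : E →* E) (h : f x ∈ L') :
    ∀ y ∈ zpowers x, f y ∈ L' := by
  rintro _ ⟨i, rfl⟩
  show f (x ^ i) ∈ L'
  rw [map_zpow]
  exact zpow_mem h i

theorem zpowers_eq_of_mem (hexp : ∀ x : E, x ^ p = 1) {x y : E} (hy : y ∈ zpowers x) (hy1 : y ≠ 1) :
    x ∈ zpowers y := by
  obtain ⟨j, rfl⟩ := mem_powers_iff_mem_zpowers.mpr hy |>.imp fun j hj => hj.symm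
  refine Plane.mem_of_pow_mem (k := 1) (by rw [pow_one]; exact hexp x) ?_ (mem_zpowers _)
  rintro ⟨t, rfl⟩
  exact hy1 (by show x ^ (p * t) = 1; rw [pow_mul, hexp, one_pow])

theorem card_zpowers_elem (hexp : ∀ x : E, x ^ p = 1) {x : E} (hx : x ≠ 1) :
    Nat.card (zpowers x) = p := by
  rw [Nat.card_zpowers, orderOf_eq_prime (hexp x) hx]

/-- A `p`-element normalising a maximal `p`-subgroup lies in it. -/
theorem mem_of_normalizes (hsmall : ∀ Q : Subgroup A, IsPGroup p Q → Nat.card Q ≤ p ^ 2)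
    {W : Subgroup A} (hW : IsPGroup p W) {a b : A} (haW : a ∈ W) (hbW : b ∈ W) (ha : a ≠ 1)
    (hb : b ∉ zpowers a) {x : A} (hx : ∃ k, x ^ p ^ k = 1) (hn : ∀ w ∈ W, x * w * x⁻¹ ∈ W) :
    x ∈ W := by
  haveI : Finite (MulAut E) := Finite.of_injective (fun c : MulAut E => (c : E → E))
    DFunLike.coe_injective
  have hW2 : p ^ 2 ≤ Nat.card W := by
    obtain ⟨k, hk⟩ := IsPGroup.iff_card.mp hW
    have h1 : 1 < Nat.card (zpowers a) := (one_lt_card_iff_ne_bot _).2 (by simpa using ha)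
    have h2 : Nat.card (zpowers a) < Nat.card W := by
      refine lt_of_le_of_ne (card_le_of_le (zpowers_le.2 haW)) fun h => hb ?_
      rw [eq_of_le_of_card_ge (zpowers_le.2 haW) h.ge]
      exact hbW
    obtain ⟨l, hl⟩ := IsPGroup.iff_card.mp (hW.to_le (zpowers_le.2 haW))
    rw [hk]
    refine Nat.pow_le_pow_right hp.out.pos ?_
    rw [hl] at h1 h2
    rw [hk] at h2
    have := (Nat.pow_lt_pow_iff_right hp.out.one_lt).1 h2
    have : l ≠ 0 := by rintro rfl; simp at h1
    omega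
  have hxp : IsPGroup p (zpowers x) := by
    obtain ⟨k, hk⟩ := hx
    rintro ⟨_, i, rfl⟩
    refine ⟨k, Subtype.ext ?_⟩
    show (x ^ i) ^ p ^ k = 1
    rw [← zpow_natCast, ← zpow_mul, mul_comm, zpow_mul, zpow_natCast, hk, one_zpow]
  have hle : zpowers x ≤ normalizer (W : Set A) :=
    zpowers_le.2 (mem_normalizer_fintype fun w hw => hn w hw)
  have hQ : IsPGroup p (zpowers x ⊔ W : Subgroup A) := hxp.to_sup_of_normal_right' hW hle
  have h3 := hsmall _ hQ
  rw [eq_of_le_of_card_ge (le_sup_right : W ≤ zpowers x ⊔ W) (h3.trans hW2)]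
  exact mem_sup_left (mem_zpowers x)

/-- A group of order `p ^ 2` shifting a point into a line which it fixes has a nontrivial element fixing the point. -/
theorem exists_fix (R : Subgroup A) (hRc : Nat.card R = p ^ 2) {L : Subgroup E}
    (hLc : Nat.card L = p) {f : E}
    (hsh : ∀ r ∈ R, f⁻¹ * (r : MulAut E) f ∈ L) : ∃ r ∈ R, r ≠ 1 ∧ (r : MulAut E) f = f := by
  by_contra h
  push Not at h
  have h1 := Nat.card_le_card_of_injective
    (fun r : R => (⟨f⁻¹ * ((r : A) : MulAut E) f, hsh r r.2⟩ : L)) (fun a b hab => by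
      have h' : ((a : A) : MulAut E) f = ((b : A) : MulAut E) f :=
        mul_left_cancel (congrArg Subtype.val hab :)
      by_contra hne
      refine h ((b : A)⁻¹ * a) (mul_mem (inv_mem b.2) a.2) (fun h1 => hne (Subtype.ext (inv_mul_eq_one.1 h1).symm)) ?_
      rw [Subgroup.coe_mul, MulAut.mul_apply, h', inv_apply_self])
  rw [hRc, hLc] at h1
  have := hp.out.one_lt
  nlinarith

/-- A nontrivial element of `R` with axis the plane and centre the line. -/
theorem exists_central (hexp : ∀ x : E, x ^ p = 1) (R : Subgroup A)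
    (hRc : Nat.card R = p ^ 2) (hRcomm : ∀ r ∈ R, ∀ s ∈ R, r * s = s * r) {e : E}
    (hRe : ∀ r ∈ R, (r : MulAut E) e = e) {P2 : Subgroup E} (hP2c : Nat.card P2 = p ^ 2)
    (hLP : zpowers e ≤ P2) (hLc : Nat.card (zpowers e) = p)
    (hshift : ∀ r ∈ R, ∀ x, x⁻¹ * (r : MulAut E) x ∈ P2)
    (hlayer : ∀ r ∈ R, ∀ x ∈ P2, x⁻¹ * (r : MulAut E) x ∈ zpowers e)
    (hmove : ∃ r ∈ R, ∃ v ∈ P2, (r : MulAut E) v ≠ v) :
    ∃ z ∈ R, z ≠ 1 ∧ z ∈ fixShift A P2 (zpowers e) hLP := by
  obtain ⟨x0, hx0, v0, hv0, hxv⟩ := hmove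
  have hEp : IsPGroup p E := fun x => ⟨1, by rw [pow_one]; exact hexp x⟩
  have hLfix : ∀ r ∈ R, ∀ x ∈ zpowers e, (r : MulAut E) x = x := fun r hr =>
    (zpowers_le.2 (hRe r hr) : zpowers e ≤ (r : MulAut E).toMonoidHom.eqLocus (MonoidHom.id E))
  have hv0L : v0 ∉ zpowers e := fun h => hxv (hLfix x0 hx0 v0 h)
  obtain ⟨z, hz, hz1, hzv⟩ := exists_fix R hRc hLc fun r hr => hlayer r hr v0 hv0
  have hspan : ∀ v ∈ P2, v ∉ zpowers e → ∀ U : Subgroup E, e ∈ U → v ∈ U → P2 ≤ U := by
    intro v hv hvL U heU hvU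
    have h1 : zpowers e < P2 ⊓ U := lt_of_le_of_ne (le_inf hLP (zpowers_le.2 heU)) fun h =>
      hvL (h.ge ⟨hv, hvU⟩)
    exact (eq_of_step hEp h1 inf_le_left (by rw [hP2c, hLc, sq])).ge.trans inf_le_right
  have hzfix : ∀ x ∈ P2, (z : MulAut E) x = x :=
    hspan v0 hv0 hv0L ((z : MulAut E).toMonoidHom.eqLocus (MonoidHom.id E)) (hRe z hz) hzv
  refine ⟨z, hz, hz1, hzfix, fun x => ?_⟩
  by_contra hn
  set v := x⁻¹ * (z : MulAut E) x with hv
  set s := x⁻¹ * (x0 : MulAut E) x with hs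
  have hfix : (x0 : MulAut E) v = v := by
    have hcm := congrArg (fun c : A => (c : MulAut E) x) (hRcomm z hz x0 hx0)
    simp only [Subgroup.coe_mul, MulAut.mul_apply] at hcm
    have hsP : s ∈ P2 := hshift x0 hx0 x
    have e1 : (x0 : MulAut E) x = x * s := (mul_inv_cancel_left _ _).symm
    have e2 : (z : MulAut E) x = x * v := (mul_inv_cancel_left _ _).symm
    have hvP : v ∈ P2 := hshift z hz x
    clear_value v s
    rw [e1, map_mul, hzfix s hsP, e2, map_mul, e1, mul_assoc, mul_assoc,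
      mul_left_cancel_iff] at hcm
    have hvs : v * s = s * v := by
      haveI := IsPGroup.isMulCommutative_of_card_eq_prime_sq (p := p) hP2c
      exact congrArg Subtype.val (IsMulCommutative.is_comm.comm (⟨v, hvP⟩ : P2) ⟨s, hsP⟩)
    rw [hvs] at hcm
    exact (mul_left_cancel hcm).symm
  exact hxv (hspan v (hv ▸ hshift z hz x) hn ((x0 : MulAut E).toMonoidHom.eqLocus (MonoidHom.id E))
    (hRe x0 hx0) hfix hv0)

/-- No group of automorphisms of an elementary abelian group of order `p ^ 3` without normal `p`-subgroups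
has Sylow `p`-subgroups of order `p ^ 2`. -/
theorem no_square (hcomm : ∀ a b : E, a * b = b * a) (hc : Nat.card E = p ^ 3) (hexp : ∀ x : E, x ^ p = 1)
    (hO : ∀ N : Subgroup A, N.Normal → IsPGroup p N → N = ⊥)
    (hsmall : ∀ Q : Subgroup A, IsPGroup p Q → Nat.card Q ≤ p ^ 2)
    (R : Subgroup A) (hR : IsPGroup p R) (hRc : Nat.card R = p ^ 2) : False := by
  classical
  haveI : Finite (MulAut E) := Finite.of_injective (fun c : MulAut E => (c : E → E))
    DFunLike.coe_injective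
  have hp2 := hp.out.one_lt
  haveI hnormal : ∀ U : Subgroup E, U.Normal := fun U =>
    ⟨fun n hn g => by rw [hcomm g n, mul_inv_cancel_right]; exact hn⟩
  have hpx : ∀ r ∈ R, ∃ k, r ^ p ^ k = 1 := fun r hr => by
    obtain ⟨k, hk⟩ := hR ⟨r, hr⟩
    exact ⟨k, congrArg Subtype.val hk⟩
  have hRcomm : ∀ r ∈ R, ∀ s ∈ R, r * s = s * r := fun r hr s hs =>
    congrArg Subtype.val ((IsPGroup.isMulCommutative_of_card_eq_prime_sq (p := p) hRc).is_comm.comm
      (⟨r, hr⟩ : R) ⟨s, hs⟩)
  -- the flag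
  letI : MulAction R E := MulAction.compHom E ((A.subtype).comp R.subtype)
  obtain ⟨e, hefix, hene⟩ := hR.exists_fixed_point_of_prime_dvd_card_of_fixed_point E
    (hc ▸ dvd_pow_self p three_ne_zero) (a := (1 : E)) (fun r => map_one (((r : A) : MulAut E)))
  have he : e ≠ 1 := fun h => hene h.symm
  have hRe : ∀ r ∈ R, (r : MulAut E) e = e := fun r hr => hefix ⟨r, hr⟩
  have hLfix : ∀ r ∈ R, ∀ x ∈ zpowers e, (r : MulAut E) x = x := fun r hr =>
    (zpowers_le.2 (hRe r hr) : zpowers e ≤ (r : MulAut E).toMonoidHom.eqLocus (MonoidHom.id E))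
  set L := zpowers e with hL
  have hLc : Nat.card L = p := card_zpowers_elem hexp he
  have hq : Nat.card (E ⧸ L) = p ^ 2 := by
    have h1 := Subgroup.card_eq_card_quotient_mul_card_subgroup L
    rw [hc, hLc, pow_succ] at h1
    exact (Nat.eq_of_mul_eq_mul_right hp.out.pos h1).symm
  have hqexp : ∀ v : E ⧸ L, v ^ p = 1 := fun v => QuotientGroup.induction_on v fun w => by
    rw [← QuotientGroup.mk_pow, hexp]; rfl
  have hmapL : ∀ r : R, L.map ((r : A) : MulAut E).toMonoidHom = L := fun r => by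
    rw [hL, MonoidHom.map_zpowers]
    exact congrArg zpowers (hefix r)
  let ρ : R →* MulAut (E ⧸ L) :=
    { toFun := fun r => QuotientGroup.congr _ _ ((r : A) : MulAut E) (hmapL r)
      map_one' := MulEquiv.ext fun q => QuotientGroup.induction_on q fun _ => rfl
      map_mul' := fun _ _ => MulEquiv.ext fun q => QuotientGroup.induction_on q fun _ => rfl }
  obtain ⟨f', hf', hρfix, hρtriv⟩ := Plane.unipotent hq hqexp hR ρ
  set P2 := (zpowers f').comap (QuotientGroup.mk' L) with hP2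
  have hLP : L ≤ P2 := fun x hx => by
    rw [hP2, mem_comap, QuotientGroup.mk'_apply, (QuotientGroup.eq_one_iff x).2 hx]
    exact one_mem _
  have hshift : ∀ r ∈ R, ∀ x, x⁻¹ * (r : MulAut E) x ∈ P2 := fun r hr x => by
    have h := hρtriv ⟨r, hr⟩ (x : E ⧸ L)
    rw [hP2, mem_comap, map_mul, map_inv, Plane.comm hq]
    exact h
  have hlayer : ∀ r ∈ R, ∀ x ∈ P2, x⁻¹ * (r : MulAut E) x ∈ L := fun r hr x hx => by
    obtain ⟨i, hi⟩ := hx
    have h : ρ ⟨r, hr⟩ ((x : E ⧸ L)) = (x : E ⧸ L) := by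
      rw [← show f' ^ i = (x : E ⧸ L) from hi, map_zpow, hρfix]
    rw [← QuotientGroup.eq]
    exact h.symm
  have hRP2 : ∀ r ∈ R, ∀ x ∈ P2, (r : MulAut E) x ∈ P2 := fun r hr x hx => by
    rw [← mul_inv_cancel_left x ((r : MulAut E) x)]
    exact P2.mul_mem hx (hLP (hlayer r hr x hx))
  have hP2c : Nat.card P2 = p ^ 2 := by
    have h1 := P2.card_mul_index
    rw [hP2, Subgroup.index_comap_of_surjective _ (QuotientGroup.mk'_surjective _), ← hP2] at h1
    have h2 := (zpowers f').card_mul_index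
    rw [Plane.card_zpowers_eq hq hqexp hf', hq, sq] at h2
    rw [Nat.eq_of_mul_eq_mul_left hp.out.pos h2, hc, pow_succ] at h1
    exact Nat.eq_of_mul_eq_mul_right hp.out.pos h1
  -- two planes meet, and generate the group
  have hmeet : ∀ U V : Subgroup E, Nat.card U = p ^ 2 → Nat.card V = p ^ 2 →
      ∃ w, w ∈ U ∧ w ∈ V ∧ w ≠ 1 := by
    intro U V hU hV
    by_contra h
    push Not at h
    have h1 := Nat.card_le_card_of_injective (fun x : U × V => (x.1 : E) * x.2) (by
      rintro ⟨⟨a, ha⟩, b, hb⟩ ⟨⟨a', ha'⟩, b', hb'⟩ h'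
      simp only at h'
      have hab : a'⁻¹ * a = b' * b⁻¹ := by
        rw [inv_mul_eq_iff_eq_mul, ← mul_assoc, ← h', mul_inv_cancel_right]
      have h2 := h _ (U.mul_mem (U.inv_mem ha') ha) (hab ▸ V.mul_mem hb' (V.inv_mem hb))
      rw [inv_mul_eq_one] at h2
      subst h2
      have h3 := mul_left_cancel h'
      subst h3
      rfl)
    rw [Nat.card_prod, hU, hV, hc, ← pow_add] at h1
    exact absurd ((Nat.pow_le_pow_iff_right hp2).1 h1) (by norm_num)
  have hplane : ∀ U : Subgroup E, Nat.card U = p ^ 2 → ∀ y, y ∉ U → ∀ V : Subgroup E,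
      U ≤ V → y ∈ V → ∀ x, x ∈ V := by
    intro U hU y hy V hUV hyV x
    obtain ⟨i, hi3, hi⟩ := (Nat.dvd_prime_pow hp.out).mp (hc ▸ V.card_subgroup_dvd_card)
    have h1 : Nat.card U < Nat.card V := lt_of_le_of_ne (card_le_of_le hUV) fun h =>
      hy (by rw [eq_of_le_of_card_ge hUV h.ge]; exact hyV)
    rw [hU, hi] at h1
    have := (Nat.pow_lt_pow_iff_right hp2).1 h1
    rw [(card_eq_iff_eq_top V).1 (hi.trans (by rw [hc, show i = 3 by omega]))]
    exact mem_top x
  -- an element determined by the images of a plane and of one more element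
  have hext : ∀ (a b : A) (U : Subgroup E), Nat.card U = p ^ 2 → ∀ y, y ∉ U →
      (∀ x ∈ U, (a : MulAut E) x = (b : MulAut E) x) → (a : MulAut E) y = (b : MulAut E) y → a = b := by
    intro a b U hU y hy hab hy'
    refine Subtype.ext (MulEquiv.ext fun x => ?_)
    exact hplane U hU y hy ((a : MulAut E).toMonoidHom.eqLocus (b : MulAut E).toMonoidHom) hab hy' x
  obtain ⟨y, hy⟩ : ∃ y, y ∉ P2 := by
    by_contra h
    push Not at h
    rw [(eq_top_iff' P2).2 h, card_top, hc] at hP2c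
    exact absurd (Nat.pow_right_injective hp.out.two_le hP2c) (by norm_num)
  by_cases hfixP : ∀ r ∈ R, ∀ x ∈ P2, (r : MulAut E) x = x
  · -- all of `R` fixes the plane
    let θ : R → P2 := fun r => ⟨y⁻¹ * ((r : A) : MulAut E) y, hshift r r.2 y⟩
    have hθ : Function.Injective θ := fun r s h => by
      have h' : ((r : A) : MulAut E) y = ((s : A) : MulAut E) y :=
        mul_left_cancel (congrArg Subtype.val h)
      exact Subtype.ext (hext r s P2 hP2c y hy (fun x hx => by rw [hfixP r r.2 x hx, hfixP s s.2 x hx]) h')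
    have hθs := (hθ.bijective_of_nat_card_le (by rw [hP2c, hRc])).2
    have hone : ∀ w ∈ P2, ∃ r ∈ R, r ∈ fixShift A P2 P2 le_rfl ∧ y⁻¹ * (r : MulAut E) y = w := by
      intro w hw
      obtain ⟨r, hr⟩ := hθs ⟨w, hw⟩
      exact ⟨r, r.2, ⟨hfixP r r.2, hshift r r.2⟩, congrArg Subtype.val hr⟩
    obtain ⟨α, hα⟩ : ∃ α : A, ∃ x ∈ P2, (α : MulAut E) x ∉ P2 := by
      by_contra h
      push Not at h
      have hN : (fixShift A P2 P2 le_rfl).Normal := ⟨fun b hb a =>
        conj_mem_fixShift le_rfl le_rfl a hb (h a⁻¹) (h a)⟩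
      obtain ⟨r, hrR, hrW, hr⟩ := hone _ (hLP (mem_zpowers e))
      rw [hO _ hN (fixShift_pGroup le_rfl hexp), mem_bot] at hrW
      rw [hrW] at hr
      exact he (by rw [← hr]; simp)
    set P3 := P2.map (α : MulAut E).toMonoidHom with hP3
    have hP3c : Nat.card P3 = p ^ 2 := by
      rw [hP3, Subgroup.card_map_of_injective (α : MulAut E).injective, hP2c]
    obtain ⟨w, hw2, hw3, hw1⟩ := hmeet P2 P3 hP2c hP3c
    obtain ⟨w0, hw0, hw0e⟩ := hw3
    obtain ⟨r, hrR, hrW, hr⟩ := hone w hw2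
    obtain ⟨r', hr'R, hr'W, hr'⟩ := hone w0 hw0
    have hsmallShift : ∀ (s : A) (v : E), s ∈ fixShift A P2 P2 le_rfl → y⁻¹ * (s : MulAut E) y = v →
        v ∈ P2 → ∀ x, x⁻¹ * (s : MulAut E) x ∈ zpowers v := by
      intro s v hs hv hv2 x
      refine hplane P2 hP2c y hy
        { carrier := {x | x⁻¹ * (s : MulAut E) x ∈ zpowers v}
          one_mem' := by simp
          mul_mem' := fun {a b} ha hb => by
            show (a * b)⁻¹ * (s : MulAut E) (a * b) ∈ zpowers v
            rw [map_mul, mul_inv_rev, hcomm b⁻¹ a⁻¹, mul_assoc, ← mul_assoc b⁻¹, hcomm b⁻¹,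
              mul_assoc ((s : MulAut E) a), ← mul_assoc a⁻¹]
            exact mul_mem ha hb
          inv_mem' := fun {a} ha => by
            show a⁻¹⁻¹ * (s : MulAut E) a⁻¹ ∈ zpowers v
            rw [map_inv, inv_inv, hcomm a, ← inv_inv a, ← mul_inv_rev, inv_inv,
              hcomm _ ((s : MulAut E) a)]
            exact inv_mem (by have ha' : _ ∈ _ := Set.mem_ofPred.mp ha; rwa [hcomm] at ha') }
        (fun a ha => by show a⁻¹ * (s : MulAut E) a ∈ zpowers v; rw [hs.1 a ha, inv_mul_cancel]; exact one_mem _)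
        (by show y⁻¹ * (s : MulAut E) y ∈ zpowers v; rw [hv]; exact mem_zpowers v) x
    have hwle : zpowers w ≤ P2 := zpowers_le.2 hw2
    have hrT : r ∈ fixShift A (zpowers w) (zpowers w) le_rfl :=
      ⟨fun x hx => hrW.1 x (hwle hx), hsmallShift r w hrW hr hw2⟩
    have hcT : α * r' * α⁻¹ ∈ fixShift A (zpowers w) (zpowers w) le_rfl := by
      have hr'T : r' ∈ fixShift A (zpowers w0) (zpowers w0) le_rfl :=
        ⟨fun x hx => hr'W.1 x (zpowers_le.2 hw0 hx), hsmallShift r' w0 hr'W hr' hw0⟩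
      refine conj_mem_fixShift le_rfl le_rfl α hr'T ?_ ?_
      · exact zpowers_map ((α⁻¹ : A) : MulAut E).toMonoidHom (x := w) (by
          rw [← hw0e]
          exact (inv_apply_self α w0).symm ▸ mem_zpowers w0)
      · exact zpowers_map (α : MulAut E).toMonoidHom (x := w0) (by rw [hw0e]; exact mem_zpowers w)
    have hr1 : r ≠ 1 := fun h => hw1 (by rw [← hr, h]; simp)
    have hind : α * r' * α⁻¹ ∉ zpowers r := by
      intro h
      obtain ⟨x, hx, hxα⟩ := hα
      have h1 : α * r' * α⁻¹ = 1 := by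
        refine hext _ 1 P2 hP2c _ hxα (fun v hv => ?_) ?_
        · rw [((zpowers_le.2 hrW : zpowers r ≤ _) h).1 v hv]
          simp
        · rw [conj_apply', inv_apply_self, hr'W.1 x hx]
          simp
      apply hw1
      rw [← hw0e, ← hr', conj_eq_one_iff.mp h1]
      simp
    have hRT : ∀ s ∈ R, s ∈ fixShift A (zpowers w) (zpowers w) le_rfl := fun s hs =>
      mem_of_normalizes hsmall (fixShift_pGroup le_rfl hexp) hrT hcT hr1 hind (hpx s hs) fun b hb =>
        conj_mem_fixShift le_rfl le_rfl s hb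
          (zpowers_map ((s⁻¹ : A) : MulAut E).toMonoidHom (x := w) (by
            rw [show ((s⁻¹ : A) : MulAut E).toMonoidHom w = w from hfixP _ (R.inv_mem hs) w hw2]
            exact mem_zpowers w))
          (zpowers_map (s : MulAut E).toMonoidHom (x := w) (by
            rw [show (s : MulAut E).toMonoidHom w = w from hfixP s hs w hw2]
            exact mem_zpowers w))
    have h1 := Nat.card_le_card_of_injective
      (fun s : R => (⟨y⁻¹ * ((s : A) : MulAut E) y, (hRT s s.2).2 y⟩ : zpowers w))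
      (fun s t h => hθ (Subtype.ext (congrArg Subtype.val h :)))
    rw [hRc, card_zpowers_elem hexp hw1] at h1
    nlinarith
  -- some element of `R` moves the plane
  push Not at hfixP
  obtain ⟨x0, hx0R, v0, hv0, hx0v⟩ := hfixP
  haveI : Finite E := inferInstance
  have hEp : IsPGroup p E := IsPGroup.of_card hc
  obtain ⟨α, hαe⟩ : ∃ α : A, (α : MulAut E) e ∉ L := by
    by_contra h
    push Not at h
    have hall : ∀ a : A, ∀ x ∈ L, (a : MulAut E) x ∈ L := fun a => by
      refine zpowers_map (a : MulAut E).toMonoidHom ?_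
      exact h a
    have hN : (fixShift A L L le_rfl).Normal := ⟨fun b hb a =>
      conj_mem_fixShift le_rfl le_rfl a hb (hall a⁻¹) (hall a)⟩
    have hNb := hO _ hN (fixShift_pGroup le_rfl hexp)
    -- an element of `R` fixing the plane shifts into `L`
    obtain ⟨z, hzR, hz1, hz⟩ : ∃ z ∈ R, z ≠ 1 ∧ z ∈ fixShift A P2 L hLP := exists_central hexp R
      hRc hRcomm hRe hP2c hLP hLc hshift hlayer ⟨x0, hx0R, v0, hv0, hx0v⟩
    exact hz1 (mem_bot.mp (hNb.le (show z ∈ fixShift A L L le_rfl from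
      ⟨fun x hx => hz.1 x (hLP hx), hz.2⟩)))
  set e' := (α : MulAut E) e with he'
  have he'1 : e' ≠ 1 := fun h => hαe (h ▸ one_mem _)
  have he'L : L ⊓ zpowers e' = ⊥ := by
    rw [eq_bot_iff]
    rintro x ⟨hx, hx'⟩
    by_contra hx1
    exact hαe (zpowers_le.2 hx (zpowers_eq_of_mem hexp hx' hx1))
  by_cases hcentre : ∀ r ∈ R, ∀ x, x⁻¹ * (r : MulAut E) x ∈ L
  · -- all of `R` shifts into the line
    have hL' : L ≤ L ⊔ zpowers e' := le_sup_left
    set Q := L ⊔ zpowers e' with hQ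
    have hQc : Nat.card Q = p ^ 2 := by
      refine le_antisymm ?_ ?_
      · refine (Nat.card_le_card_of_surjective (fun q : L × zpowers e' =>
          (⟨(q.1 : E) * q.2, mul_mem (mem_sup_left q.1.2) (mem_sup_right q.2.2)⟩ : Q)) ?_).trans ?_
        · rintro ⟨x, hx⟩
          obtain ⟨a, ha, b, hb, rfl⟩ := mem_sup_of_normal_right.1 hx
          exact ⟨(⟨a, ha⟩, ⟨b, hb⟩), rfl⟩
        · rw [Nat.card_prod, hLc, card_zpowers_elem hexp he'1, sq]
      · have := card_step hEp (lt_of_le_of_ne hL' fun h => hαe (h.ge (mem_sup_right (mem_zpowers e'))))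
        rwa [hLc, ← sq] at this
    -- nontrivial elements fixing the other centre
    obtain ⟨r, hrR, hr1, hre'⟩ := exists_fix R hRc (L := L) hLc
      (fun r hr => hcentre r hr e')
    obtain ⟨s, hsR, hs1, hsf⟩ := exists_fix R hRc (L := L) hLc
      (fun r hr => hcentre r hr (((α⁻¹ : A) : MulAut E) e))
    set t := α * s * α⁻¹ with ht
    have hfixQ : ∀ a : A, (a : MulAut E) e = e → (a : MulAut E) e' = e' → ∀ x ∈ Q, (a : MulAut E) x = x := by
      intro a ha ha'
      exact (sup_le (zpowers_le.2 ha) (zpowers_le.2 ha') :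
        Q ≤ (a : MulAut E).toMonoidHom.eqLocus (MonoidHom.id E))
    have hrW : r ∈ fixShift A Q Q le_rfl :=
      ⟨hfixQ r (hRe r hrR) hre', fun x => hL' (hcentre r hrR x)⟩
    have htsh : ∀ x, x⁻¹ * (t : MulAut E) x ∈ zpowers e' := fun x => by
      have h1 := zpowers_map (α : MulAut E).toMonoidHom (x := e) (L' := zpowers e') (mem_zpowers _) _
        (hcentre s hsR (((α⁻¹ : A) : MulAut E) x))
      rw [map_mul, map_inv] at h1
      show x⁻¹ * ((α * s * α⁻¹ : A) : MulAut E) x ∈ _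
      rw [conj_apply']
      have h2 : (α : MulAut E).toMonoidHom (((α⁻¹ : A) : MulAut E) x) = x := apply_inv_self α x
      rwa [h2] at h1
    have hte' : (t : MulAut E) e' = e' := by
      rw [ht, conj_apply', he', inv_apply_self, hRe s hsR]
    have hte : (t : MulAut E) e = e := by
      rw [ht, conj_apply', hsf, apply_inv_self]
    have htW : t ∈ fixShift A Q Q le_rfl :=
      ⟨hfixQ t hte hte', fun x => (le_sup_right : zpowers e' ≤ Q) (htsh x)⟩
    have hind : t ∉ zpowers r := fun h => hs1 (by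
      have hrL : r ∈ fixShift A L L le_rfl := ⟨hLfix r hrR, hcentre r hrR⟩
      have h1 : t = 1 := Subtype.ext (MulEquiv.ext fun x => by
        have hm : x⁻¹ * (t : MulAut E) x ∈ (⊥ : Subgroup E) :=
          he'L ▸ ⟨((zpowers_le.2 hrL : zpowers r ≤ _) h).2 x, htsh x⟩
        exact (inv_mul_eq_one.1 (mem_bot.1 hm)).symm)
      exact conj_eq_one_iff.1 h1)
    have hRW : ∀ a ∈ R, a ∈ fixShift A Q Q le_rfl := fun a ha =>
      mem_of_normalizes hsmall (fixShift_pGroup le_rfl hexp) hrW htW hr1 hind (hpx a ha) fun b hb => by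
        have hQinv : ∀ a' ∈ R, ∀ x ∈ Q, (a' : MulAut E) x ∈ Q := fun a' ha' x hx => by
          rw [← mul_inv_cancel_left x ((a' : MulAut E) x)]
          exact mul_mem hx (hL' (hcentre a' ha' x))
        exact conj_mem_fixShift le_rfl le_rfl a hb (hQinv _ (R.inv_mem ha)) (hQinv a ha)
    obtain ⟨y', hy'⟩ : ∃ y', y' ∉ Q := by
      by_contra h
      push Not at h
      rw [(eq_top_iff' Q).2 h, card_top, hc] at hQc
      exact absurd (Nat.pow_right_injective hp.out.two_le hQc) (by norm_num)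
    have h1 := Nat.card_le_card_of_injective
      (fun a : R => (⟨y'⁻¹ * ((a : A) : MulAut E) y', hcentre a a.2 y'⟩ : L)) (fun a b h =>
        Subtype.ext (hext a b Q hQc y' hy' (fun x hx => by rw [(hRW a a.2).1 x hx, (hRW b b.2).1 x hx])
          (mul_left_cancel (congrArg Subtype.val h :))))
    rw [hRc, hLc] at h1
    nlinarith
  -- the general type
  push Not at hcentre
  obtain ⟨x1, hx1R, y1, hx1⟩ := hcentre
  obtain ⟨z, hzR, hz1, hz⟩ : ∃ z ∈ R, z ≠ 1 ∧ z ∈ fixShift A P2 L hLP := exists_central hexp R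
    hRc hRcomm hRe hP2c hLP hLc hshift hlayer ⟨x0, hx0R, v0, hv0, hx0v⟩
  have hspan : ∀ v ∈ P2, v ∉ L → ∀ U : Subgroup E, e ∈ U → v ∈ U → P2 ≤ U := by
    intro v hv hvL U heU hvU
    have h1 : L < P2 ⊓ U := lt_of_le_of_ne (le_inf hLP (zpowers_le.2 heU)) fun h =>
      hvL (h.ge ⟨hv, hvU⟩)
    exact (eq_of_step hEp h1 inf_le_left (by rw [hP2c, hLc, sq])).ge.trans inf_le_right
  have hstar : ∀ β : A, (β : MulAut E) e ∈ P2 → (β : MulAut E) e ∈ L := by
    intro β hβP
    by_contra hβ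
    set f := (β : MulAut E) e with hf
    set z' := β * z * β⁻¹ with hz'
    have hz'f : (z' : MulAut E) f = f := by
      rw [hz', hf, conj_apply', inv_apply_self, hRe z hzR]
    have hz'sh : ∀ x, x⁻¹ * (z' : MulAut E) x ∈ zpowers f := fun x => by
      have h1 := zpowers_map (β : MulAut E).toMonoidHom (x := e) (L' := zpowers f) (mem_zpowers _) _
        (hz.2 (((β⁻¹ : A) : MulAut E) x))
      rw [map_mul, map_inv] at h1
      show x⁻¹ * ((β * z * β⁻¹ : A) : MulAut E) x ∈ _
      rw [conj_apply']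
      have h2 : (β : MulAut E).toMonoidHom (((β⁻¹ : A) : MulAut E) x) = x := apply_inv_self β x
      rwa [h2] at h1
    have hfP : zpowers f ≤ P2 := zpowers_le.2 hβP
    have hz'P : ∀ x ∈ P2, (z' : MulAut E) x ∈ P2 := fun x hx => by
      rw [← mul_inv_cancel_left x ((z' : MulAut E) x)]
      exact mul_mem hx (hfP (hz'sh x))
    have hzW : z ∈ fixShift A P2 P2 le_rfl := ⟨hz.1, fun x => hLP (hz.2 x)⟩
    have hz'1 : z' ≠ 1 := fun h => hz1 (conj_eq_one_iff.1 h)
    -- a second element with the same axis and another centre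
    obtain ⟨t, htW, htind⟩ : ∃ t ∈ fixShift A P2 P2 le_rfl, t ∉ zpowers z := by
      by_cases hz'e : (z' : MulAut E) e = e
      · refine ⟨z', ⟨fun x hx => hspan f hβP hβ ((z' : MulAut E).toMonoidHom.eqLocus (MonoidHom.id E))
          hz'e hz'f hx, fun x => hfP (hz'sh x)⟩, fun h => hz'1 (Subtype.ext (MulEquiv.ext fun x => ?_))⟩
        have hzL : z ∈ fixShift A L L le_rfl := ⟨fun x hx => hz.1 x (hLP hx), hz.2⟩
        have hm := ((zpowers_le.2 hzL : zpowers z ≤ _) h).2 x
        have hb : x⁻¹ * (z' : MulAut E) x = 1 := by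
          by_contra hne
          exact hβ (zpowers_le.2 hm (zpowers_eq_of_mem hexp (hz'sh x) hne))
        exact (inv_mul_eq_one.1 hb).symm
      · set f2 := (z' : MulAut E) e with hf2
        have hf2P : zpowers f2 ≤ P2 := zpowers_le.2 (hz'P e (hLP (mem_zpowers e)))
        have hz'Pi : ∀ x ∈ P2, ((z'⁻¹ : A) : MulAut E) x ∈ P2 := fun x hx => by
          have hm : P2.map (z' : MulAut E).toMonoidHom = P2 :=
            eq_of_le_of_card_ge (by rintro _ ⟨v, hv, rfl⟩; exact hz'P v hv)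
              (by rw [Subgroup.card_map_of_injective (z' : MulAut E).injective])
          obtain ⟨v, hv, hvx⟩ := hm.ge hx
          rw [← show (z' : MulAut E) v = x from hvx, inv_apply_self]
          exact hv
        have hc2 : z' * z * z'⁻¹ ∈ fixShift A P2 (zpowers f2) hf2P :=
          conj_mem_fixShift hLP hf2P z' hz hz'Pi
            (zpowers_map (z' : MulAut E).toMonoidHom (x := e) (mem_zpowers f2))
        refine ⟨z' * z * z'⁻¹, ⟨hc2.1, fun x => hf2P (hc2.2 x)⟩, fun h => hz1 (conj_eq_one_iff.1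
          (Subtype.ext (MulEquiv.ext fun x => ?_) : z' * z * z'⁻¹ = 1))⟩
        have hm := ((zpowers_le.2 hz : zpowers z ≤ _) h).2 x
        have hf2L : f2 ∉ L := by
          intro hm2
          have h3 : e⁻¹ * f2 = 1 := by
            by_contra hne
            exact hβ (zpowers_le.2 (mul_mem (inv_mem (mem_zpowers e)) hm2)
              (zpowers_eq_of_mem hexp (hz'sh e) hne))
          exact hz'e (inv_mul_eq_one.1 h3).symm
        have hb : x⁻¹ * ((z' * z * z'⁻¹ : A) : MulAut E) x = 1 := by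
          by_contra hne
          exact hf2L (zpowers_le.2 hm (zpowers_eq_of_mem hexp (hc2.2 x) hne))
        exact (inv_mul_eq_one.1 hb).symm
    have hx0W := mem_of_normalizes hsmall (fixShift_pGroup le_rfl hexp) hzW htW hz1 htind (hpx x0 hx0R)
      fun b hb => conj_mem_fixShift le_rfl le_rfl x0 hb (hRP2 _ (R.inv_mem hx0R)) (hRP2 x0 hx0R)
    exact hx0v (hx0W.1 v0 hv0)
  have he'P : e' ∉ P2 := fun h => hαe (hstar α h)
  obtain ⟨r, hrR, hr⟩ : ∃ r ∈ R, e'⁻¹ * (r : MulAut E) e' ∉ L := by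
    by_contra h
    push Not at h
    let D : Subgroup E :=
      { carrier := {x | x⁻¹ * (x1 : MulAut E) x ∈ L}
        one_mem' := by simp
        mul_mem' := fun {a b} ha hb => by
          show (a * b)⁻¹ * (x1 : MulAut E) (a * b) ∈ L
          rw [map_mul, mul_inv_rev, hcomm b⁻¹ a⁻¹, mul_assoc, ← mul_assoc b⁻¹, hcomm b⁻¹,
            mul_assoc ((x1 : MulAut E) a), ← mul_assoc a⁻¹]
          exact mul_mem ha hb
        inv_mem' := fun {a} ha => by
          show a⁻¹⁻¹ * (x1 : MulAut E) a⁻¹ ∈ L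
          rw [map_inv, inv_inv, hcomm a, ← inv_inv a, ← mul_inv_rev, inv_inv,
            hcomm _ ((x1 : MulAut E) a)]
          exact inv_mem (by have ha' : _ ∈ _ := Set.mem_ofPred.mp ha; rwa [hcomm] at ha') }
    exact hx1 (hplane P2 hP2c e' he'P D (fun x hx => hlayer x1 hx1R x hx) (h x1 hx1R) y1)
  set v := e'⁻¹ * (r : MulAut E) e' with hv
  have hbij : ∀ w ∈ P2, ∃ a ∈ R, (a : MulAut E) e' = e' * w := by
    intro w hw
    let θ : R → P2 := fun a => ⟨e'⁻¹ * ((a : A) : MulAut E) e', hshift a a.2 e'⟩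
    have hθ : Function.Injective θ := fun a b h => by
      have h' : ((a : A) : MulAut E) e' = ((b : A) : MulAut E) e' :=
        mul_left_cancel (congrArg Subtype.val h :)
      set s : A := (b : A)⁻¹ * (a : A) with hs
      have hsR : s ∈ R := mul_mem (inv_mem b.2) a.2
      have hse' : (s : MulAut E) e' = e' := by
        rw [hs, Subgroup.coe_mul, MulAut.mul_apply, h', inv_apply_self]
      have hsv : (s : MulAut E) v = v := by
        have hcm := congrArg (fun c : A => (c : MulAut E) e') (hRcomm s hsR r hrR)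
        simp only [Subgroup.coe_mul, MulAut.mul_apply, hse'] at hcm
        rw [hv, map_mul, map_inv, hse', hcm]
      have h1 : s = 1 := hext s 1 P2 hP2c e' he'P (fun x hx => by
        rw [show (s : MulAut E) x = x from hspan v (hshift r hrR e') hr
          ((s : MulAut E).toMonoidHom.eqLocus (MonoidHom.id E)) (hRe s hsR) hsv hx]
        simp) (by rw [hse']; simp)
      exact Subtype.ext (inv_mul_eq_one.1 h1).symm
    obtain ⟨a, ha⟩ := (hθ.bijective_of_nat_card_le (by rw [hP2c, hRc])).2 ⟨w, hw⟩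
    refine ⟨a, a.2, ?_⟩
    have ha' : e'⁻¹ * ((a : A) : MulAut E) e' = w := congrArg Subtype.val ha
    rw [← ha', mul_inv_cancel_left]
  set P3 := P2.map (α : MulAut E).toMonoidHom with hP3
  have hP3c : Nat.card P3 = p ^ 2 := by
    rw [hP3, Subgroup.card_map_of_injective (α : MulAut E).injective, hP2c]
  obtain ⟨w, hw2, hw3, hw1⟩ := hmeet P2 P3 hP2c hP3c
  obtain ⟨a, haR, ha⟩ := hbij w hw2
  obtain ⟨q, hq2, hq⟩ : e' * w ∈ P3 := mul_mem ⟨e, hLP (mem_zpowers e), rfl⟩ hw3
  have hqe : ((α⁻¹ * a * α : A) : MulAut E) e = q := by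
    rw [Subgroup.coe_mul, Subgroup.coe_mul, MulAut.mul_apply, MulAut.mul_apply, ← he', ha, ← hq]
    exact inv_apply_self α q
  obtain ⟨i, hi⟩ := hstar (α⁻¹ * a * α) (hqe ▸ hq2)
  have hwe' : w ∈ zpowers e' := by
    refine (mul_mem_cancel_left (mem_zpowers e')).1 ⟨i, ?_⟩
    show e' ^ i = e' * w
    rw [← hq, he', ← map_zpow, show e ^ i = q from hi.trans hqe]
    rfl
  exact he'P (zpowers_le.2 hw2 (zpowers_eq_of_mem hexp hwe' hw1))

end

end Cfsg.Lib.OrderPFive
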