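import Cfsg.Agent.Lib.OrderPFive.Extend
import Cfsg.Agent.Lib.OrderPFive.Space
import Cfsg.Agent.Lib.OrderPFive.CalcElem
import Cfsg.Agent.Lib.FusionSys.TransvectionPlane
import Cfsg.Agent.S5265

/-!
# An elementary abelian essential subgroup of order `p ^ 3` in a group of order `p ^ 5`
-/

set_option autoImplicit false
set_option linter.style.haveILetI false

namespace Cfsg.Lib.OrderPFive

open Cfsg Cfsg.FusionSystem
open Cfsg.Lib.FusionSys
open Cfsg.Lib.FusionSys.RankTwo (cA coe_cA basic)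
open scoped commutatorElement

universe u

variable {Ω : Type u} [Group Ω] {S : Subgroup Ω} [Finite S] {p : ℕ} [hp : Fact p.Prime]
variable {F : FusionSystem S} {E : Subgroup Ω}

/-- The transvection induced by the normalizer. -/
theorem elem_data (hS : IsPGroup p S) (hF : F.IsSaturated p) (hE : F.IsEssential p E)
    (hcard : Nat.card S = p ^ 5)
    (hab : ∀ B : Subgroup S, p ^ 4 ≤ Nat.card B → ∃ a ∈ B, ∃ b ∈ B, a * b ≠ b * a)
    (hEc : Nat.card E = p ^ 3) (hEel : Cfsg.IsElementaryAbelian p E) :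
    ∃ (hES : E ≤ S) (NS A0 : Subgroup S) (_ : NS.Normal) (_ : A0.Normal) (c d0 : S) (u : F.autGroup E) (e : E),
      NS = (normalizerIn S E).subgroupOf S ∧ Nat.card NS = p ^ 4 ∧ E.subgroupOf S ≤ NS ∧
      Nat.card A0 = p ^ 2 ∧ A0 ≤ E.subgroupOf S ∧ (∀ a ∈ A0, ∀ n ∈ NS, a * n = n * a) ∧
      (∀ a, a ∈ NS → (∀ n ∈ NS, a * n = n * a) → a ∈ A0) ∧
      Subgroup.inclusion hES e = c ∧ c ∈ Subgroup.center S ∧ c ∈ A0 ∧
      (∀ x ∈ NS, ∀ y ∈ NS, ⁅x, y⁆ ∈ Subgroup.zpowers c) ∧
      d0 ∈ NS ∧ d0 ∉ E.subgroupOf S ∧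
      (∀ x : E, Subgroup.inclusion hES ((u : MulAut E) x) = d0 * Subgroup.inclusion hES x * d0⁻¹) ∧
      (∀ a ∈ (autInducedBy S E).subgroupOf (F.autGroup E), ∃ i : ℕ, u ^ i = a) ∧
      u ∈ (autInducedBy S E).subgroupOf (F.autGroup E) ∧
      Transvection.Data p (F.autGroup E) u e := by
  have hES : E ≤ S := hE.1.1
  obtain ⟨hlt, -, -, hO, hRp, hRI⟩ := basic hS hF hE
  haveI := finite_of_le hES
  haveI := finite_of_le (normalizerIn_le (S := S) E)
  haveI : Finite ↥(F.autGroup E) := Finite.of_injective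
    (fun a : F.autGroup E => ((a : MulAut E) : E → E))
    (DFunLike.coe_injective.comp Subtype.val_injective)
  have hEcomm : ∀ a b : E, a * b = b * a := fun a b => hEel.1.is_comm.comm a b
  have hEexp : ∀ x : E, x ^ p = 1 := fun x => Subtype.ext (by simpa using hEel.2 x x.2)
  have hInn : ∀ a ∈ (Inn E).subgroupOf (F.autGroup E), a = 1 := by
    rintro a ⟨y, hy⟩
    refine Subtype.ext (hy.symm.trans (MulEquiv.ext fun x => ?_))
    rw [MulAut.conj_apply, hEcomm y x, mul_inv_cancel_right]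
    rfl
  have hO' : ∀ N : Subgroup (F.autGroup E), N.Normal → IsPGroup p N → N = ⊥ := fun N h1 h2 =>
    (Subgroup.eq_bot_iff_forall N).mpr fun a ha => hInn a (hO N h1 h2 ha)
  have hcen : centralizerIn S E ≤ E := hE.1.2 E (isConj_refl F hES)
  -- the induced automorphisms
  set N := normalizerIn S E with hN
  set R := (autInducedBy S E).subgroupOf (F.autGroup E) with hR
  have hrange : (cA F hES).range = R := by
    refine le_antisymm ?_ fun a ha => ?_
    · rintro _ ⟨n, rfl⟩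
      exact conjAut_mem_autInducedBy n.2.2 n.2.1
    · obtain ⟨g, hg, hga⟩ := mem_autInducedBy.1 (Subgroup.mem_subgroupOf.mp ha)
      exact ⟨⟨g, hg, mem_normalizer_of_aut hga⟩, Subtype.ext (MulEquiv.ext fun x => Subtype.ext (hga x).symm)⟩
  have hker : ∀ n : ↥N, cA F hES n = 1 → (n : Ω) ∈ E := fun n hn =>
    mem_of_conjAut_mem_inn hcen hES n.2.1 (α := (cA F hES n : MulAut E)) (fun x => coe_cA hES n x)
      (by rw [hn]; exact one_mem _)
  have hkerc : Nat.card (cA F hES).ker = p ^ 3 := by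
    have hk : (cA F hES).ker = E.subgroupOf N := by
      ext n
      refine ⟨fun h => hker n h, fun h => MonoidHom.mem_ker.mpr (hInn _ ⟨⟨n, h⟩, ?_⟩)⟩
      exact MulEquiv.ext fun x => Subtype.ext rfl
    rw [hk, Nat.card_congr (Subgroup.subgroupOfEquivOfLe (le_normalizerIn hES)).toEquiv, hEc]
  have hNR : Nat.card N = Nat.card R * p ^ 3 := by
    rw [Subgroup.card_eq_card_quotient_mul_card_subgroup (cA F hES).ker, hkerc,
      Nat.card_congr (QuotientGroup.quotientKerEquivRange (cA F hES)).toEquiv, hrange]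
  obtain ⟨-, R₀, hR₀⟩ := (isFullyAutomized_and_fc_of_fn hS hF hE.2.1).2
  have hsmallR : ∀ Q : Subgroup (F.autGroup E), IsPGroup p Q → Nat.card Q ≤ Nat.card R := by
    intro Q hQ
    obtain ⟨Q₀, hQ₀⟩ := hQ.exists_le_sylow
    refine ((Subgroup.card_le_of_le hQ₀).trans (Sylow.card_eq_multiplicity Q₀).le).trans ?_
    rw [← Sylow.card_eq_multiplicity R₀, hR₀]
  have hNp : IsPGroup p N := hS.to_le (normalizerIn_le E)
  have hNcard : Nat.card N = p ^ 4 := by
    obtain ⟨a, ha⟩ := IsPGroup.iff_card.mp hNp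
    have h1 : Nat.card E < Nat.card N := lt_of_le_of_ne (Subgroup.card_le_of_le (le_normalizerIn hES))
      fun e => (lt_normalizerIn hS hlt).ne (Subgroup.eq_of_le_of_card_ge (le_normalizerIn hES) e.ge)
    have h2 := card_le_of_le (normalizerIn_le (S := S) E)
    rw [hEc, ha] at h1
    rw [← hN, hcard, ha] at h2
    have h3 := (Nat.pow_lt_pow_iff_right hp.out.one_lt).mp h1
    have h4 := (Nat.pow_le_pow_iff_right hp.out.one_lt).mp h2
    rcases (show a = 4 ∨ a = 5 by omega) with rfl | rfl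
    · exact ha
    exfalso
    have hR2 : Nat.card R = p ^ 2 := by
      rw [ha, show p ^ 5 = p ^ 2 * p ^ 3 by ring] at hNR
      exact (Nat.eq_of_mul_eq_mul_right (pow_pos hp.out.pos 3) hNR).symm
    exact no_square hEcomm hEc hEexp hO' (fun Q hQ => hR2 ▸ hsmallR Q hQ) R hRp hR2
  have hRc : Nat.card R = p := by
    rw [hNcard, show p ^ 4 = p * p ^ 3 by ring] at hNR
    exact (Nat.eq_of_mul_eq_mul_right (pow_pos hp.out.pos 3) hNR).symm
  -- inside `S`
  set NS := N.subgroupOf S with hNS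
  set ES := E.subgroupOf S with hES'
  have hG : IsPGroup p (⊤ : Subgroup S) := hS.to_subgroup ⊤
  have hNSc : Nat.card NS = p ^ 4 := by
    rw [hNS, Nat.card_congr (Subgroup.subgroupOfEquivOfLe (normalizerIn_le E)).toEquiv, hNcard]
  have hESc : Nat.card ES = p ^ 3 := by
    rw [hES', Nat.card_congr (Subgroup.subgroupOfEquivOfLe hES).toEquiv, hEc]
  haveI hNSn : NS.Normal := normal_of_card hS (by rw [hcard, hNSc, ← pow_succ'])
  have hEN : ES ≤ NS := fun x hx => le_normalizerIn hES hx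
  have hcS : ∀ x : S, (∀ y ∈ ES, x * y = y * x) → x ∈ ES := fun x hx =>
    hcen (mem_centralizerIn.2 ⟨x.2, fun y hy => congrArg Subtype.val (hx ⟨y, hES hy⟩ hy)⟩)
  have hEScomm : ∀ a ∈ ES, ∀ b ∈ ES, a * b = b * a := fun a ha b hb =>
    Subtype.ext (congrArg (fun z : E => (z : Ω)) (hEcomm ⟨a, ha⟩ ⟨b, hb⟩) :)
  set A0 := NS ⊓ Subgroup.centralizer (NS : Set S) with hA0
  haveI hA0n : A0.Normal := inferInstance
  have hA0E : A0 ≤ ES := fun a ha => hcS a fun y hy =>
    (Subgroup.mem_centralizer_iff.mp ha.2 y (hEN hy)).symm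
  have hA0N : ∀ a ∈ A0, ∀ n ∈ NS, a * n = n * a := fun a ha n hn =>
    (Subgroup.mem_centralizer_iff.mp ha.2 n hn).symm
  have hA0max : ∀ a, a ∈ NS → (∀ n ∈ NS, a * n = n * a) → a ∈ A0 := fun a ha h =>
    ⟨ha, Subgroup.mem_centralizer_iff.mpr fun n hn => (h n hn).symm⟩
  obtain ⟨g, hgN⟩ : ∃ g : S, g ∉ NS := by
    by_contra h
    push Not at h
    rw [(Subgroup.eq_top_iff' NS).mpr h, Subgroup.card_top, hcard] at hNSc
    exact absurd (Nat.pow_right_injective hp.out.two_le hNSc) (by norm_num)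
  set E' := ES.map (MulAut.conj g).toMonoidHom with hE'
  have hE'N : E' ≤ NS := by
    rintro _ ⟨x, hx, rfl⟩
    exact hNSn.conj_mem x (hEN hx) g
  have hE'c : Nat.card E' = p ^ 3 := by
    rw [hE', Subgroup.card_map_of_injective (MulAut.conj g).injective, hESc]
  have hne : E' ≠ ES := by
    intro h
    refine hgN ⟨g.2, Subgroup.mem_normalizer_fintype fun x hx => ?_⟩
    have h1 : MulAut.conj g (⟨x, hES hx⟩ : S) ∈ ES := h ▸ ⟨_, hx, rfl⟩
    rw [hES', Subgroup.mem_subgroupOf] at h1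
    simpa using h1
  have hA0c : Nat.card A0 = p ^ 2 := by
    have hle : ES ⊓ E' ≤ A0 := by
      rintro x ⟨hx, y, hy, rfl⟩
      refine hA0max _ (hEN hx) fun n hn => ?_
      have hlt' : ES < ES ⊔ E' := lt_of_le_of_ne le_sup_left fun e => hne
        (Subgroup.eq_of_le_of_card_ge (le_sup_right.trans e.ge) (by rw [hE'c, hESc]))
      have htop : ES ⊔ E' = NS := eq_of_step hS hlt' (sup_le hEN hE'N) (by rw [hNSc, hESc, ← pow_succ'])
      have hc : ES ⊔ E' ≤ Subgroup.centralizer {MulAut.conj g y} := by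
        refine sup_le (fun z hz => Subgroup.mem_centralizer_singleton_iff.mpr
          (hEScomm z hz _ hx)) ?_
        rintro _ ⟨z, hz, rfl⟩
        refine Subgroup.mem_centralizer_singleton_iff.mpr ?_
        show MulAut.conj g z * MulAut.conj g y = MulAut.conj g y * MulAut.conj g z
        rw [← map_mul, hEScomm z hz y hy, map_mul]
      exact (Subgroup.mem_centralizer_singleton_iff.mp (hc (htop.ge hn))).symm
    have h1 := (card_inf_ge hS hEN hE'N (by rw [hNSc, hESc, ← pow_succ'])).trans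
      (Nat.mul_le_mul_left p (Subgroup.card_le_of_le hle))
    rw [hE'c, show p ^ 3 = p * p ^ 2 by ring] at h1
    have h2 : A0 ≠ ES := by
      intro e
      obtain ⟨a, ha, b, hb, hab'⟩ := hab NS hNSc.ge
      apply hab'
      obtain ⟨d, hd, hdE⟩ := SetLike.exists_of_lt (lt_of_le_of_ne hEN fun e' => by
        rw [← e', hESc] at hNSc
        exact absurd (Nat.pow_right_injective hp.out.two_le hNSc) (by norm_num))
      have hcd : NS ≤ Subgroup.centralizer {d} := by
        have hlt' : ES < ES ⊔ Subgroup.zpowers d := lt_of_le_of_ne le_sup_left fun e' =>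
          hdE (e'.ge (Subgroup.mem_sup_right (Subgroup.mem_zpowers d)))
        refine (eq_of_step hS hlt' (sup_le hEN (Subgroup.zpowers_le.mpr hd))
          (by rw [hNSc, hESc, ← pow_succ'])).ge.trans (sup_le (fun z hz => ?_) ?_)
        · exact Subgroup.mem_centralizer_singleton_iff.mpr (hA0N z (e ▸ hz) d hd)
        · exact Subgroup.zpowers_le.mpr (Subgroup.mem_centralizer_singleton_iff.mpr rfl)
      have hdA : d ∈ A0 := hA0max d hd fun n hn =>
        (Subgroup.mem_centralizer_singleton_iff.mp (hcd hn)).symm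
      exact absurd (e ▸ hdA) hdE
    have h3 := card_step hS (lt_of_le_of_ne hA0E h2)
    rw [hESc, show p ^ 3 = p * p ^ 2 by ring] at h3
    exact le_antisymm (Nat.le_of_mul_le_mul_left h3 hp.out.pos) (Nat.le_of_mul_le_mul_left h1 hp.out.pos)
  -- the commutators of the normalizer
  have hna : ¬ IsMulCommutative ↥NS := by
    intro h
    obtain ⟨a, ha, b, hb, hne'⟩ := hab NS hNSc.ge
    exact hne' (congrArg Subtype.val (h.is_comm.comm (⟨a, ha⟩ : NS) ⟨b, hb⟩))
  have hidx : (Subgroup.center ↥NS).index ≤ p ^ 2 := by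
    have h1 : A0.subgroupOf NS ≤ Subgroup.center ↥NS := fun a ha => Subgroup.mem_center_iff.mpr fun n =>
      Subtype.ext (hA0N _ ha n n.2).symm
    have h2 := Subgroup.card_le_of_le h1
    rw [Nat.card_congr (Subgroup.subgroupOfEquivOfLe (inf_le_left : A0 ≤ NS)).toEquiv, hA0c] at h2
    have h3 := (Subgroup.center ↥NS).card_mul_index
    rw [hNSc] at h3
    by_contra h4
    push Not at h4
    have h5 : p ^ 2 * (p ^ 2) < Nat.card (Subgroup.center ↥NS) * (Subgroup.center ↥NS).index :=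
      lt_of_lt_of_le (Nat.mul_lt_mul_of_pos_left h4 (pow_pos hp.out.pos 2)) (Nat.mul_le_mul_right _ h2)
    rw [h3, ← pow_add] at h5
    exact lt_irrefl _ h5
  obtain ⟨-, -, s, hsZ, hs1, hsp, hcomm⟩ :=
    Cfsg.Agent.S5265.center_facts (hS.to_subgroup NS) hidx hna
  set c : S := (s : S) with hc
  have hcp : c ^ p = 1 := congrArg Subtype.val hsp
  have hc1 : c ≠ 1 := fun h => hs1 (Subtype.ext h)
  have hNN : ∀ x ∈ NS, ∀ y ∈ NS, ⁅x, y⁆ ∈ Subgroup.zpowers c := by
    intro x hx y hy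
    obtain ⟨i, hi⟩ := hcomm (⟨x, hx⟩ : NS) ⟨y, hy⟩
    exact ⟨i, by simpa [commutatorElement_def] using congrArg Subtype.val hi⟩
  have hcA0 : c ∈ A0 := hA0max c s.2 fun n hn =>
    (congrArg Subtype.val (Subgroup.mem_center_iff.mp hsZ ⟨n, hn⟩)).symm
  have hcC : c ∈ Subgroup.center S := by
    have hder : ⁅NS, NS⁆ = Subgroup.zpowers c := by
      have hle : ⁅NS, NS⁆ ≤ Subgroup.zpowers c := Subgroup.commutator_le.mpr hNN
      refine Subgroup.eq_of_le_of_card_ge hle ?_
      rw [Nat.card_zpowers, orderOf_eq_prime hcp hc1]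
      obtain ⟨a, ha, b, hb, hne'⟩ := hab NS hNSc.ge
      obtain ⟨k, hk⟩ := card_eq_pow hS ⁅NS, NS⁆
      rw [hk]
      refine Nat.le_self_pow (fun h0 => hne' ?_) p
      rw [h0, pow_zero, Subgroup.card_eq_one] at hk
      exact commutatorElement_eq_one_iff_mul_comm.mp
        (Subgroup.mem_bot.mp (hk ▸ Subgroup.commutator_mem_commutator ha hb))
    haveI : (Subgroup.zpowers c).Normal := hder ▸ inferInstance
    exact Cfsg.Lib.PGroup.le_center_of_card_eq_prime hS
      (by rw [Nat.card_zpowers, orderOf_eq_prime hcp hc1]) (Subgroup.mem_zpowers c)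
  obtain ⟨d0, hd0, hd0E⟩ := SetLike.exists_of_lt (lt_of_le_of_ne hEN fun e' => by
    rw [← e', hESc] at hNSc
    exact absurd (Nat.pow_right_injective hp.out.two_le hNSc) (by norm_num))
  set u := cA F hES ⟨(d0 : Ω), hd0⟩ with hu
  have huR : u ∈ R := hrange ▸ ⟨_, rfl⟩
  have hu1 : u ≠ 1 := fun h => hd0E (hker _ h)
  have hRgen : ∀ a ∈ R, ∃ i : ℕ, u ^ i = a := by
    intro a ha
    have heq : Subgroup.zpowers u = R := Subgroup.eq_of_le_of_card_ge (Subgroup.zpowers_le.mpr huR) (by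
      rw [hRc, Nat.card_zpowers]
      refine Nat.le_of_dvd (orderOf_pos u) ?_
      have hd := orderOf_dvd_natCard (⟨u, huR⟩ : R)
      rw [hRc, Subgroup.orderOf_mk] at hd
      rcases (Nat.dvd_prime hp.out).mp hd with h | h
      · exact absurd (orderOf_eq_one_iff.mp h) hu1
      · rw [h])
    exact mem_powers_iff_mem_zpowers.mpr (heq.ge ha)
  set e : E := ⟨(c : Ω), hA0E hcA0⟩ with he
  have hue : (u : MulAut E) e = e := Subtype.ext (by
    rw [coe_cA]
    exact conj_eq_of_commute (congrArg Subtype.val (Subgroup.mem_center_iff.mp hcC d0)))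
  have hdisp : ∀ x : E, ∃ i : ℕ, (u : MulAut E) x = x * e ^ i := by
    intro x
    obtain ⟨i, hi⟩ := mem_powers_iff_mem_zpowers.mpr
      (hNN (Subgroup.inclusion hES x)⁻¹ (NS.inv_mem (hEN x.2)) d0 hd0)
    refine ⟨i, Subtype.ext ?_⟩
    have h1 := congrArg Subtype.val hi
    simp only [SubgroupClass.coe_pow, commutatorElement_def, Subgroup.coe_mul, InvMemClass.coe_inv, inv_inv] at h1
    rw [coe_cA, Subgroup.coe_mul, SubgroupClass.coe_pow]
    show (d0 : Ω) * x * (d0 : Ω)⁻¹ = x * (c : Ω) ^ i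
    rw [h1]
    simp [mul_assoc]
  have hep : e ^ p = 1 := hEexp e
  have he1 : e ≠ 1 := fun h => hc1 (Subtype.ext (congrArg (fun x : E => (x : Ω)) h :))
  have hmove : ∃ a : ↥(F.autGroup E), (a : MulAut E) e ∉ Subgroup.zpowers e := by
    by_contra hmv
    push Not at hmv
    set L := Subgroup.zpowers e
    have hall : ∀ a : F.autGroup E, ∀ x ∈ L, (a : MulAut E) x ∈ L := fun a =>
      zpowers_map (a : MulAut E).toMonoidHom (hmv a)
    have hNn : (fixShift (F.autGroup E) L L le_rfl).Normal := ⟨fun b hb a =>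
      conj_mem_fixShift le_rfl le_rfl a hb (hall a⁻¹) (hall a)⟩
    have huN : u ∈ fixShift (F.autGroup E) L L le_rfl := by
      refine ⟨zpowers_le_eqLocus hue, fun x => ?_⟩
      obtain ⟨i, hi⟩ := hdisp x
      rw [hi, inv_mul_cancel_left]
      exact Subgroup.pow_mem _ (Subgroup.mem_zpowers e) i
    rw [hO' _ hNn (fixShift_pGroup le_rfl hEexp), Subgroup.mem_bot] at huN
    exact hu1 huN
  refine ⟨hES, NS, A0, hNSn, hA0n, c, d0, u, e, rfl, hNSc, hEN, hA0c, hA0E, hA0N, hA0max, Subtype.ext rfl,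
    hcC, hcA0, hNN, hd0, hd0E, fun x => Subtype.ext (coe_cA (F := F) hES _ x), hRgen, huR,
    ⟨hEcomm, hep, he1, hue, hdisp, hu1, fun Q hQ => hRc ▸ hsmallR Q hQ, hmove⟩⟩
where
  zpowers_le_eqLocus {e : E} {u : MulAut E} (h : u e = e) : ∀ x ∈ Subgroup.zpowers e, u x = x :=
    (Subgroup.zpowers_le.2 h : Subgroup.zpowers e ≤ u.toMonoidHom.eqLocus (MonoidHom.id E))

/-- The invariant complement of the transvection plane. -/
theorem elem_complement (hS : IsPGroup p S) (hF : F.IsSaturated p) (hE : F.IsEssential p E)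
    (hcard : Nat.card S = p ^ 5)
    (hab : ∀ B : Subgroup S, p ^ 4 ≤ Nat.card B → ∃ a ∈ B, ∃ b ∈ B, a * b ≠ b * a)
    (hEc : Nat.card E = p ^ 3) (hEel : Cfsg.IsElementaryAbelian p E) :
    ∃ C : Subgroup E, Nat.card C = p ∧ ∀ α ∈ F.autGroup E, ∀ x ∈ C, α x ∈ C := by
  obtain ⟨hES, NS, A0, -, -, c, d0, u, e, -, -, -, -, -, -, -, -, -, -, -, -, -, -, -, -, hdata⟩ :=
    elem_data hS hF hE hcard hab hEc hEel
  haveI := finite_of_le hES
  haveI : Finite ↥(F.autGroup E) := Finite.of_injective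
    (fun a : F.autGroup E => ((a : MulAut E) : E → E))
    (DFunLike.coe_injective.comp Subtype.val_injective)
  obtain ⟨u', f, C, hfp, -, -, -, -, -, hdec, hmeet, hCinv, -⟩ := Transvection.exists_decomp hdata
  refine ⟨C, ?_, fun α hα => hCinv ⟨α, hα⟩⟩
  have hEcomm := hdata.comm
  let θ : (Fin p × Fin p) × C → E := fun q => e ^ (q.1.1 : ℕ) * f ^ (q.1.2 : ℕ) * q.2
  have hep := hdata.ep
  have hinj : Function.Injective θ := by
    rintro ⟨⟨i, j⟩, x⟩ ⟨⟨i', j'⟩, y⟩ h
    simp only [θ] at h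
    have h1 : e ^ ((i : ℕ) + (p - (i' : ℕ))) * f ^ ((j : ℕ) + (p - (j' : ℕ))) = (y : E) * (x : E)⁻¹ := by
      have hi : e ^ ((i' : ℕ)) * e ^ (p - (i' : ℕ)) = 1 := by
        rw [← pow_add, Nat.add_sub_cancel' i'.2.le, hep]
      have hj : f ^ ((j' : ℕ)) * f ^ (p - (j' : ℕ)) = 1 := by
        rw [← pow_add, Nat.add_sub_cancel' j'.2.le, hfp]
      letI : CommGroup E := { (inferInstance : Group E) with mul_comm := hEcomm }
      rw [pow_add, pow_add, eq_mul_inv_iff_mul_eq]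
      calc e ^ (i : ℕ) * e ^ (p - (i' : ℕ)) * (f ^ (j : ℕ) * f ^ (p - (j' : ℕ))) * (x : E)
          = (e ^ (i : ℕ) * f ^ (j : ℕ) * x) * (e ^ (p - (i' : ℕ)) * f ^ (p - (j' : ℕ))) := by ac_rfl
        _ = (e ^ (i' : ℕ) * e ^ (p - (i' : ℕ))) * (f ^ (j' : ℕ) * f ^ (p - (j' : ℕ))) * y := by rw [h]; ac_rfl
        _ = y := by rw [hi, hj, one_mul, one_mul]
    obtain ⟨hd1, hd2⟩ := hmeet _ _ (h1 ▸ C.mul_mem y.2 (C.inv_mem x.2))
    have hii : i = i' := by
      refine Fin.ext ((Nat.ModEq.eq_of_lt_of_lt ?_ i.2 i'.2))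
      refine Nat.ModEq.add_right_cancel' (p - (i' : ℕ)) ?_
      rw [Nat.add_sub_cancel' i'.2.le]
      exact (Nat.modEq_zero_iff_dvd.mpr hd1).trans (Nat.modEq_zero_iff_dvd.mpr dvd_rfl).symm
    have hjj : j = j' := by
      refine Fin.ext ((Nat.ModEq.eq_of_lt_of_lt ?_ j.2 j'.2))
      refine Nat.ModEq.add_right_cancel' (p - (j' : ℕ)) ?_
      rw [Nat.add_sub_cancel' j'.2.le]
      exact (Nat.modEq_zero_iff_dvd.mpr hd2).trans (Nat.modEq_zero_iff_dvd.mpr dvd_rfl).symm
    subst hii hjj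
    exact Prod.ext rfl (Subtype.ext (mul_left_cancel h))
  have hsurj : Function.Surjective θ := by
    intro x
    obtain ⟨i, j, y, hy, rfl⟩ := hdec x
    refine ⟨((⟨i % p, Nat.mod_lt _ hp.out.pos⟩, ⟨j % p, Nat.mod_lt _ hp.out.pos⟩), ⟨y, hy⟩), ?_⟩
    show e ^ (i % p) * f ^ (j % p) * y = _
    rw [Plane.pow_eq_pow_of_modEq hep (Nat.mod_modEq i p), Plane.pow_eq_pow_of_modEq hfp (Nat.mod_modEq j p)]
  have := Nat.card_congr (Equiv.ofBijective θ ⟨hinj, hsurj⟩)
  rw [Nat.card_prod, Nat.card_prod, Nat.card_fin, hEc, show p ^ 3 = p * p * p by ring] at this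
  exact Nat.eq_of_mul_eq_mul_left (Nat.mul_pos hp.out.pos hp.out.pos) this

/-- The case with an elementary abelian essential subgroup of order `p ^ 3`. -/
theorem elementary_case (hS : IsPGroup p S) (hF : F.IsSaturated p) (hp2 : p ≠ 2) (hE : F.IsEssential p E)
    (hcard : Nat.card S = p ^ 5)
    (hab : ∀ B : Subgroup S, p ^ 4 ≤ Nat.card B → ∃ a ∈ B, ∃ b ∈ B, a * b ≠ b * a)
    (hEc : Nat.card E = p ^ 3) (hEel : Cfsg.IsElementaryAbelian p E) :
    p = 3 ∧ Subgroup.center S ≤ commutator S ∧ Nat.card (Subgroup.center S) = p ∧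
      ∃ K : Subgroup S, commutator S ≤ K ∧ K ≠ ⊤ ∧ ∀ h ∈ F.autGroup S, ∀ x, x⁻¹ * h x ∈ K := by
  obtain ⟨hES, NS, A0, hNSn, hA0n, c, d0, u, e, hNS, hNSc, hEN, hA0c, hA0E, hA0N, hA0max, hec, hcC, hcA0,
    hNN, hd0, hd0E, hud, hRgen, huR, hdata⟩ := elem_data hS hF hE hcard hab hEc hEel
  haveI := finite_of_le hES
  haveI : Finite ↥(F.autGroup E) := Finite.of_injective
    (fun a : F.autGroup E => ((a : MulAut E) : E → E))
    (DFunLike.coe_injective.comp Subtype.val_injective)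
  obtain ⟨u', f, C, hfp, huf, hu'f, hu'e, hCfix, hfix, hdec, hmeet, -, -⟩ := Transvection.exists_decomp hdata
  set ι := Subgroup.inclusion hES with hι
  set ES := E.subgroupOf S with hES'
  have hESc : Nat.card ES = p ^ 3 := by
    rw [hES', Nat.card_congr (Subgroup.subgroupOfEquivOfLe hES).toEquiv, hEc]
  have hιE : ∀ x : E, ι x ∈ ES := fun x => x.2
  have hEScomm : ∀ a ∈ ES, ∀ b ∈ ES, a * b = b * a := fun a ha b hb =>
    Subtype.ext (congrArg (fun z : E => (z : Ω)) (hdata.comm ⟨a, ha⟩ ⟨b, hb⟩) :)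
  have hd0gen : ∀ n ∈ NS, ∃ i : ℕ, (d0 ^ i)⁻¹ * n ∈ ES := by
    intro n hn
    have hc' : Nat.card NS = p * Nat.card (ES.subgroupOf NS) := by
      rw [Nat.card_congr (Subgroup.subgroupOfEquivOfLe hEN).toEquiv, hNSc, hESc, ← pow_succ']
    haveI := normal_of_card (hS.to_subgroup NS) hc'
    obtain ⟨i, hi⟩ := gen_of_step (hS.to_subgroup NS) (X := ES.subgroupOf NS) le_top
      (by rw [Subgroup.card_top, hc']) (Subgroup.mem_top (⟨d0, hd0⟩ : NS)) hd0E (Subgroup.mem_top ⟨n, hn⟩)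
    exact ⟨i, by simpa [Subgroup.mem_subgroupOf] using hi⟩
  have hfixA0 : ∀ x : E, (u : MulAut E) x = x → ι x ∈ A0 := by
    intro x hx
    refine hA0max _ (hEN (hιE x)) fun n hn => ?_
    obtain ⟨i, hi⟩ := hd0gen n hn
    have h1 : Commute d0 (ι x) := by
      have := hud x
      rw [hx] at this
      exact mul_inv_eq_iff_eq_mul.mp this.symm
    rw [← mul_inv_cancel_left (d0 ^ i) n]
    exact ((h1.pow_left i).symm.mul_right (hEScomm _ (hιE x) _ hi)).eq
  have hA0fix : ∀ x : E, ι x ∈ A0 → (u : MulAut E) x = x := fun x hx => by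
    refine Subgroup.inclusion_injective hES ?_
    rw [← hι, hud x, ← hA0N _ hx d0 hd0, mul_inv_cancel_right]
  have hfA : ι f ∉ A0 := fun h => by
    have := hA0fix f h
    rw [huf] at this
    exact hdata.e1 (mul_eq_right.mp this)
  -- a generator of the complement
  obtain ⟨w, hwC, hwe⟩ : ∃ w ∈ C, w ∉ Subgroup.zpowers e := by
    by_contra h
    push Not at h
    have h1 : A0 ≤ Subgroup.zpowers c := by
      intro a ha
      obtain ⟨i, y, hy, hx⟩ := hfix ⟨(a : Ω), hA0E ha⟩ (hA0fix _ ha)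
      have h2 : (⟨(a : Ω), hA0E ha⟩ : E) ∈ Subgroup.zpowers e := hx ▸ mul_mem (pow_mem (Subgroup.mem_zpowers e) i) (h y hy)
      obtain ⟨j, hj⟩ := h2
      refine ⟨j, ?_⟩
      have h3 := congrArg ι hj
      simp only [map_zpow] at h3
      rw [hec] at h3
      exact h3
    have h4 := Subgroup.card_le_of_le h1
    rw [hA0c, Nat.card_zpowers, ← hec, orderOf_eq_prime (by rw [← map_pow, hdata.ep, map_one])
      (fun hh => hdata.e1 (Subgroup.inclusion_injective hES (hh.trans (map_one _).symm)))] at h4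
    nlinarith [hp.out.one_lt]
  have hwA : ι w ∈ A0 := hfixA0 w (hCfix w hwC).1
  obtain ⟨g, hgN⟩ : ∃ g : S, g ∉ NS := by
    by_contra h
    push Not at h
    rw [(Subgroup.eq_top_iff' NS).mpr h, Subgroup.card_top, hcard] at hNSc
    exact absurd (Nat.pow_right_injective hp.out.two_le hNSc) (by norm_num)
  have hfg : ι f ∈ ES := hιE f
  have hA0gen : ∀ x ∈ ES, ∃ i : ℕ, (ι f ^ i)⁻¹ * x ∈ A0 := fun x hx =>
    gen_of_step hS hA0E (by rw [hESc, hA0c, ← pow_succ']) hfg hfA hx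
  have hgE : g * ι f * g⁻¹ ∉ ES := by
    intro h
    refine hgN ?_
    rw [hNS]
    refine ⟨g.2, Subgroup.mem_normalizer_fintype fun x hx => ?_⟩
    obtain ⟨i, hi⟩ := hA0gen ⟨x, hES hx⟩ hx
    have h1 : g * (⟨x, hES hx⟩ : S) * g⁻¹ ∈ ES := by
      have e1 : g * (⟨x, hES hx⟩ : S) * g⁻¹ = (g * ι f * g⁻¹) ^ i * (g * ((ι f ^ i)⁻¹ * ⟨x, hES hx⟩) * g⁻¹) := by
        rw [conj_pow]; group
      rw [e1]
      exact mul_mem (pow_mem h i) (hA0E (hA0n.conj_mem _ hi g))
    exact h1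
  have hdE : ⁅ι f, g⁆ ∉ ES := by
    intro h
    apply hgE
    have e1 : g * ι f * g⁻¹ = ⁅ι f, g⁆⁻¹ * ι f := by rw [commutatorElement_def]; group
    rw [e1]
    exact mul_mem (inv_mem h) hfg
  -- the middle term of the series
  have hA0N' : A0 ≤ NS := hA0E.trans hEN
  obtain ⟨DS, hDn, hAD, hDN, hDc⟩ := exists_normal_step hS (lt_of_le_of_ne hA0N' fun h => by
    rw [← h, hA0c] at hNSc
    exact absurd (Nat.pow_right_injective hp.out.two_le hNSc) (by norm_num))
  rw [hA0c, ← pow_succ'] at hDc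
  have hED : ES ≠ DS := fun h => hgE (h ▸ hDn.conj_mem _ (h ▸ hfg) g)
  have hcenE : Subgroup.center S ≤ ES := fun z hz => hE.1.2 E (isConj_refl F hES) (mem_centralizerIn.2
    ⟨z.2, fun x hx => congrArg Subtype.val (Subgroup.mem_center_iff.mp hz ⟨x, hES hx⟩).symm⟩)
  obtain ⟨m, hm, hinn⟩ := exists_inner_pow hS hF
  refine calc_elem hS hp2 hcard hab (N := NS) (D := DS) (E := ES) (A0 := A0) hAD hDN hA0E hEN hNSc hDc hESc
    hA0c hED hA0N hcenE (c := c) (w := ι w) (f := ι f) (g := g) hcC ?_ ?_ hcA0 hwA ?_ ?_ hfg hfA ?_ hgN hdE hNN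
    (F.autGroup S) hm hinn ?_
  · exact fun h => hdata.e1 (Subgroup.inclusion_injective hES ((hec.trans h).trans (map_one _).symm))
  · rw [← hec, ← map_pow, hdata.ep, map_one]
  · rw [← map_pow, show w ^ p = 1 from Subtype.ext (by simpa using hEel.2 w w.2), map_one]
  · intro h
    rw [← hec, ← MonoidHom.map_zpowers] at h
    obtain ⟨y, hy, hyw⟩ := h
    exact hwe (Subgroup.inclusion_injective hES hyw ▸ hy)
  · rw [← map_pow, hfp, map_one]
  -- the automorphisms
  intro n l hnl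
  set k := (p - 1) * n with hk
  have hep := hdata.ep
  have hEC : ∀ x y : E, Commute x y := hdata.comm
  have hpowu : ∀ i : ℕ, ((u ^ i : F.autGroup E) : MulAut E) e = e ∧
      ((u ^ i : F.autGroup E) : MulAut E) f = e ^ i * f ∧
      ∀ y ∈ C, ((u ^ i : F.autGroup E) : MulAut E) y = y := by
    intro i
    induction i with
    | zero => simp
    | succ i ih =>
      refine ⟨?_, ?_, fun y hy => ?_⟩
      · rw [pow_succ', Subgroup.coe_mul, MulAut.mul_apply, ih.1, hdata.ue]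
      · rw [pow_succ', Subgroup.coe_mul, MulAut.mul_apply, ih.2.1, map_mul, map_pow, hdata.ue, huf, ← mul_assoc,
          ← pow_succ]
      · rw [pow_succ', Subgroup.coe_mul, MulAut.mul_apply, ih.2.2 y hy, (hCfix y hy).1]
  have hpowu' : ∀ i : ℕ, ((u' ^ i : F.autGroup E) : MulAut E) e = e * f ^ i ∧
      ((u' ^ i : F.autGroup E) : MulAut E) f = f ∧
      ∀ y ∈ C, ((u' ^ i : F.autGroup E) : MulAut E) y = y := by
    intro i
    induction i with
    | zero => simp
    | succ i ih =>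
      refine ⟨?_, ?_, fun y hy => ?_⟩
      · rw [pow_succ', Subgroup.coe_mul, MulAut.mul_apply, ih.1, map_mul, map_pow, hu'e, hu'f, mul_assoc,
          ← pow_succ']
      · rw [pow_succ', Subgroup.coe_mul, MulAut.mul_apply, ih.2.1, hu'f]
      · rw [pow_succ', Subgroup.coe_mul, MulAut.mul_apply, ih.2.2 y hy, (hCfix y hy).2]
  have hM : ∀ a b : ℕ, a * b + 1 ≡ 0 [MOD p] →
      ((u ^ a * u' ^ b * u ^ a : F.autGroup E) : MulAut E) e = f ^ b ∧
      ((u ^ a * u' ^ b * u ^ a : F.autGroup E) : MulAut E) f = e ^ a ∧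
      ∀ y ∈ C, ((u ^ a * u' ^ b * u ^ a : F.autGroup E) : MulAut E) y = y := by
    intro a b hab'
    refine ⟨?_, ?_, fun y hy => ?_⟩
    · rw [Subgroup.coe_mul, Subgroup.coe_mul, MulAut.mul_apply, MulAut.mul_apply, (hpowu a).1, (hpowu' b).1,
        map_mul, map_pow, (hpowu a).1, (hpowu a).2.1, (hEC (e ^ a) f).mul_pow, ← mul_assoc, ← pow_mul, ← pow_succ',
        Plane.pow_eq_pow_of_modEq hep hab', pow_zero, one_mul]
    · rw [Subgroup.coe_mul, Subgroup.coe_mul, MulAut.mul_apply, MulAut.mul_apply, (hpowu a).2.1, map_mul, map_pow,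
        (hpowu' b).1, (hpowu' b).2.1, (hEC e (f ^ b)).mul_pow, mul_assoc, ← pow_mul, ← pow_succ, mul_comm b a,
        Plane.pow_eq_pow_of_modEq hfp hab', pow_zero, mul_one, map_pow, (hpowu a).1]
    · rw [Subgroup.coe_mul, Subgroup.coe_mul, MulAut.mul_apply, MulAut.mul_apply, (hpowu a).2.2 y hy,
        (hpowu' b).2.2 y hy, (hpowu a).2.2 y hy]
  have hp1 : ((p - 1 : ℕ) : ZMod p) = -1 := by
    rw [Nat.cast_sub hp.out.one_le, ZMod.natCast_self, Nat.cast_one, zero_sub]
  obtain ⟨hA1, hA2, hA3⟩ := hM k l (by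
    rw [← ZMod.natCast_eq_natCast_iff] at hnl ⊢
    push_cast at hnl ⊢
    rw [hk, Nat.cast_mul, hp1]
    linear_combination -hnl)
  obtain ⟨hB1, hB2, hB3⟩ := hM 1 (p - 1) (by
    rw [one_mul, Nat.sub_add_cancel hp.out.one_le]
    exact Nat.modEq_zero_iff_dvd.mpr dvd_rfl)
  set t := (u ^ k * u' ^ l * u ^ k) * (u ^ 1 * u' ^ (p - 1) * u ^ 1) with ht
  have hte : (t : MulAut E) e = e ^ n := by
    rw [ht, Subgroup.coe_mul, MulAut.mul_apply, hB1, map_pow, hA2, ← pow_mul]
    refine Plane.pow_eq_pow_of_modEq hep ?_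
    rw [← ZMod.natCast_eq_natCast_iff, Nat.cast_mul, hk, Nat.cast_mul, hp1]
    ring
  have htf : (t : MulAut E) f = f ^ l := by
    rw [ht, Subgroup.coe_mul, MulAut.mul_apply, hB2, pow_one, hA1]
  have htw : (t : MulAut E) w = w := by
    rw [ht, Subgroup.coe_mul, MulAut.mul_apply, hB3 w hwC, hA3 w hwC]
  -- the scalar on the transvection
  obtain ⟨i, hi⟩ := Transvection.conj_eq_pow hdata t (by rw [hte]; exact pow_mem (Subgroup.mem_zpowers e) n)
  have hin : i ≡ n * n [MOD p] := by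
    have h1 : ((u ^ i * t : F.autGroup E) : MulAut E) f = ((t * u : F.autGroup E) : MulAut E) f := by
      rw [hi, inv_mul_cancel_right]
    rw [Subgroup.coe_mul, MulAut.mul_apply, htf, map_pow, (hpowu i).2.1, Subgroup.coe_mul, MulAut.mul_apply, huf,
      map_mul, hte, htf, (hEC (e ^ i) f).mul_pow, mul_right_cancel_iff, ← pow_mul] at h1
    have h2 := Plane.modEq_of_pow_eq hep hdata.e1 h1
    rw [← ZMod.natCast_eq_natCast_iff] at h2 hnl ⊢
    push_cast at h2 hnl ⊢
    linear_combination (n : ZMod p) * h2 - (i : ZMod p) * hnl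
  set N := normalizerIn S E with hN
  obtain ⟨ψ, hψ, hψe⟩ := extend_of_normalizes hS hF hE.2.1 t (fun a ha => by
    obtain ⟨j, rfl⟩ := hRgen a ha
    rw [← conj_pow, ← hi]
    exact pow_mem (pow_mem huR i) j)
  -- the automorphism of the normalizer
  have hNle : N ≤ S := normalizerIn_le E
  haveI := finite_of_le hNle
  have hNp : IsPGroup p N := hS.to_le hNle
  set η := Subgroup.inclusion hNle with hη
  have hηNS : ∀ x : N, η x ∈ NS := fun x => by rw [hNS]; exact x.2
  have hNn : S ≤ normalizerIn S N := fun s hs => ⟨hs, Subgroup.mem_normalizer_fintype fun x hx => by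
    have h1 := hNSn.conj_mem (⟨x, hNle hx⟩ : S) (by rw [hNS]; exact hx) ⟨s, hs⟩
    rw [hNS] at h1
    exact h1⟩
  let pull : Subgroup S → Subgroup N := fun X => X.comap η
  have hpull : ∀ X : Subgroup S, X ≤ NS → Nat.card (pull X) = Nat.card X := by
    intro X hX
    refine Nat.card_congr (Equiv.ofBijective (fun x : pull X => (⟨η x, x.2⟩ : X)) ⟨fun a b h => ?_, fun x => ?_⟩)
    · exact Subtype.ext (Subgroup.inclusion_injective hNle (congrArg Subtype.val h))
    · have hx : (x : Ω) ∈ N := by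
        have h1 : (x : S) ∈ NS := hX x.2
        rw [hNS] at h1
        exact h1
      exact ⟨⟨⟨x, hx⟩, x.2⟩, Subtype.ext (Subtype.ext rfl)⟩
  have hNc : Nat.card N = p ^ 4 := by
    rw [← hNSc, hNS, Nat.card_congr (Subgroup.subgroupOfEquivOfLe hNle).toEquiv]
  have hLinv : ∀ a : MulAut N, ∀ x ∈ pull A0, a x ∈ pull A0 := by
    intro a x hx
    refine hA0max _ (hηNS _) fun y hy => ?_
    rw [hNS] at hy
    have h1 : a (x * a.symm ⟨y, hy⟩) = a (a.symm ⟨y, hy⟩ * x) := by
      congr 1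
      exact Subgroup.inclusion_injective hNle (by rw [map_mul, map_mul]; exact hA0N _ hx _ (hηNS _))
    simp only [map_mul, MulEquiv.apply_symm_apply] at h1
    exact congrArg η h1
  haveI hAn' : (pull A0).Normal := Subgroup.Normal.comap hA0n η
  haveI hEn' : (pull ES).Normal := normal_of_card hNp (by rw [hNc, hpull ES hEN, hESc, ← pow_succ'])
  haveI hDn' : (pull DS).Normal := Subgroup.Normal.comap hDn η
  have hd0N : (d0 : Ω) ∈ N := by have := hd0; rw [hNS] at this; exact this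
  set dN : N := ⟨d0, hd0N⟩
  have hψE : ∀ x : E, ∀ hx : (x : Ω) ∈ N, η (ψ ⟨x, hx⟩) = ι ((t : MulAut E) x) := fun x hx =>
    Subtype.ext (hψe x hx)
  have hψES : ∀ x ∈ pull ES, ψ x ∈ pull ES := fun x hx => by
    show η (ψ x) ∈ ES
    rw [show x = (⟨((⟨x, hx⟩ : E) : Ω), x.2⟩ : N) from rfl, hψE]
    exact hιE _
  -- the scalar on the quotient by `E`
  have hψd : (dN ^ (n * n))⁻¹ * ψ dN ∈ pull ES := by
    have hconj : ∀ y : E, η (ψ dN) * ι y * (η (ψ dN))⁻¹ = d0 ^ i * ι y * (d0 ^ i)⁻¹ := by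
      intro y
      obtain ⟨x, rfl⟩ := (t : MulAut E).surjective y
      have hxN : (x : Ω) ∈ N := le_normalizerIn hES x.2
      have hu'N : (((u : MulAut E) x : E) : Ω) ∈ N := le_normalizerIn hES ((u : MulAut E) x).2
      have e1 : dN * ⟨x, hxN⟩ * dN⁻¹ = ⟨((u : MulAut E) x : E), hu'N⟩ :=
        Subgroup.inclusion_injective hNle (by rw [map_mul, map_mul, map_inv]; exact (hud x).symm)
      have e2 := congrArg (fun z => η (ψ z)) e1
      simp only [map_mul, map_inv] at e2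
      rw [hψE, hψE] at e2
      rw [e2]
      have hiter : ∀ j : ℕ, ∀ z : E, ι (((u ^ j : F.autGroup E) : MulAut E) z) = d0 ^ j * ι z * (d0 ^ j)⁻¹ := by
        intro j
        induction j with
        | zero => intro z; simp
        | succ j ih =>
          intro z
          rw [pow_succ', Subgroup.coe_mul, MulAut.mul_apply, hud, ih, pow_succ']
          group
      rw [← hiter, hi]
      simp [MulAut.mul_apply, MulAut.inv_apply]
    have h1 : (d0 ^ i)⁻¹ * η (ψ dN) ∈ ES := by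
      refine hE.1.2 E (isConj_refl F hES) (mem_centralizerIn.2 ⟨((d0 ^ i)⁻¹ * η (ψ dN)).2, fun x hx => ?_⟩)
      have h2 := hconj ⟨x, hx⟩
      refine congrArg Subtype.val (?_ : ((d0 ^ i)⁻¹ * η (ψ dN)) * ι ⟨x, hx⟩ = ι ⟨x, hx⟩ * ((d0 ^ i)⁻¹ * η (ψ dN)))
      calc (d0 ^ i)⁻¹ * η (ψ dN) * ι ⟨x, hx⟩ = (d0 ^ i)⁻¹ * (η (ψ dN) * ι ⟨x, hx⟩ * (η (ψ dN))⁻¹) * η (ψ dN) := by group
        _ = _ := by rw [h2]; group
    refine mod_trans' (y := dN ^ i) (pow_congr_mem ?_ hin.symm) ?_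
    · exact pow_p_mem_step hNp le_top (by rw [Subgroup.card_top, hNc, hpull ES hEN, hESc, ← pow_succ']) (Subgroup.mem_top dN)
    · show η _ ∈ ES
      rw [map_mul, map_inv, map_pow]
      exact h1
  have hψx : ∀ x : N, (x ^ (n * n))⁻¹ * ψ x ∈ pull ES := by
    intro x
    obtain ⟨a, ha⟩ := hd0gen (η x) (hηNS x)
    have ha' : (dN ^ a)⁻¹ * x ∈ pull ES := by
      show η _ ∈ ES
      rw [map_mul, map_inv, map_pow]
      exact ha
    refine QuotientGroup.eq.mp ?_
    have e1 : QuotientGroup.mk' (pull ES) x = QuotientGroup.mk' (pull ES) dN ^ a := by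
      rw [← map_pow]
      exact (QuotientGroup.eq.mpr ha').symm
    have e2 : QuotientGroup.mk' (pull ES) (ψ x) = QuotientGroup.mk' (pull ES) (ψ (dN ^ a)) := by
      refine (QuotientGroup.eq.mpr ?_).symm
      rw [← map_inv, ← map_mul]
      exact hψES _ ha'
    show QuotientGroup.mk' (pull ES) (x ^ (n * n)) = QuotientGroup.mk' (pull ES) (ψ x)
    have e3 : QuotientGroup.mk' (pull ES) (ψ dN) = QuotientGroup.mk' (pull ES) dN ^ (n * n) := by
      rw [← map_pow]
      exact (QuotientGroup.eq.mpr hψd).symm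
    rw [e2, map_pow, map_pow ψ, map_pow, e3, e1, ← pow_mul, ← pow_mul, mul_comm]
  -- move the middle term back
  have hNgS : ∀ s : S, (s : Ω) ∈ normalizerIn S N := fun s => hNn s.2
  set ug := cA F hNle ⟨(g : Ω), hNgS g⟩ with hug
  have hugη : ∀ x : N, η ((ug : MulAut N) x) = g * η x * g⁻¹ := fun x => Subtype.ext (coe_cA (F := F) hNle _ x)
  obtain ⟨kg, hkg⟩ := hS g
  have hugp : ug ^ p ^ kg = 1 := by
    have h1 : (⟨(g : Ω), hNgS g⟩ : ↥(normalizerIn S N)) ^ p ^ kg = 1 :=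
      Subtype.ext (by simpa using congrArg Subtype.val hkg)
    rw [hug, ← map_pow, h1, map_one]
  obtain ⟨v, ⟨kv, hvp⟩, hvE, hvD⟩ := move_mod hNp (L := pull A0) (X := pull DS) (W := pull ES)
    (fun x hx => hAD hx) (fun x hx => hA0E hx) (by rw [hNc, hpull A0 hA0N', hA0c, ← pow_add])
    (by rw [hpull DS hDN, hpull A0 hA0N', hDc, hA0c, ← pow_succ'])
    (by rw [hpull ES hEN, hpull A0 hA0N', hESc, hA0c, ← pow_succ'])
    (fun h => by
      refine hED (le_antisymm ?_ ?_) <;> intro x hx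
      · have hxN : (x : Ω) ∈ N := by have := hEN hx; rw [hNS] at this; exact this
        exact (h.ge (show (⟨x, hxN⟩ : N) ∈ pull ES from hx) : η ⟨x, hxN⟩ ∈ DS)
      · have hxN : (x : Ω) ∈ N := by have := hDN hx; rw [hNS] at this; exact this
        exact (h.le (show (⟨x, hxN⟩ : N) ∈ pull DS from hx) : η ⟨x, hxN⟩ ∈ ES))
    (F.autGroup N) (fun a _ => hLinv a) (u := ug) (t := ⟨ψ, hψ⟩) hugp
    (fun x hx => by
      show η _ ∈ A0
      rw [map_mul, map_inv, hugη]
      have h1 := (comm_mem_step hS hAD (by rw [hDc, hA0c, ← pow_succ']) (DS.inv_mem hx) g).2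
      rw [commutatorElement_def, inv_inv] at h1
      simpa [mul_assoc] using h1)
    ⟨⟨(f : E), le_normalizerIn hES f.2⟩, fun h => hgE (by
      have h1 : (ι f)⁻¹ * (g * ι f * g⁻¹) ∈ A0 := by
        have h2 : η _ ∈ A0 := h
        rw [map_mul, map_inv, hugη] at h2
        exact h2
      have h3 := mul_mem hfg (hA0E h1)
      rwa [mul_inv_cancel_left] at h3)⟩
    hψES
  set T0 := v * (⟨ψ, hψ⟩ : F.autGroup N) with hT0
  have hT0a : ∀ x, (T0 : MulAut N) x = (v : MulAut N) (ψ x) := fun x => rfl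
  have hvpow : (v : MulAut N) ^ p ^ kv = 1 := by rw [← SubgroupClass.coe_pow, hvp]; rfl
  have hZinv : ∀ a : MulAut N, ∀ x : N, η x ∈ Subgroup.zpowers c → η (a x) ∈ Subgroup.zpowers c := by
    intro a x hx
    obtain ⟨y, hy, z, hz, hne'⟩ := hab NS hNSc.ge
    have h1 : ⁅y, z⁆ ≠ 1 := fun h => hne' (commutatorElement_eq_one_iff_mul_comm.mp h)
    rw [hNS] at hy hz
    set yN : N := ⟨y, hy⟩
    set zN : N := ⟨z, hz⟩
    have h2 : η ⁅yN, zN⁆ = ⁅y, z⁆ := map_commutatorElement η yN zN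
    obtain ⟨j, hj⟩ := mem_powers_iff_mem_zpowers.mpr (hNN _ (hηNS yN) _ (hηNS zN))
    have hj' : c ^ j = ⁅y, z⁆ := hj
    have hcp : c ^ p = 1 := by rw [← hec, ← map_pow, hdata.ep, map_one]
    have hpj : ¬ p ∣ j := fun hd => h1 (by
      rw [← hj', Plane.pow_eq_pow_of_modEq hcp (Nat.modEq_zero_iff_dvd.mpr hd), pow_zero])
    obtain ⟨r, hr⟩ := mem_powers_iff_mem_zpowers.mpr hx
    obtain ⟨q, hq⟩ := Plane.exists_mul_modEq hpj r
    have hx' : x = ⁅yN, zN⁆ ^ q := Subgroup.inclusion_injective hNle (by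
      rw [map_pow, h2, ← hj', ← pow_mul, Plane.pow_eq_pow_of_modEq hcp hq]
      exact hr.symm)
    rw [hx', map_pow, map_commutatorElement, map_pow, map_commutatorElement]
    exact pow_mem (hNN _ (hηNS _) _ (hηNS _)) q
  have hvA0 : ∀ x ∈ pull A0, x⁻¹ * (v : MulAut N) x ∈ pull (Subgroup.zpowers c) := by
    haveI : (Subgroup.zpowers c).Normal := ⟨fun a ha y => by
      rw [Subgroup.mem_center_iff.mp (Subgroup.zpowers_le.mpr hcC ha) y, mul_inv_cancel_right]; exact ha⟩
    haveI : (pull (Subgroup.zpowers c)).Normal := Subgroup.Normal.comap inferInstance η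
    refine section_trivial hNp (fun x hx => (Subgroup.zpowers_le.mpr hcA0) hx) ?_ (hLinv _) (hZinv _) hvpow
    rw [hpull A0 hA0N', hpull _ ((Subgroup.zpowers_le.mpr hcA0).trans hA0N'), hA0c, Nat.card_zpowers,
      orderOf_eq_prime (by rw [← hec, ← map_pow, hdata.ep, map_one])
        (fun hh => hdata.e1 (Subgroup.inclusion_injective hES ((hec.trans hh).trans (map_one _).symm))), sq]
  have hvc : ∀ x : N, η x ∈ Subgroup.zpowers c → (v : MulAut N) x = x := by
    intro x hx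
    have h := section_trivial hNp (L := (⊥ : Subgroup N)) (X := pull (Subgroup.zpowers c)) bot_le (by
      rw [hpull _ ((Subgroup.zpowers_le.mpr hcA0).trans hA0N'), Subgroup.card_bot, mul_one, Nat.card_zpowers,
        orderOf_eq_prime (by rw [← hec, ← map_pow, hdata.ep, map_one])
        (fun hh => hdata.e1 (Subgroup.inclusion_injective hES ((hec.trans hh).trans (map_one _).symm)))])
      (hZinv _) (fun y hy => by rw [Subgroup.mem_bot] at hy ⊢; rw [hy, map_one]) hvpow x hx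
    exact (inv_mul_eq_one.mp (Subgroup.mem_bot.mp h)).symm
  have hvES : ∀ x ∈ pull ES, (v : MulAut N) x ∈ pull ES := fun x hx => by
    rw [← mul_inv_cancel_left x ((v : MulAut N) x)]
    exact mul_mem hx (Subgroup.comap_mono hA0E (hvE x hx))
  have hvtop : ∀ x : N, x⁻¹ * (v : MulAut N) x ∈ pull ES := fun x =>
    section_trivial hNp le_top (by rw [Subgroup.card_top, hNc, hpull ES hEN, hESc, ← pow_succ'])
      (fun y _ => Subgroup.mem_top _) hvES hvpow x (Subgroup.mem_top x)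
  -- extension to `S`
  let Dser : ℕ → Subgroup S
    | 0 => ⊥
    | 1 => Subgroup.zpowers c
    | 2 => A0
    | 3 => DS
    | _ => N.subgroupOf S
  have hZn : (Subgroup.zpowers c).Normal := ⟨fun a ha y => by
    rw [Subgroup.mem_center_iff.mp (Subgroup.zpowers_le.mpr hcC ha) y, mul_inv_cancel_right]; exact ha⟩
  have hNS' : N.subgroupOf S = NS := hNS.symm
  obtain ⟨T, hT, hTe⟩ := extend_series_top hS hF hNle hNn 4 Dser rfl rfl
    (by
      intro j hj
      match j with
      | 0 => exact (inferInstance : (⊥ : Subgroup S).Normal)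
      | 1 => exact hZn
      | 2 => exact hA0n
      | 3 => exact hDn
      | 4 =>
        show (N.subgroupOf S).Normal
        rw [hNS']
        exact hNSn
      | j + 5 => omega)
    (by
      haveI := hZn
      haveI : (⊥ : Subgroup S).Normal := inferInstance
      intro j hj x hx y
      have key : ∀ (X Y : Subgroup S) [X.Normal] [Y.Normal], X ≤ Y → Nat.card Y = p * Nat.card X → x ∈ Y →
          x⁻¹ * (y * x * y⁻¹) ∈ X := fun X Y _ _ hXY hc hxY => by
        have := (comm_mem_step hS hXY hc (Y.inv_mem hxY) y).2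
        rw [commutatorElement_def, inv_inv] at this
        simpa [mul_assoc] using this
      have hcc : Nat.card (Subgroup.zpowers c) = p := by
        rw [Nat.card_zpowers, orderOf_eq_prime (by rw [← hec, ← map_pow, hdata.ep, map_one])
          (fun hh => hdata.e1 (Subgroup.inclusion_injective hES ((hec.trans hh).trans (map_one _).symm)))]
      match j with
      | 0 => exact key ⊥ (Subgroup.zpowers c) bot_le (by rw [hcc, Subgroup.card_bot, mul_one]) hx
      | 1 => exact key (Subgroup.zpowers c) A0 (Subgroup.zpowers_le.mpr hcA0) (by rw [hA0c, hcc, sq]) hx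
      | 2 => exact key A0 DS hAD (by rw [hDc, hA0c, ← pow_succ']) hx
      | 3 =>
        have hx' : x ∈ NS := hNS' ▸ hx
        exact key DS NS hDN (by rw [hNSc, hDc, ← pow_succ']) hx'
      | j + 4 => omega)
    T0 (by
      intro j hj x hx
      match j with
      | 0 =>
        have hx1 : x = 1 := Subgroup.inclusion_injective hNle ((Subgroup.mem_bot.mp hx).trans (map_one _).symm)
        show η _ ∈ (⊥ : Subgroup S)
        rw [hx1, map_one, map_one]
        exact one_mem _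
      | 1 => exact hZinv _ x hx
      | 2 => exact hLinv _ x hx
      | 3 => exact hvD x hx
      | 4 => exact ((T0 : MulAut N) x).2
      | j + 5 => omega)
  have hTη : ∀ x : N, T (η x) = η ((T0 : MulAut N) x) := hTe
  have hlift : ∀ x ∈ NS, ∃ y : N, η y = x := fun x hx => by
    rw [hNS] at hx
    exact ⟨⟨x, hx⟩, Subtype.ext rfl⟩
  have hιN : ∀ x : E, η ⟨x, le_normalizerIn hES x.2⟩ = ι x := fun x => Subtype.ext rfl
  refine ⟨T, hT, ?_, ?_, fun x hx => ?_, fun x hx => ?_, ?_, fun x hx => ?_⟩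
  · have h1 : η (ψ ⟨(e : E), le_normalizerIn hES e.2⟩) ∈ Subgroup.zpowers c := by
      rw [hψE, hte, map_pow, hec]
      exact pow_mem (Subgroup.mem_zpowers c) n
    rw [← hec, ← hιN, hTη, hT0a, hvc _ h1, hψE, hte, map_pow, hιN]
  · rw [← hιN, hTη, hT0a, ← map_inv, ← map_mul]
    have h1 : ψ ⟨(w : E), le_normalizerIn hES w.2⟩ = ⟨(w : E), le_normalizerIn hES w.2⟩ :=
      Subgroup.inclusion_injective hNle (by rw [← hη, hψE, htw, hιN])
    rw [h1]
    exact hvA0 _ (show η _ ∈ A0 by rw [hιN]; exact hwA)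
  · obtain ⟨y, rfl⟩ := hlift x hx
    rw [hTη]
    exact hηNS _
  · obtain ⟨y, rfl⟩ := hlift x (hDN hx)
    rw [hTη]
    exact hvD y hx
  · rw [← map_pow, ← hιN f, hTη, hT0a, ← hιN (f ^ l), ← map_inv, ← map_mul]
    have h1 : ψ ⟨(f : E), le_normalizerIn hES f.2⟩ = ⟨((f ^ l : E) : Ω), le_normalizerIn hES (f ^ l).2⟩ :=
      Subgroup.inclusion_injective hNle (by rw [← hη, hψE, htf, hιN])
    rw [h1]
    exact hvE _ (show η _ ∈ ES by rw [hιN]; exact hιE _)
  · obtain ⟨y, rfl⟩ := hlift x hx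
    rw [hTη, ← map_pow, ← map_inv, ← map_mul]
    have h1 := mul_mem (hψx y) (hvtop (ψ y))
    rw [mul_assoc, mul_inv_cancel_left] at h1
    exact h1

end Cfsg.Lib.OrderPFive
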