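import Cfsg.Agent.Lib.FusionSys.RankTwoEssential

/-!
# Extending automorphisms to normalizers
-/

set_option autoImplicit false
set_option linter.style.haveILetI false

namespace Cfsg.Lib.OrderPFive

open Cfsg Cfsg.FusionSystem
open Cfsg.Lib.FusionSys
open Cfsg.Lib.FusionSys.RankTwo (cA coe_cA)

variable {Ω : Type*} [Group Ω] {S : Subgroup Ω} [Finite S] {p : ℕ} [hp : Fact p.Prime]
variable {F : FusionSystem S} {P : Subgroup Ω}

omit hp in
/-- A subgroup normalised by `S` is fully normalised. -/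
theorem fullyNormalized_of_normalized (hPS : P ≤ S) (h : S ≤ normalizerIn S P) : F.IsFullyNormalized P :=
  ⟨hPS, fun Q _ => (card_le_of_le (normalizerIn_le Q)).trans
    (le_of_eq (by rw [le_antisymm (normalizerIn_le P) h]))⟩

/-- An automorphism normalising the induced ones extends to the normalizer. -/
theorem extend_of_normalizes (hS : IsPGroup p S) (hF : F.IsSaturated p) (hP : F.IsFullyNormalized P)
    (t : F.autGroup P)
    (h : ∀ a ∈ (autInducedBy S P).subgroupOf (F.autGroup P),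
      t * a * t⁻¹ ∈ (autInducedBy S P).subgroupOf (F.autGroup P)) :
    ∃ T ∈ F.autGroup (normalizerIn S P), ∀ (x : P) (hx : (x : Ω) ∈ normalizerIn S P),
      ((T ⟨x, hx⟩ : ↥(normalizerIn S P)) : Ω) = ((t : MulAut P) x : Ω) := by
  have hPS := hP.1
  haveI := finite_of_le hPS
  haveI := finite_of_le (normalizerIn_le (S := S) P)
  have hrec := isReceptive_of_fc hS hF (isFullyAutomized_and_fc_of_fn hS hF hP).1
  obtain ⟨ψ, hψ, hψe⟩ := IsReceptive_ext hrec ((mem_autGroup hPS).1 t.2) (N := normalizerIn S P) (by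
    intro n hn
    obtain ⟨hnS, hnN⟩ := mem_normalizerIn.1 hn
    refine ⟨hnS, hnN, ?_⟩
    have hmem : cA F hPS ⟨n, hn⟩ ∈ (autInducedBy S P).subgroupOf (F.autGroup P) :=
      conjAut_mem_autInducedBy hnN hnS
    obtain ⟨k, hk, hkt⟩ := mem_autInducedBy.1 (Subgroup.mem_subgroupOf.mp (h _ hmem))
    refine ⟨k, hk, fun x z hxz => ?_⟩
    have hz : z = ((cA F hPS ⟨n, hn⟩ : F.autGroup P) : MulAut P) x := Subtype.ext hxz
    have h1 := hkt ((t : MulAut P) x)
    simp only [Subgroup.coe_mul, InvMemClass.coe_inv, MulAut.mul_apply, MulAut.inv_apply,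
      MulEquiv.symm_apply_apply] at h1
    rw [hz]
    exact h1)
  have hPN : P ≤ normalizerIn S P := le_normalizerIn hPS
  have hmap : (P.subgroupOf (normalizerIn S P)).map ψ = P :=
    map_subgroupOf_eq (e := (t : MulAut P)) hPN hψe
  have hval : ∀ x, ψ x ∈ normalizerIn S P := fun x => by
    refine ⟨hom_mem hψ x, ?_⟩
    have := map_mem_normalizer (Q := P) ψ x x.2.2
    rwa [hmap] at this
  have hrange := range_eq_of_card_le hψ (normalizerIn_le P) hval le_rfl
  exact ⟨homIso hψ hrange, (mem_autGroup (normalizerIn_le P)).2 (isoIn_homIso hψ hrange),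
    fun x hx => by rw [coe_homIso]; exact hψe x x.2 hx⟩

omit hp in
theorem inv_mem_powers {G : Type*} [Group G] [Finite G] (a : G) : ∃ n : ℕ, a ^ n = a⁻¹ :=
  mem_powers_iff_mem_zpowers.mpr (inv_mem (Subgroup.mem_zpowers a))

/-- An automorphism preserving a series stabilised by the normalizer extends to it. -/
theorem extend_series (hS : IsPGroup p S) (hF : F.IsSaturated p) (hP : F.IsFullyNormalized P)
    (n : ℕ) (D : ℕ → Subgroup Ω) (h0 : D 0 = ⊥) (hn : D n = P)
    (hinv : ∀ g ∈ normalizerIn S P, ∀ i, i ≤ n → ∀ x ∈ D i, g * x * g⁻¹ ∈ D i)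
    (htriv : ∀ g ∈ normalizerIn S P, ∀ i, i < n → ∀ x ∈ D (i + 1), x⁻¹ * (g * x * g⁻¹) ∈ D i)
    (t : F.autGroup P)
    (ht : ∀ i, i ≤ n → ∀ x : P, (x : Ω) ∈ D i → (((t : MulAut P) x : P) : Ω) ∈ D i) :
    ∃ T ∈ F.autGroup (normalizerIn S P), ∀ (x : P) (hx : (x : Ω) ∈ normalizerIn S P),
      ((T ⟨x, hx⟩ : ↥(normalizerIn S P)) : Ω) = ((t : MulAut P) x : Ω) := by
  have hPS := hP.1
  haveI := finite_of_le hPS
  haveI : Finite ↥(F.autGroup P) := Finite.of_injective
    (fun a : F.autGroup P => ((a : MulAut P) : P → P))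
    (DFunLike.coe_injective.comp Subtype.val_injective)
  let M : Submonoid ↥(F.autGroup P) :=
    { carrier := {a | (∀ i, i ≤ n → ∀ x : P, (x : Ω) ∈ D i → (((a : MulAut P) x : P) : Ω) ∈ D i) ∧
        ∀ i, i < n → ∀ x : P, (x : Ω) ∈ D (i + 1) → (x : Ω)⁻¹ * (((a : MulAut P) x : P) : Ω) ∈ D i}
      one_mem' := ⟨fun i _ x hx => hx, fun i _ x _ => by simp⟩
      mul_mem' := by
        rintro a b ⟨ha, ha'⟩ ⟨hb, hb'⟩
        refine ⟨fun i hi x hx => ha i hi _ (hb i hi x hx), fun i hi x hx => ?_⟩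
        have hmul : ((a * b : F.autGroup P) : MulAut P) x =
            (a : MulAut P) x * (a : MulAut P) (x⁻¹ * (b : MulAut P) x) := by
          rw [Subgroup.coe_mul, MulAut.mul_apply, ← map_mul, mul_inv_cancel_left]
        rw [hmul, Subgroup.coe_mul, ← mul_assoc]
        exact (D i).mul_mem (ha' i hi x hx) (ha i hi.le _ (hb' i hi x hx)) }
  let B : Subgroup ↥(F.autGroup P) :=
    { M with
      inv_mem' := fun {a} ha => by
        obtain ⟨m, hm⟩ := inv_mem_powers a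
        exact hm ▸ M.pow_mem ha m }
  have hBp : IsPGroup p B := by
    obtain ⟨e, he⟩ := IsPGroup.iff_card.mp (hS.to_le hPS)
    intro b
    refine ⟨e * n, Subtype.ext (Subtype.ext ?_)⟩
    have h3 := pow_eq_one_of_stabilizes h0 hn (α := ((b : F.autGroup P) : MulAut P)) b.2.1 b.2.2
    rw [he, ← pow_mul] at h3
    simpa using h3
  obtain ⟨-, R, hR⟩ := (isFullyAutomized_and_fc_of_fn hS hF hP).2
  have hle : (R : Subgroup ↥(F.autGroup P)) ≤ B := by
    rw [hR]
    intro a ha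
    obtain ⟨g, hg, hga⟩ := mem_autInducedBy.1 (Subgroup.mem_subgroupOf.mp ha)
    have hgN : g ∈ normalizerIn S P := ⟨hg, mem_normalizer_of_aut hga⟩
    exact ⟨fun i hi x hx => (hga x).symm ▸ hinv g hgN i hi x hx,
      fun i hi x hx => (hga x).symm ▸ htriv g hgN i hi x hx⟩
  have hBeq : B = (autInducedBy S P).subgroupOf (F.autGroup P) := (R.3 hBp hle).trans hR
  have hti : ∀ i, i ≤ n → ∀ x : P, (x : Ω) ∈ D i →
      ((((t⁻¹ : F.autGroup P) : MulAut P) x : P) : Ω) ∈ D i := by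
    obtain ⟨m, hm⟩ := inv_mem_powers t
    rw [← hm]
    clear hm
    induction m with
    | zero => intro i _ x hx; simpa using hx
    | succ m ih =>
      intro i hi x hx
      rw [pow_succ', Subgroup.coe_mul, MulAut.mul_apply]
      exact ht i hi _ (ih i hi x hx)
  refine extend_of_normalizes hS hF hP t fun a ha => ?_
  rw [← hBeq] at ha ⊢
  obtain ⟨ha1, ha2⟩ := ha
  refine ⟨fun i hi x hx => ht i hi _ (ha1 i hi _ (hti i hi x hx)), fun i hi x hx => ?_⟩
  have h1 : ((t * a * t⁻¹ : F.autGroup P) : MulAut P) x =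
      x * (t : MulAut P) ((((t⁻¹ : F.autGroup P) : MulAut P) x)⁻¹ *
        (a : MulAut P) (((t⁻¹ : F.autGroup P) : MulAut P) x)) := by
    simp only [Subgroup.coe_mul, InvMemClass.coe_inv, MulAut.mul_apply, map_mul, map_inv,
      MulAut.inv_apply, MulEquiv.apply_symm_apply, mul_inv_cancel_left]
  rw [h1, Subgroup.coe_mul, inv_mul_cancel_left]
  exact ht i hi.le _ (ha2 i hi _ (hti _ hi x hx))

/-- The version for a subgroup normalised by `S`, with the series given inside `S`. -/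
theorem extend_series_top (hS : IsPGroup p S) (hF : F.IsSaturated p) (hPS : P ≤ S)
    (hPn : S ≤ normalizerIn S P) (n : ℕ) (D : ℕ → Subgroup S) (h0 : D 0 = ⊥) (hn : D n = P.subgroupOf S)
    (hnorm : ∀ i, i ≤ n → (D i).Normal)
    (htriv : ∀ i, i < n → ∀ x ∈ D (i + 1), ∀ g : S, x⁻¹ * (g * x * g⁻¹) ∈ D i)
    (t : F.autGroup P)
    (ht : ∀ i, i ≤ n → ∀ x : P, Subgroup.inclusion hPS x ∈ D i →
      Subgroup.inclusion hPS ((t : MulAut P) x) ∈ D i) :
    ∃ T ∈ F.autGroup S, ∀ x : P,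
      T (Subgroup.inclusion hPS x) = Subgroup.inclusion hPS ((t : MulAut P) x) := by
  have hNS : S = normalizerIn S P := le_antisymm hPn (normalizerIn_le P)
  obtain ⟨T, hT, hTe⟩ := extend_series hS hF (fullyNormalized_of_normalized hPS hPn) n
    (fun i => (D i).map S.subtype) (by show (D 0).map S.subtype = ⊥; rw [h0, Subgroup.map_bot])
    (by show (D n).map S.subtype = P; rw [hn, Subgroup.map_subgroupOf_eq_of_le hPS])
    (by
      rintro g hg i hi _ ⟨x, hx, rfl⟩
      exact ⟨⟨g, hg.1⟩ * x * (⟨g, hg.1⟩ : S)⁻¹, (hnorm i hi).conj_mem x hx _, by simp⟩)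
    (by
      rintro g hg i hi _ ⟨x, hx, rfl⟩
      exact ⟨x⁻¹ * (⟨g, hg.1⟩ * x * (⟨g, hg.1⟩ : S)⁻¹), htriv i hi x hx _, by simp⟩)
    t (by
      rintro i hi x ⟨y, hy, hyx⟩
      refine ⟨_, ht i hi x ?_, rfl⟩
      rw [show Subgroup.inclusion hPS x = y from Subtype.ext hyx.symm]
      exact hy)
  have key : ∀ Q : Subgroup Ω, Q = normalizerIn S P → ∃ T ∈ F.autGroup Q, ∀ (x : P) (hx : (x : Ω) ∈ Q),
      ((T ⟨x, hx⟩ : Q) : Ω) = ((t : MulAut P) x : Ω) := by
    rintro Q rfl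
    exact ⟨T, hT, hTe⟩
  obtain ⟨T', hT', hTe'⟩ := key S hNS
  exact ⟨T', hT', fun x => Subtype.ext (hTe' x (hPS x.2))⟩

/-- A power of index prime to `p` makes the automorphisms of `S` inner. -/
theorem exists_inner_pow (hS : IsPGroup p S) (hF : F.IsSaturated p) :
    ∃ m : ℕ, ¬ p ∣ m ∧ ∀ γ ∈ F.autGroup S, ∃ y : S, γ ^ m = MulAut.conj y := by
  haveI : Finite ↥(F.autGroup S) := Finite.of_injective
    (fun a : F.autGroup S => ((a : MulAut S) : S → S))
    (DFunLike.coe_injective.comp Subtype.val_injective)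
  obtain ⟨-, R₀, hR₀⟩ := (isFullyAutomized_and_fc_of_fn hS hF (isFullyNormalized_top F)).2
  have heq : (R₀ : Subgroup ↥(F.autGroup S)) = (Inn ↥S).subgroupOf (F.autGroup S) := by
    rw [hR₀]
    refine le_antisymm (fun a ha => ?_) (Subgroup.subgroupOf_mono _ (inn_le_autInducedBy le_rfl))
    obtain ⟨n, hn, hna⟩ := mem_autInducedBy.1 (Subgroup.mem_subgroupOf.mp ha)
    exact ⟨⟨n, hn⟩, MulEquiv.ext fun x => Subtype.ext (hna x).symm⟩
  haveI := inn_subgroupOf_normal (P := S) (F.autGroup S)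
  refine ⟨((Inn ↥S).subgroupOf (F.autGroup S)).index, heq ▸ R₀.not_dvd_index, fun γ hγ => ?_⟩
  obtain ⟨y, hy⟩ := Subgroup.pow_index_mem ((Inn ↥S).subgroupOf (F.autGroup S)) (⟨γ, hγ⟩ : ↥(F.autGroup S))
  exact ⟨y, hy.symm⟩

end Cfsg.Lib.OrderPFive
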