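import Cfsg.Agent.Lib.FusionSys.PlaneAction
import Cfsg.Agent.Lib.PGroup.Basic
import Mathlib.GroupTheory.Abelianization.Defs

/-!
# Normal series with steps of order `p`, commutators modulo normal subgroups, moving lines of planes
-/

set_option autoImplicit false
set_option linter.style.haveILetI false

namespace Cfsg.Lib.OrderPFive

open Subgroup
open Cfsg.Lib.FusionSys
open scoped commutatorElement

theorem mod_trans' {G : Type*} [Group G] {L : Subgroup G} {x y z : G} (h1 : x⁻¹ * y ∈ L) (h2 : y⁻¹ * z ∈ L) :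
    x⁻¹ * z ∈ L := by
  have := L.mul_mem h1 h2
  simpa [mul_assoc] using this

section Steps

variable {p : ℕ} [hp : Fact p.Prime] {G : Type*} [Group G]

theorem pow_congr_mem {L : Subgroup G} [L.Normal] {x : G} (hx : x ^ p ∈ L) {i j : ℕ}
    (h : i ≡ j [MOD p]) : (x ^ i)⁻¹ * x ^ j ∈ L := by
  rw [← QuotientGroup.eq, QuotientGroup.mk_pow, QuotientGroup.mk_pow]
  exact Plane.pow_eq_pow_of_modEq (by rw [← QuotientGroup.mk_pow, QuotientGroup.eq_one_iff]; exact hx) h

theorem modEq_of_pow_mem {L : Subgroup G} [L.Normal] {x : G} (hx : x ^ p ∈ L) (hxL : x ∉ L) {i j : ℕ}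
    (h : (x ^ i)⁻¹ * x ^ j ∈ L) : i ≡ j [MOD p] := by
  refine Plane.modEq_of_pow_eq (x := (x : G ⧸ L)) ?_ ?_ ?_
  · rw [← QuotientGroup.mk_pow, QuotientGroup.eq_one_iff]
    exact hx
  · rwa [Ne, QuotientGroup.eq_one_iff]
  · rw [← QuotientGroup.mk_pow, ← QuotientGroup.mk_pow, QuotientGroup.eq]
    exact h

theorem dvd_of_pow_mem {L : Subgroup G} [L.Normal] {x : G} (hx : x ^ p ∈ L) (hxL : x ∉ L) {i : ℕ}
    (h : x ^ i ∈ L) : p ∣ i := by
  refine Nat.modEq_zero_iff_dvd.mp (modEq_of_pow_mem hx hxL ?_)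
  rw [pow_zero, mul_one]
  exact L.inv_mem h

variable [Finite G]

theorem card_eq_pow (hG : IsPGroup p G) (H : Subgroup G) : ∃ k, Nat.card H = p ^ k :=
  IsPGroup.iff_card.mp (hG.to_subgroup H)

theorem card_step (hG : IsPGroup p G) {X Y : Subgroup G} (h : X < Y) :
    p * Nat.card X ≤ Nat.card Y := by
  obtain ⟨a, ha⟩ := card_eq_pow hG X
  obtain ⟨b, hb⟩ := card_eq_pow hG Y
  have h1 : Nat.card X < Nat.card Y :=
    lt_of_le_of_ne (card_le_of_le h.le) fun e => h.ne (eq_of_le_of_card_ge h.le e.ge)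
  rw [ha, hb] at h1
  rw [ha, hb, ← pow_succ']
  exact Nat.pow_le_pow_right hp.out.pos ((Nat.pow_lt_pow_iff_right hp.out.one_lt).mp h1)

/-- Between subgroups with index `p` there is nothing. -/
theorem eq_of_step (hG : IsPGroup p G) {X M Y : Subgroup G} (hXM : X < M) (hMY : M ≤ Y)
    (hc : Nat.card Y = p * Nat.card X) : M = Y :=
  eq_of_le_of_card_ge hMY (hc ▸ card_step hG hXM)

theorem normal_of_card (hG : IsPGroup p G) {M : Subgroup G} (hc : Nat.card G = p * Nat.card M) :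
    M.Normal := by
  refine Cfsg.Lib.PGroup.normal_of_isCoatom hG ⟨fun h => ?_, fun Y hY => ?_⟩
  · rw [h, card_top] at hc
    have := hp.out.one_lt
    have := Nat.card_pos (α := G)
    nlinarith
  · exact eq_of_step hG hY le_top (by rw [card_top, hc])

theorem exists_normal_step (hG : IsPGroup p G) {X Y : Subgroup G} [hX : X.Normal] [hY : Y.Normal]
    (h : X < Y) : ∃ M : Subgroup G, M.Normal ∧ X ≤ M ∧ M ≤ Y ∧ Nat.card M = p * Nat.card X := by
  set π := QuotientGroup.mk' X with hπ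
  haveI : (Y.map π).Normal := Normal.map hY π (QuotientGroup.mk'_surjective X)
  have hne : Y.map π ≠ ⊥ := fun h0 => h.not_ge (by
    rwa [Subgroup.map_eq_bot_iff, hπ, QuotientGroup.ker_mk'] at h0)
  obtain ⟨z, hzY, hzc, hz⟩ := Cfsg.Lib.PGroup.exists_mem_center_orderOf_eq (hG.to_quotient X) hne
  haveI : (zpowers z).Normal := ⟨fun a ha g => by
    rw [mem_center_iff.mp (zpowers_le.mpr hzc ha) g, mul_inv_cancel_right]; exact ha⟩
  refine ⟨(zpowers z).comap π, inferInstance, fun x hx => ?_, fun x hx => ?_, ?_⟩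
  · rw [mem_comap, hπ, QuotientGroup.mk'_apply, (QuotientGroup.eq_one_iff x).mpr hx]
    exact one_mem _
  · obtain ⟨y, hy, hyx⟩ := zpowers_le.mpr hzY hx
    rw [← mul_inv_cancel_left y x]
    exact Y.mul_mem hy (h.le (QuotientGroup.eq.mp hyx))
  · have h1 := ((zpowers z).comap π).card_mul_index
    rw [index_comap_of_surjective _ (QuotientGroup.mk'_surjective X),
      card_eq_card_quotient_mul_card_subgroup X, ← card_mul_index (zpowers z), Nat.card_zpowers,
      hz, mul_right_comm] at h1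
    exact Nat.eq_of_mul_eq_mul_right (Nat.pos_of_ne_zero index_ne_zero_of_finite) h1

/-- A normal step of order `p` is central. -/
theorem comm_mem_step (hG : IsPGroup p G) {X Y : Subgroup G} [hX : X.Normal] [hY : Y.Normal]
    (hXY : X ≤ Y) (hc : Nat.card Y = p * Nat.card X) {y : G} (hy : y ∈ Y) (g : G) :
    ⁅g, y⁆ ∈ X ∧ ⁅y, g⁆ ∈ X := by
  set π := QuotientGroup.mk' X with hπ
  haveI : (Y.map π).Normal := Normal.map hY π (QuotientGroup.mk'_surjective X)
  have hcard : Nat.card (Y.map π) = p := by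
    have h1 := (X.subgroupOf Y).card_mul_index
    rw [Nat.card_congr (subgroupOfEquivOfLe hXY).toEquiv, hc, mul_comm p] at h1
    have h2 := Nat.eq_of_mul_eq_mul_left Nat.card_pos h1
    rw [← h2, index_eq_card]
    have hker : (π.subgroupMap Y).ker = X.subgroupOf Y := by
      ext x
      rw [MonoidHom.mem_ker, mem_subgroupOf, ← QuotientGroup.eq_one_iff (N := X), Subtype.ext_iff]
      rfl
    exact Nat.card_congr ((QuotientGroup.quotientKerEquivOfSurjective _
      (π.subgroupMap_surjective Y)).symm.trans (QuotientGroup.quotientMulEquivOfEq hker)).toEquiv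
  have hcen := Cfsg.Lib.PGroup.le_center_of_card_eq_prime (hG.to_quotient X) hcard
  have h1 := mem_center_iff.mp (hcen ⟨y, hy, rfl⟩) (π g)
  have e1 : ⁅π g, π y⁆ = 1 := commutatorElement_eq_one_iff_mul_comm.mpr h1
  have e2 : ⁅π y, π g⁆ = 1 := commutatorElement_eq_one_iff_mul_comm.mpr h1.symm
  exact ⟨(QuotientGroup.eq_one_iff _).mp ((map_commutatorElement π g y).trans e1),
    (QuotientGroup.eq_one_iff _).mp ((map_commutatorElement π y g).trans e2)⟩

theorem gen_of_step (hG : IsPGroup p G) {X Y : Subgroup G} [hX : X.Normal] (hXY : X ≤ Y)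
    (hc : Nat.card Y = p * Nat.card X) {x : G} (hx : x ∈ Y) (hxX : x ∉ X) {y : G} (hy : y ∈ Y) :
    ∃ i : ℕ, (x ^ i)⁻¹ * y ∈ X := by
  have hlt : X < zpowers x ⊔ X := lt_of_le_of_ne le_sup_right fun e =>
    hxX (e.symm ▸ mem_sup_left (mem_zpowers x))
  rw [← eq_of_step hG hlt (sup_le (zpowers_le.mpr hx) hXY) hc] at hy
  obtain ⟨a, ha, b, hb, rfl⟩ := mem_sup_of_normal_right.mp hy
  obtain ⟨i, rfl⟩ := mem_powers_iff_mem_zpowers.mpr ha
  exact ⟨i, by rw [show (fun n => x ^ n) i = x ^ i from rfl, inv_mul_cancel_left]; exact hb⟩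

omit hp in
theorem pow_p_mem_step (_hG : IsPGroup p G) {X Y : Subgroup G} [hX : X.Normal] (hXY : X ≤ Y)
    (hc : Nat.card Y = p * Nat.card X) {x : G} (hx : x ∈ Y) : x ^ p ∈ X := by
  have h1 := Subgroup.pow_index_mem (X.subgroupOf Y) (⟨x, hx⟩ : Y)
  have h2 := (X.subgroupOf Y).card_mul_index
  rw [Nat.card_congr (subgroupOfEquivOfLe hXY).toEquiv, hc, mul_comm p] at h2
  rw [Nat.eq_of_mul_eq_mul_left Nat.card_pos h2] at h1
  simpa [mem_subgroupOf] using h1

/-- A `p`-element of automorphisms is trivial on an invariant step of order `p`. -/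
theorem section_trivial (hG : IsPGroup p G) {L X : Subgroup G} [hLn : L.Normal] (hLX : L ≤ X)
    (hc : Nat.card X = p * Nat.card L) {a : MulAut G} (hX : ∀ x ∈ X, a x ∈ X)
    (hL : ∀ x ∈ L, a x ∈ L) {k : ℕ} (ha : a ^ p ^ k = 1) : ∀ x ∈ X, x⁻¹ * a x ∈ L := by
  intro x hx
  by_cases hxL : x ∈ L
  · exact L.mul_mem (L.inv_mem hxL) (hL x hxL)
  set π := QuotientGroup.mk' L
  obtain ⟨i, hi⟩ := gen_of_step hG hLX hc hx hxL (hX x hx)
  have hi' : π (a x) = π x ^ i := by
    rw [← map_pow]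
    exact (QuotientGroup.eq.mpr hi).symm
  have hiter : ∀ n : ℕ, π ((a ^ n) x) = π x ^ (i ^ n) := by
    intro n
    induction n with
    | zero => simp
    | succ n ih =>
      have hl : (x ^ (i ^ n))⁻¹ * (a ^ n) x ∈ L := by
        rw [← QuotientGroup.eq, QuotientGroup.mk_pow]
        exact ih.symm
      rw [show (a ^ (n + 1)) x = a (x ^ (i ^ n) * ((x ^ (i ^ n))⁻¹ * (a ^ n) x)) by
        rw [mul_inv_cancel_left, pow_succ', MulAut.mul_apply], map_mul, map_mul, map_pow, map_pow, hi',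
        ← pow_mul, ← pow_succ',
        show π (a ((x ^ (i ^ n))⁻¹ * (a ^ n) x)) = 1 from (QuotientGroup.eq_one_iff _).mpr (hL _ hl),
        mul_one]
  have h1 := hiter (p ^ k)
  rw [ha, MulAut.one_apply] at h1
  conv_lhs at h1 => rw [← pow_one (π x)]
  have hxp : π x ^ p = 1 := by
    rw [← map_pow]
    exact (QuotientGroup.eq_one_iff _).mpr (pow_p_mem_step hG hLX hc hx)
  have hx1 : π x ≠ 1 := fun h => hxL ((QuotientGroup.eq_one_iff x).mp h)
  have h2 := Plane.modEq_of_pow_eq hxp hx1 h1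
  have hi1 : i ≡ 1 [MOD p] := by
    rw [← ZMod.natCast_eq_natCast_iff] at h2 ⊢
    push_cast at h2
    rw [ZMod.pow_card_pow] at h2
    push_cast
    exact h2.symm
  refine QuotientGroup.eq.mp ?_
  rw [show (QuotientGroup.mk x : G ⧸ L) = π x from rfl, show (QuotientGroup.mk (a x) : G ⧸ L) = π (a x) from rfl,
    hi', Plane.pow_eq_pow_of_modEq hxp hi1, pow_one]

theorem comm_of_card_sq {M : Subgroup G} [M.Normal] (hc : Nat.card G = p ^ 2 * Nat.card M) (x y : G) :
    ⁅x, y⁆ ∈ M := by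
  have hq : Nat.card (G ⧸ M) = p ^ 2 := by
    rw [card_eq_card_quotient_mul_card_subgroup M] at hc
    exact Nat.eq_of_mul_eq_mul_right Nat.card_pos hc
  refine (QuotientGroup.eq_one_iff _).mp ((map_commutatorElement (QuotientGroup.mk' M) x y).trans ?_)
  exact commutatorElement_eq_one_iff_mul_comm.mpr (Plane.comm hq _ _)

/-- The intersection with a subgroup of index `p` has index at most `p`. -/
theorem card_inf_ge (hG : IsPGroup p G) {X Y M : Subgroup G} (hXM : X ≤ M) (hYM : Y ≤ M)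
    (hc : Nat.card M = p * Nat.card X) : Nat.card Y ≤ p * Nat.card (X ⊓ Y : Subgroup G) := by
  by_cases hYX : Y ≤ X
  · rw [inf_eq_right.mpr hYX]
    exact Nat.le_mul_of_pos_left _ hp.out.pos
  obtain ⟨y0, hy0, hy0X⟩ := SetLike.not_le_iff_exists.mp hYX
  have hc' : Nat.card M = p * Nat.card (X.subgroupOf M) := by
    rw [Nat.card_congr (subgroupOfEquivOfLe hXM).toEquiv, hc]
  haveI := normal_of_card (hG.to_subgroup M) hc'
  refine le_trans (Nat.card_le_card_of_surjective (fun q : Fin p × (X ⊓ Y : Subgroup G) =>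
    (⟨y0 ^ (q.1 : ℕ) * q.2, Y.mul_mem (Y.pow_mem hy0 _) q.2.2.2⟩ : Y)) ?_) (by
      rw [Nat.card_prod, Nat.card_fin])
  rintro ⟨y, hy⟩
  obtain ⟨i, hi⟩ := gen_of_step (hG.to_subgroup M) (X := X.subgroupOf M) le_top (by rw [card_top, hc'])
    (mem_top (⟨y0, hYM hy0⟩ : M)) hy0X (mem_top (⟨y, hYM hy⟩ : M))
  have hp' : (⟨y0, hYM hy0⟩ : M) ^ p ∈ X.subgroupOf M :=
    pow_p_mem_step (hG.to_subgroup M) le_top (by rw [card_top, hc']) (mem_top _)
  have h1 := mod_trans' (pow_congr_mem hp' (Nat.mod_modEq i p)) hi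
  refine ⟨(⟨i % p, Nat.mod_lt _ hp.out.pos⟩, ⟨(y0 ^ (i % p))⁻¹ * y, ?_, ?_⟩), ?_⟩
  · simpa [mem_subgroupOf] using h1
  · exact Y.mul_mem (Y.inv_mem (Y.pow_mem hy0 _)) hy
  · exact Subtype.ext (mul_inv_cancel_left _ _)

/-- An abelian subgroup of order at least `p ^ 4` from commuting generators. -/
theorem exists_abelian (hG : IsPGroup p G) {s : Set G} (h : ∀ a ∈ s, ∀ b ∈ s, a * b = b * a)
    {X : Subgroup G} (hX : X ≤ closure s) (hXc : Nat.card X = p ^ 3) {g : G} (hg : g ∈ closure s)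
    (hgX : g ∉ X) : ∃ A : Subgroup G, p ^ 4 ≤ Nat.card A ∧ ∀ a ∈ A, ∀ b ∈ A, a * b = b * a := by
  refine ⟨closure s, ?_, fun a ha b hb => ?_⟩
  · have := card_step hG (lt_of_le_of_ne hX fun e => hgX (e.symm ▸ hg))
    rwa [hXc, ← pow_succ'] at this
  · haveI := isMulCommutative_closure h
    exact congrArg Subtype.val (IsMulCommutative.is_comm.comm (⟨a, ha⟩ : closure s) ⟨b, hb⟩)

end Steps

section Comm

variable {G : Type*} [Group G]

theorem comm_pow_left {a b : G} (h : Commute a ⁅a, b⁆) (i : ℕ) : ⁅a ^ i, b⁆ = ⁅a, b⁆ ^ i := by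
  induction i with
  | zero => simp
  | succ i ih =>
    rw [show ⁅a ^ (i + 1), b⁆ = a * ⁅a ^ i, b⁆ * a⁻¹ * ⁅a, b⁆ by
      rw [commutatorElement_def, commutatorElement_def, commutatorElement_def, pow_succ']; group,
      ih, (h.pow_right i).eq, mul_inv_cancel_right, pow_succ]

theorem comm_pow_pow {a b : G} (ha : Commute a ⁅a, b⁆) (hb : Commute b ⁅a, b⁆) (i j : ℕ) :
    ⁅a ^ i, b ^ j⁆ = ⁅a, b⁆ ^ (i * j) := by
  have h1 := comm_pow_left ha i
  have h2 : Commute b ⁅b, a ^ i⁆ := by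
    rw [← commutatorElement_inv, h1]
    exact (hb.pow_right i).inv_right
  rw [← commutatorElement_inv, comm_pow_left h2, ← commutatorElement_inv, h1, inv_pow, inv_inv,
    ← pow_mul]

theorem comm_near {A B za zb : G} (h1 : Commute za B) (h2 : Commute za zb) (h3 : Commute zb A) :
    ⁅A * za, B * zb⁆ = ⁅A, B⁆ := by
  simp only [commutatorElement_def]
  calc A * za * (B * zb) * (A * za)⁻¹ * (B * zb)⁻¹
      = A * (za * (B * zb)) * za⁻¹ * A⁻¹ * (B * zb)⁻¹ := by group
    _ = A * B * (zb * A⁻¹) * zb⁻¹ * B⁻¹ := by rw [(h1.mul_right h2).eq]; group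
    _ = _ := by rw [h3.inv_right.eq]; group

theorem commute_mk {L : Subgroup G} [L.Normal] {x y : G} (h : ⁅x, y⁆ ∈ L) :
    Commute (QuotientGroup.mk' L x) (QuotientGroup.mk' L y) :=
  commutatorElement_eq_one_iff_mul_comm.mp
    ((map_commutatorElement (QuotientGroup.mk' L) x y).symm.trans ((QuotientGroup.eq_one_iff _).mpr h))

/-- The commutator of elements close to powers. -/
theorem comm_scalar {L : Subgroup G} [L.Normal] {a b za zb : G} (i j : ℕ) (ha : ⁅a, ⁅a, b⁆⁆ ∈ L)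
    (hb : ⁅b, ⁅a, b⁆⁆ ∈ L) (h1 : ⁅za, b⁆ ∈ L) (h2 : ⁅za, zb⁆ ∈ L) (h3 : ⁅a, zb⁆ ∈ L) :
    (⁅a, b⁆ ^ (i * j))⁻¹ * ⁅a ^ i * za, b ^ j * zb⁆ ∈ L := by
  set π := QuotientGroup.mk' L
  refine QuotientGroup.eq.mp ?_
  show π (⁅a, b⁆ ^ (i * j)) = π ⁅a ^ i * za, b ^ j * zb⁆
  have hA : Commute (π a) ⁅π a, π b⁆ := by rw [← map_commutatorElement]; exact commute_mk ha
  have hB : Commute (π b) ⁅π a, π b⁆ := by rw [← map_commutatorElement]; exact commute_mk hb
  have e1 : Commute (π za) (π b ^ j) := (commute_mk h1).pow_right j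
  have e2 : Commute (π za) (π zb) := commute_mk h2
  have e3 : Commute (π zb) (π a ^ i) := (commute_mk h3).symm.pow_right i
  rw [map_pow, map_commutatorElement, map_commutatorElement, map_mul, map_mul, map_pow, map_pow,
    comm_near e1 e2 e3, comm_pow_pow hA hB]

/-- The image of a commutator under an endomorphism which is close to powers on both entries. -/
theorem comm_scalar_map {L : Subgroup G} [L.Normal] (φ : MulAut G) {a b : G} (i j : ℕ)
    (La Lb : Subgroup G) (hφa : (a ^ i)⁻¹ * φ a ∈ La) (hφb : (b ^ j)⁻¹ * φ b ∈ Lb)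
    (ha : ⁅a, ⁅a, b⁆⁆ ∈ L) (hb : ⁅b, ⁅a, b⁆⁆ ∈ L) (h1 : ∀ x ∈ La, ⁅x, b⁆ ∈ L)
    (h2 : ∀ x ∈ La, ∀ y ∈ Lb, ⁅x, y⁆ ∈ L) (h3 : ∀ y ∈ Lb, ⁅a, y⁆ ∈ L) :
    (⁅a, b⁆ ^ (i * j))⁻¹ * φ ⁅a, b⁆ ∈ L := by
  have h := comm_scalar (L := L) i j ha hb (h1 _ hφa) (h2 _ hφa _ hφb) (h3 _ hφb)
  rwa [mul_inv_cancel_left, mul_inv_cancel_left, ← map_commutatorElement] at h

theorem comm_mem_swap {L : Subgroup G} {x y : G} (h : ⁅x, y⁆ ∈ L) : ⁅y, x⁆ ∈ L := by
  rw [← commutatorElement_inv]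
  exact L.inv_mem h

end Comm

section Move

variable {p : ℕ} [hp : Fact p.Prime] {V : Type*} [Group V] [Finite V]
variable (hc : Nat.card V = p ^ 2) (hexp : ∀ v : V, v ^ p = 1) {A : Type*} [Group A] (r : A →* MulAut V)

include hc hexp

/-- A `p`-element fixing `x` is trivial modulo `⟨x⟩`. -/
theorem shift_mem {u : A} {k : ℕ} (hu : u ^ p ^ k = 1) {x : V} (hx : x ≠ 1) (hux : r u x = x) (y : V) :
    r u y * y⁻¹ ∈ zpowers x := by
  have hR : IsPGroup p (zpowers (r u)) := by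
    rintro ⟨_, i, rfl⟩
    refine ⟨k, Subtype.ext ?_⟩
    show ((r u) ^ i) ^ p ^ k = 1
    rw [← zpow_natCast, ← zpow_mul, mul_comm, zpow_mul, zpow_natCast, ← map_pow, hu, map_one, one_zpow]
  haveI : Finite (MulAut V) := Finite.of_injective (fun c : MulAut V => (c : V → V))
    DFunLike.coe_injective
  obtain ⟨e, he, hfix, htriv⟩ := Plane.unipotent hc hexp hR (zpowers (r u)).subtype
  have hue : r u e = e := hfix ⟨r u, mem_zpowers _⟩
  by_cases hex : e ∈ zpowers x
  · rw [← Plane.eq_zpowers_of_mem hc hexp (Plane.card_zpowers_eq hc hexp hx) he hex]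
    exact htriv ⟨r u, mem_zpowers _⟩ y
  · have h1 : r u = 1 := Plane.aut_ext hc hexp hx hex hux hue
    rw [h1, MulAut.one_apply, mul_inv_cancel]
    exact one_mem _

/-- A `p`-element fixing a line pointwise moves any other line to any other one. -/
theorem move {u t : A} {k : ℕ} (hu : u ^ p ^ k = 1) {x w : V} (hx : x ≠ 1) (hw : w ∉ zpowers x)
    (hux : r u x = x) (hu1 : r u ≠ 1) (htw : r t w ∈ zpowers w) :
    ∃ v : A, (∃ k, v ^ p ^ k = 1) ∧ r v w = w ∧ r (v * t) x ∈ zpowers x := by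
  have hcomm := Plane.comm hc
  have hxp := hexp x
  have hwp := hexp w
  have hw1 : w ≠ 1 := fun h => hw (h ▸ one_mem _)
  have hxw : x ∉ zpowers w := fun h => hw (by
    rw [Plane.eq_zpowers_of_mem hc hexp (Plane.card_zpowers_eq hc hexp hw1) hx h]
    exact mem_zpowers w)
  set x' := r t x with hx'
  obtain ⟨a, b, hab⟩ := Plane.exists_coords hc hexp hx hw x'
  by_cases hb : p ∣ b
  · refine ⟨1, ⟨0, one_pow _⟩, by simp, ?_⟩
    rw [one_mul, ← hx', hab, Plane.pow_eq_pow_of_modEq hwp (Nat.modEq_zero_iff_dvd.mpr hb), pow_zero, mul_one]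
    exact pow_mem (mem_zpowers x) a
  have hx'x : x' ∉ zpowers x := by
    intro h
    rw [hab, mul_mem_cancel_left (pow_mem (mem_zpowers x) a)] at h
    exact hw (Plane.mem_of_pow_mem (k := 1) (by rwa [pow_one]) hb h)
  have hx'1 : x' ≠ 1 := fun h => hx'x (h ▸ one_mem _)
  have ha : ¬ p ∣ a := by
    intro ha
    have h1 : x' = w ^ b := by
      rw [hab, Plane.pow_eq_pow_of_modEq hxp (Nat.modEq_zero_iff_dvd.mpr ha), pow_zero, one_mul]
    obtain ⟨n, hn⟩ := mem_powers_iff_mem_zpowers.mpr htw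
    have hn' : r t w = w ^ n := hn.symm
    have hpn : ¬ p ∣ n := fun hd => hw1 ((r t).injective (by
      rw [hn', Plane.pow_eq_pow_of_modEq hwp (Nat.modEq_zero_iff_dvd.mpr hd), pow_zero, map_one]))
    obtain ⟨m, hm⟩ := Plane.exists_mul_modEq hpn b
    have h2 : r t (w ^ m) = r t x := by
      rw [map_pow, hn', ← pow_mul, Plane.pow_eq_pow_of_modEq hwp hm, ← h1, hx']
    exact hxw ((r t).injective h2 ▸ pow_mem (mem_zpowers w) m)
  -- the conjugate fixing the image of the line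
  set u' := t * u * t⁻¹ with hu'
  have hu'p : u' ^ p ^ k = 1 := by rw [hu', conj_pow, hu, mul_one, mul_inv_cancel]
  have hu'x' : r u' x' = x' := by
    rw [hx', ← MulAut.mul_apply, ← map_mul, hu', inv_mul_cancel_right, map_mul, MulAut.mul_apply, hux]
  obtain ⟨i, hi⟩ := mem_powers_iff_mem_zpowers.mpr (shift_mem hc hexp r hu'p hx'1 hu'x' x)
  have hi' : r u' x = x * x' ^ i := by
    rw [eq_mul_of_mul_inv_eq hi.symm]
    exact hcomm _ _
  have hu'1 : r u' ≠ 1 := by
    intro h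
    apply hu1
    rw [hu', map_mul, map_mul, map_inv] at h
    exact conj_eq_one_iff.mp h
  have hpi : ¬ p ∣ i := by
    intro hd
    rw [Plane.pow_eq_pow_of_modEq (hexp x') (Nat.modEq_zero_iff_dvd.mpr hd), pow_zero, mul_one] at hi'
    exact hu'1 (Plane.aut_ext hc hexp hx hx'x hi' hu'x')
  obtain ⟨j, hj⟩ := Plane.exists_mul_modEq (fun hd => (hp.out.dvd_mul.mp hd).elim ha hpi : ¬ p ∣ a * i) (p - 1)
  have hu'pow : ∀ n : ℕ, r (u' ^ n) x = x * x' ^ (i * n) := by
    intro n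
    induction n with
    | zero => simp
    | succ n ih =>
      rw [pow_succ', map_mul, MulAut.mul_apply, ih, map_mul, map_pow (r u'), hu'x', hi', mul_assoc,
        ← pow_add]
      ring_nf
  set m := b * (i * j)
  have hjx : r (u' ^ j) x = w ^ m := by
    rw [hu'pow, hab, (show Commute _ _ from hcomm _ _).mul_pow, ← mul_assoc, ← pow_mul, ← pow_succ',
      ← pow_mul]
    have h0 : a * (i * j) + 1 ≡ 0 [MOD p] := by
      have := hj.add_right 1
      rw [Nat.sub_add_cancel hp.out.one_le, mul_assoc] at this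
      exact this.trans (Nat.modEq_zero_iff_dvd.mpr dvd_rfl)
    rw [Plane.pow_eq_pow_of_modEq hxp h0, pow_zero, one_mul]
  have hpm : ¬ p ∣ m := fun hd => hx ((r (u' ^ j)).injective (by
    rw [hjx, Plane.pow_eq_pow_of_modEq hwp (Nat.modEq_zero_iff_dvd.mpr hd), pow_zero, map_one]))
  set v0 := u' ^ j * u * (u' ^ j)⁻¹ with hv0
  have hv0p : v0 ^ p ^ k = 1 := by rw [hv0, conj_pow, hu, mul_one, mul_inv_cancel]
  have hv0w : r v0 w = w := by
    obtain ⟨s, hs⟩ := Plane.exists_mul_modEq hpm 1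
    have h1 : r v0 (w ^ m) = w ^ m := by
      rw [← hjx, ← MulAut.mul_apply, ← map_mul, hv0, inv_mul_cancel_right, map_mul, MulAut.mul_apply, hux]
    conv_lhs => rw [← pow_one w, ← Plane.pow_eq_pow_of_modEq hwp hs, pow_mul, map_pow, h1, ← pow_mul,
      Plane.pow_eq_pow_of_modEq hwp hs, pow_one]
  obtain ⟨l, hl⟩ := mem_powers_iff_mem_zpowers.mpr (shift_mem hc hexp r hv0p hw1 hv0w x)
  have hl' : r v0 x = x * w ^ l := by
    rw [eq_mul_of_mul_inv_eq hl.symm]
    exact hcomm _ _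
  have hpl : ¬ p ∣ l := by
    intro hd
    rw [Plane.pow_eq_pow_of_modEq hwp (Nat.modEq_zero_iff_dvd.mpr hd), pow_zero, mul_one] at hl'
    have h1 : r v0 = 1 := Plane.aut_ext hc hexp hw1 hxw hv0w hl'
    apply hu1
    rw [hv0, map_mul, map_mul, map_inv] at h1
    exact conj_eq_one_iff.mp h1
  have hv0pow : ∀ n : ℕ, r (v0 ^ n) x = x * w ^ (l * n) ∧ r (v0 ^ n) w = w := by
    intro n
    induction n with
    | zero => simp
    | succ n ih =>
      refine ⟨?_, by rw [pow_succ', map_mul, MulAut.mul_apply, ih.2, hv0w]⟩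
      rw [pow_succ', map_mul, MulAut.mul_apply, ih.1, map_mul, map_pow (r v0), hv0w, hl', mul_assoc, ← pow_add]
      ring_nf
  obtain ⟨s, hs⟩ := Plane.exists_mul_modEq (fun hd => (hp.out.dvd_mul.mp hd).elim ha hpl : ¬ p ∣ a * l)
    ((p - 1) * b)
  refine ⟨v0 ^ s, ⟨k, by rw [← pow_mul, mul_comm, pow_mul, hv0p, one_pow]⟩, (hv0pow s).2, ?_⟩
  rw [map_mul, MulAut.mul_apply, ← hx', hab, map_mul, map_pow (r (v0 ^ s)), map_pow (r (v0 ^ s)), (hv0pow s).1, (hv0pow s).2,
    (show Commute _ _ from hcomm _ _).mul_pow, ← pow_mul w, mul_assoc, ← pow_add]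
  have h0 : l * s * a + b ≡ 0 [MOD p] := by
    have := hs.add_right b
    rw [show (p - 1) * b + b = p * b by rw [← Nat.succ_mul, Nat.succ_eq_add_one, Nat.sub_add_cancel hp.out.one_le],
      show a * l * s = l * s * a by ring] at this
    exact this.trans (Nat.modEq_zero_iff_dvd.mpr (dvd_mul_right p b))
  rw [Plane.pow_eq_pow_of_modEq hwp h0, pow_zero, mul_one]
  exact pow_mem (mem_zpowers x) a

end Move

/-- The version of `move` for a step of order `p ^ 2`. -/
theorem move_mod {p : ℕ} [hp : Fact p.Prime] {P : Type*} [Group P] [Finite P] (hP : IsPGroup p P)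
    {L X W : Subgroup P} [hLn : L.Normal] (hLX : L ≤ X) (hLW : L ≤ W)
    (hPc : Nat.card P = p ^ 2 * Nat.card L) (hX : Nat.card X = p * Nat.card L)
    (hW : Nat.card W = p * Nat.card L) (hXW : X ≠ W) (A : Subgroup (MulAut P))
    (hL : ∀ a ∈ A, ∀ x ∈ L, a x ∈ L) {u t : A} {k : ℕ} (hup : u ^ p ^ k = 1)
    (hu : ∀ x ∈ X, x⁻¹ * (u : MulAut P) x ∈ L) (hu' : ∃ x, x⁻¹ * (u : MulAut P) x ∉ L)
    (ht : ∀ x ∈ W, (t : MulAut P) x ∈ W) :
    ∃ v : A, (∃ k, v ^ p ^ k = 1) ∧ (∀ x ∈ W, x⁻¹ * (v : MulAut P) x ∈ L) ∧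
      ∀ x ∈ X, ((v * t : A) : MulAut P) x ∈ X := by
  have hq : Nat.card (P ⧸ L) = p ^ 2 := by
    rw [card_eq_card_quotient_mul_card_subgroup L] at hPc
    exact Nat.eq_of_mul_eq_mul_right Nat.card_pos hPc
  have hlt : ∀ {Y : Subgroup P}, L ≤ Y → Nat.card Y = p * Nat.card L → ∃ y ∈ Y, y ∉ L := by
    intro Y hLY hYc
    refine SetLike.exists_of_lt (lt_of_le_of_ne hLY fun e => ?_)
    rw [← e] at hYc
    nlinarith [hp.out.one_lt, Nat.card_pos (α := L)]
  obtain ⟨x0, hx0, hx0L⟩ := hlt hLX hX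
  obtain ⟨w0, hw0, hw0L⟩ := hlt hLW hW
  have hw0X : w0 ∉ X := by
    intro h
    apply hXW
    refine le_antisymm (fun y hy => ?_) (fun y hy => ?_)
    · obtain ⟨i, hi⟩ := gen_of_step hP hLX hX h hw0L hy
      rw [← mul_inv_cancel_left (w0 ^ i) y]
      exact W.mul_mem (W.pow_mem hw0 i) (hLW hi)
    · obtain ⟨i, hi⟩ := gen_of_step hP hLW hW hw0 hw0L hy
      rw [← mul_inv_cancel_left (w0 ^ i) y]
      exact X.mul_mem (X.pow_mem h i) (hLX hi)
  set x := (x0 : P ⧸ L)
  set w := (w0 : P ⧸ L)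
  have hx1 : x ≠ 1 := fun h => hx0L ((QuotientGroup.eq_one_iff _).mp h)
  have hmem : ∀ {Y : Subgroup P}, L ≤ Y → ∀ {y0}, y0 ∈ Y → ∀ z : P,
      (z : P ⧸ L) ∈ zpowers (y0 : P ⧸ L) → z ∈ Y := by
    rintro Y hLY y0 hy0 z ⟨i, hi⟩
    rw [← mul_inv_cancel_left (y0 ^ i) z]
    exact Y.mul_mem (Y.zpow_mem hy0 i) (hLY (QuotientGroup.eq.mp hi))
  have hwx : w ∉ zpowers x := fun h => hw0X (hmem hLX hx0 w0 h)
  have hxp : x ^ p = 1 := (QuotientGroup.eq_one_iff _).mpr (pow_p_mem_step hP hLX hX hx0)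
  have hwp : w ^ p = 1 := (QuotientGroup.eq_one_iff _).mpr (pow_p_mem_step hP hLW hW hw0)
  have hqexp : ∀ v : P ⧸ L, v ^ p = 1 := by
    intro v
    have hqc := Plane.comm (V := P ⧸ L) hq
    let U : Subgroup (P ⧸ L) :=
      { carrier := {y | y ^ p = 1}
        one_mem' := one_pow p
        mul_mem' := fun {y z} hy hz => by
          show (y * z) ^ p = 1
          rw [(show Commute y z from hqc y z).mul_pow, show y ^ p = 1 from hy, show z ^ p = 1 from hz, one_mul]
        inv_mem' := fun {y} hy => by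
          show y⁻¹ ^ p = 1
          rw [inv_pow, show y ^ p = 1 from hy, inv_one] }
    have hlt : zpowers x < U := lt_of_le_of_ne (zpowers_le.mpr hxp) fun e => hwx (e ▸ hwp)
    have := eq_of_step (hP.to_quotient L) hlt le_top (by
      rw [card_top, hq, Nat.card_zpowers, orderOf_eq_prime hxp hx1, sq])
    exact (this.ge (mem_top v) : v ∈ U)
  have hmap : ∀ a : A, L.map (a : MulAut P).toMonoidHom = L := fun a =>
    eq_of_le_of_card_ge (by rintro _ ⟨y, hy, rfl⟩; exact hL a a.2 y hy)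
      (le_of_eq (card_map_of_injective (a : MulAut P).injective).symm)
  let r : A →* MulAut (P ⧸ L) :=
    { toFun := fun a => QuotientGroup.congr _ _ (a : MulAut P) (hmap a)
      map_one' := MulEquiv.ext fun q => QuotientGroup.induction_on q fun _ => rfl
      map_mul' := fun _ _ => MulEquiv.ext fun q => QuotientGroup.induction_on q fun _ => rfl }
  have hux : r u x = x := (QuotientGroup.eq.mpr (hu x0 hx0)).symm
  have hu1 : r u ≠ 1 := by
    intro h
    obtain ⟨y, hy⟩ := hu'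
    exact hy (QuotientGroup.eq.mp (DFunLike.congr_fun h (y : P ⧸ L) :).symm)
  have htw : r t w ∈ zpowers w := by
    obtain ⟨i, hi⟩ := gen_of_step hP hLW hW hw0 hw0L (ht w0 hw0)
    exact ⟨i, by
      show w ^ (i : ℤ) = ((t : MulAut P) w0 : P ⧸ L)
      rw [zpow_natCast, ← QuotientGroup.mk_pow]
      exact QuotientGroup.eq.mpr hi⟩
  obtain ⟨v, hvp, hvw, hvt⟩ := move hq hqexp r hup hx1 hwx hux hu1 htw
  refine ⟨v, hvp, fun y hy => ?_, fun y hy => ?_⟩
  · obtain ⟨i, hi⟩ := gen_of_step hP hLW hW hw0 hw0L hy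
    refine QuotientGroup.eq.mp ?_
    have hy' : (y : P ⧸ L) = w ^ i := by rw [← QuotientGroup.mk_pow]; exact (QuotientGroup.eq.mpr hi).symm
    show (y : P ⧸ L) = r v (y : P ⧸ L)
    rw [hy', map_pow, hvw]
  · obtain ⟨i, hi⟩ := gen_of_step hP hLX hX hx0 hx0L hy
    refine hmem hLX hx0 _ ?_
    have hy' : (y : P ⧸ L) = x ^ i := by rw [← QuotientGroup.mk_pow]; exact (QuotientGroup.eq.mpr hi).symm
    show r (v * t) (y : P ⧸ L) ∈ zpowers x
    rw [hy', map_pow]
    exact pow_mem hvt i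

/-- A subgroup of index at least `p` containing the derived subgroup, invariant under all automorphisms. -/
theorem exists_invariant {p : ℕ} [hp : Fact p.Prime] {G : Type*} [Group G] [Finite G] (hG : IsPGroup p G)
    (hp2 : p ≠ 2) {A : Subgroup (MulAut G)} {m : ℕ} (hm : ¬ p ∣ m)
    (hinn : ∀ γ ∈ A, ∃ y, γ ^ m = MulAut.conj y) {M : Subgroup G} [hMn : M.Normal]
    (hMinv : ∀ h ∈ A, ∀ x ∈ M, h x ∈ M) {w : G} (hwM : w ∈ M) (hwC : w ∉ commutator G)
    (hMgen : ∀ x ∈ M, ∃ i : ℕ, (w ^ i)⁻¹ * x ∈ commutator G) (hwp : w ^ p ∈ commutator G)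
    {T : MulAut G} (hT : T ∈ A) (hTw : w⁻¹ * T w ∈ commutator G) (hTx : ∀ x, T x * x ∈ M)
    (hb : ∀ h ∈ A, w⁻¹ * h w ∈ commutator G) :
    ∃ K : Subgroup G, commutator G ≤ K ∧ K ≠ ⊤ ∧ ∀ h ∈ A, ∀ x, x⁻¹ * h x ∈ K := by
  let π : G →* Abelianization G := Abelianization.of
  have hπ : ∀ {x y : G}, π x = π y ↔ x⁻¹ * y ∈ commutator G := fun {x y} => QuotientGroup.eq
  have hπ1 : ∀ {x : G}, π x = 1 ↔ x ∈ commutator G := fun {x} => QuotientGroup.eq_one_iff x
  -- all automorphisms of `A` are trivial on `M` modulo the derived subgroup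
  have hfixM : ∀ h ∈ A, ∀ x ∈ M, π (h x) = π x := by
    intro h hh x hx
    obtain ⟨i, hi⟩ := hMgen x hx
    have h1 : π (h w) = π w := (hπ.mpr (hb h hh)).symm
    have h2 : π (h ((w ^ i)⁻¹ * x)) = π ((w ^ i)⁻¹ * x) := by
      have hcm : h ((w ^ i)⁻¹ * x) ∈ commutator G := by
        rw [← characteristic_iff_map_eq.mp (inferInstance : (commutator G).Characteristic) h]
        exact ⟨_, hi, rfl⟩
      rw [hπ1.mpr hcm, hπ1.mpr hi]
    rw [← mul_inv_cancel_left (w ^ i) x]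
    simp only [map_mul, map_pow] at h2 ⊢
    rw [h1, h2]
  -- `T` inverts `G / M`, hence commutes with `A` on the abelianisation
  have hcommT : ∀ h ∈ A, ∀ x, π (h (T x)) = π (T (h x)) := by
    intro h hh x
    set γ := T⁻¹ * h⁻¹ * T * h with hγ
    have hγA : γ ∈ A := mul_mem (mul_mem (mul_mem (inv_mem hT) (inv_mem hh)) hT) hh
    have hTinv : ∀ y, T⁻¹ y * y ∈ M := fun y => by
      have h1 := hTx (T⁻¹ y)
      rw [← MulAut.mul_apply, mul_inv_cancel, MulAut.one_apply] at h1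
      simpa [mul_assoc] using hMn.conj_mem _ h1 y⁻¹
    set q := QuotientGroup.mk' M
    have hqT : ∀ y, q (T y) = (q y)⁻¹ := fun y => by
      rw [← mul_eq_one_iff_eq_inv, ← map_mul]
      exact (QuotientGroup.eq_one_iff _).mpr (hTx y)
    have hqTi : ∀ y, q (T⁻¹ y) = (q y)⁻¹ := fun y => by
      rw [← mul_eq_one_iff_eq_inv, ← map_mul]
      exact (QuotientGroup.eq_one_iff _).mpr (hTinv y)
    have hγx : ∀ y, y⁻¹ * γ y ∈ M := by
      intro y
      refine QuotientGroup.eq.mp ?_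
      show q y = q (γ y)
      have hmh : ∀ z : G, q (h⁻¹ z⁻¹) = (q (h⁻¹ z))⁻¹ := fun z => by rw [map_inv, map_inv]
      have hTh : (h y)⁻¹⁻¹ * T (h y) = (h y) * T (h y) := by rw [inv_inv]
      have hdiff : q (h⁻¹ (T (h y))) = q (h⁻¹ ((h y)⁻¹)) := by
        refine QuotientGroup.eq.mpr ?_
        rw [← map_inv, ← map_mul]
        exact hMinv _ (inv_mem hh) _ (QuotientGroup.eq.mp ((hqT (h y)).trans (map_inv q _).symm))
      rw [hγ, MulAut.mul_apply, MulAut.mul_apply, MulAut.mul_apply, hqTi, hdiff, hmh,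
        ← MulAut.mul_apply, inv_mul_cancel, MulAut.one_apply, inv_inv]
    set e := x⁻¹ * γ x with he
    have heM : e ∈ M := hγx x
    have hiter : ∀ n : ℕ, π ((γ ^ n) x) = π x * π e ^ n := by
      intro n
      induction n with
      | zero => simp
      | succ n ih =>
        have h1 : (γ ^ (n + 1)) x = (γ ^ n) x * (γ ^ n) e := by
          rw [← map_mul, he, mul_inv_cancel_left, pow_succ, MulAut.mul_apply]
        rw [h1, map_mul, ih, hfixM _ (pow_mem hγA n) e heM, pow_succ, mul_assoc]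
    obtain ⟨y, hy⟩ := hinn γ hγA
    have h1 := hiter m
    rw [hy, MulAut.conj_apply, map_mul, map_mul, map_inv, mul_right_comm, mul_inv_cancel, one_mul] at h1
    have h2 : e ^ m ∈ commutator G := by
      rw [← hπ1, map_pow]
      exact mul_eq_left.mp h1.symm
    obtain ⟨k, hk⟩ := hG e
    have h3 : π e = 1 := hπ1.mpr (Plane.mem_of_pow_mem hk hm h2)
    have h4 : π (γ x) = π x := by
      rw [← mul_inv_cancel_left x (γ x), map_mul, ← he, h3, mul_one]
    have h5 : h (T (γ x)) = T (h x) := by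
      rw [hγ]
      simp [MulAut.mul_apply, MulAut.inv_apply]
    rw [← h5]
    refine hπ.mpr ?_
    rw [← map_inv, ← map_mul, ← map_inv, ← map_mul]
    have h6 : x⁻¹ * γ x ∈ commutator G := hπ.mp h4.symm
    have h7 : T (x⁻¹ * γ x) ∈ commutator G := by
      rw [← characteristic_iff_map_eq.mp (inferInstance : (commutator G).Characteristic) T]
      exact ⟨_, h6, rfl⟩
    rw [← characteristic_iff_map_eq.mp (inferInstance : (commutator G).Characteristic) h]
    exact ⟨_, h7, rfl⟩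
  let θ : G →* Abelianization G :=
    { toFun := fun x => (π x)⁻¹ * π (T x)
      map_one' := by simp
      map_mul' := fun x y => by
        simp only [map_mul, mul_inv_rev]
        ac_rfl }
  set K := θ.range.comap π with hK
  have hmemK : ∀ {z}, z ∈ K ↔ ∃ x, θ x = π z := fun {z} => Iff.rfl
  have hCK : commutator G ≤ K := fun z hz => hmemK.mpr ⟨1, by rw [map_one, hπ1.mpr hz]⟩
  refine ⟨K, hCK, fun htop => ?_, fun h hh x => ?_⟩
  · -- the derived quotient has an endomorphism with nontrivial kernel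
    have hsurj : Function.Surjective (Abelianization.lift θ) := by
      intro q
      obtain ⟨z, rfl⟩ := QuotientGroup.mk_surjective q
      obtain ⟨x, hx⟩ := hmemK.mp (htop.ge (mem_top z))
      exact ⟨π x, hx⟩
    haveI : Finite (Abelianization G) := Finite.of_surjective π QuotientGroup.mk_surjective
    have hinj := Finite.injective_iff_surjective.mpr hsurj
    apply hwC
    rw [← hπ1]
    refine hinj ?_
    rw [map_one]
    show θ w = 1
    show (π w)⁻¹ * π (T w) = 1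
    rw [inv_mul_eq_one]
    exact hπ.mpr hTw
  · have hθh : ∀ y, θ (h y) = π (h (y⁻¹ * T y)) := fun y => by
      show (π (h y))⁻¹ * π (T (h y)) = _
      rw [← hcommT h hh, map_mul, map_mul, map_inv, map_inv]
    -- the action on the square
    have hsq : ∀ y, (y ^ 2)⁻¹ * h (y ^ 2) ∈ K := by
      intro y
      set n := T y * y with hn
      refine hmemK.mpr ⟨y * (h y)⁻¹, ?_⟩
      rw [map_mul, map_inv, hθh]
      show (π y)⁻¹ * π (T y) * (π (h (y⁻¹ * T y)))⁻¹ = π ((y ^ 2)⁻¹ * h (y ^ 2))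
      rw [show T y = n * y⁻¹ by rw [hn, mul_inv_cancel_right]]
      simp only [map_mul, map_inv, map_pow, hfixM h hh n (hTx y), mul_inv_rev, inv_inv, sq]
      rw [mul_comm (π n) (π y)⁻¹, mul_comm (π (h y)) (π n)⁻¹]
      simp only [← mul_assoc]
      rw [mul_assoc _ (π n) (π n)⁻¹]
      · group
    obtain ⟨k, hk⟩ := hG x
    haveI : K.Normal := Normal.of_commutator_le _ hCK
    have h2 : ¬ p ∣ 2 := fun hd => hp2 ((Nat.prime_dvd_prime_iff_eq hp.out Nat.prime_two).mp hd)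
    obtain ⟨k', hk'⟩ := hG (x⁻¹ * h x)
    refine Plane.mem_of_pow_mem hk' h2 ?_
    have := hsq x
    rw [← QuotientGroup.eq_one_iff] at this ⊢
    simp only [QuotientGroup.mk_mul, QuotientGroup.mk_inv, QuotientGroup.mk_pow, map_pow] at this ⊢
    have hc : ∀ a b : G ⧸ K, Commute a b := fun a b => QuotientGroup.induction_on a fun a =>
      QuotientGroup.induction_on b fun b => commute_mk
        (hCK (commutator_mem_commutator (mem_top a) (mem_top b)))
    rw [(hc _ _).mul_pow, inv_pow, this]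

end Cfsg.Lib.OrderPFive
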