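import Cfsg.Agent.Lib.OrderPFive.Extend
import Cfsg.Agent.Lib.OrderPFive.Groups
import Cfsg.Agent.Lib.FusionSys.Displacement
import Cfsg.Agent.Lib.FusionSys.Normal

/-!
# Displacements on essential subgroups for the prime three
-/

set_option autoImplicit false
set_option linter.style.haveILetI false

namespace Cfsg.Lib.OrderPFive

open Cfsg Cfsg.FusionSystem
open Cfsg.Lib.FusionSys
open Cfsg.Lib.FusionSys.RankTwo (cA coe_cA basic)
open scoped commutatorElement

universe u

variable {Ω : Type u} [Group Ω] {S : Subgroup Ω} [Finite S] {p : ℕ} [hp : Fact p.Prime]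
variable {F : FusionSystem S} {P : Subgroup Ω}

/-- The focal subgroup lies in a subgroup containing all displacements, proved by downward induction. -/
theorem focal_le_of_displacement_rec (hS : IsPGroup p S) (hF : F.IsSaturated p) (T : Subgroup Ω)
    (hconjT : ∀ g ∈ S, ∀ x ∈ S, x⁻¹ * (g * x * g⁻¹) ∈ T)
    (h : ∀ P : Subgroup Ω, (P = S ∨ F.IsEssential p P) →
      (∀ Q : Subgroup Ω, Nat.card P < Nat.card Q → ∀ φ ∈ F.Hom Q, ∀ x : Q, (x : Ω)⁻¹ * φ x ∈ T) →
        ∀ α ∈ F.autGroup P, ∀ x : P, (x : Ω)⁻¹ * (α x : Ω) ∈ T) :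
    F.focalSubgroup ≤ T := by
  let E : FusionSystem S :=
    { Hom := fun P => {φ | φ ∈ F.Hom P ∧ ∀ x : P, (x : Ω)⁻¹ * φ x ∈ T}
      le_of_mem := fun h => F.le_of_mem h.1
      injective_of_mem := fun h => F.injective_of_mem h.1
      conj_mem := fun {P g} hP hg => ⟨F.conj_mem hP hg, fun x => hconjT g hg x (hP x.2)⟩
      comp_mem := by
        rintro P Q φ ψ ⟨hφ, hφT⟩ ⟨hψ, hψT⟩ h
        refine ⟨F.comp_mem hφ hψ h, fun x => ?_⟩
        have h1 := T.mul_mem (hφT x) (hψT ⟨φ x, h x⟩)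
        rw [mul_assoc, mul_inv_cancel_left] at h1
        exact h1
      inv_mem := by
        rintro P φ ⟨hφ, hφT⟩
        obtain ⟨ψ, hψ, hψe⟩ := F.inv_mem hφ
        refine ⟨ψ, ⟨hψ, ?_⟩, hψe⟩
        rintro ⟨_, x, rfl⟩
        rw [hψe]
        simpa using T.inv_mem (hφT x) }
  have hle : F ≤ E := by
    refine le_of_autGroup_le' hS hF E fun P hP hrec α hα => ?_
    have hPS : P ≤ S := by
      rcases hP with rfl | hP
      exacts [le_rfl, hP.1.1]
    exact (mem_autGroup hPS).2 ⟨(mem_autGroup hPS).1 hα,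
      fun x => h P hP (fun Q hQ φ hφ => (hrec Q hQ hφ).2) α hα x⟩
  refine (Subgroup.closure_le _).2 ?_
  rintro _ ⟨Q, φ, x, hφ, rfl⟩
  exact (hle Q hφ).2 x

/-- The displacements on an essential subgroup with a plane as top section. -/
theorem ess_displacement (hS : IsPGroup p S) (hF : F.IsSaturated p) (hp3 : p = 3) (T : Subgroup Ω)
    (hconjT : ∀ g ∈ S, ∀ x ∈ S, x⁻¹ * (g * x * g⁻¹) ∈ T) (hE : F.IsEssential p P)
    (hbig : ∀ Q : Subgroup Ω, Nat.card P < Nat.card Q → ∀ φ ∈ F.Hom Q, ∀ x : Q, (x : Ω)⁻¹ * φ x ∈ T)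
    (B B0 : Subgroup P) [hBn : B.Normal] (hB0B : B0 ≤ B)
    (hBinv : ∀ α ∈ F.autGroup P, ∀ x ∈ B, α x ∈ B) (hB0inv : ∀ α ∈ F.autGroup P, ∀ x ∈ B0, α x ∈ B0)
    (hq : Nat.card (↥P ⧸ B) = p ^ 2) (hexp : ∀ v : ↥P ⧸ B, v ^ p = 1)
    (hBc : Nat.card B = Nat.card B0 ∨ Nat.card B = p * Nat.card B0) (hB0T : ∀ x ∈ B0, (x : Ω) ∈ T)
    (htriv : ∀ α ∈ F.autGroup P, (∀ x, x⁻¹ * α x ∈ B) → ∀ x ∈ B0, α x = x) :
    ∀ α ∈ F.autGroup P, ∀ x : P, (x : Ω)⁻¹ * (α x : Ω) ∈ T := by
  have hPS : P ≤ S := hE.1.1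
  haveI := finite_of_le hPS
  haveI := finite_of_le (normalizerIn_le (S := S) P)
  haveI : Finite ↥(F.autGroup P) := Finite.of_injective
    (fun a : F.autGroup P => ((a : MulAut P) : P → P))
    (DFunLike.coe_injective.comp Subtype.val_injective)
  have hPG : IsPGroup p P := hS.to_le hPS
  have hp2 : p ≠ 2 := by omega
  obtain ⟨hlt, hIN, hIp, hO, hRp, hRI⟩ := basic hS hF hE
  set A := F.autGroup P
  set I := (Inn P).subgroupOf A with hI'
  set R := (autInducedBy S P).subgroupOf A with hR'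
  have hIR : I ≤ R := fun a ha => inn_le_autInducedBy hPS ha
  haveI hB0n : B0.Normal := ⟨fun a ha g => by
    simpa using hB0inv _ (inn_le_autGroup hPS ⟨g, rfl⟩ : MulAut.conj g ∈ F.autGroup P) a ha⟩
  -- the action on the top section
  have hmap : ∀ a : A, B.map (a : MulAut P).toMonoidHom = B := fun a =>
    Subgroup.eq_of_le_of_card_ge (by rintro _ ⟨y, hy, rfl⟩; exact hBinv a a.2 y hy)
      (le_of_eq (Subgroup.card_map_of_injective (a : MulAut P).injective).symm)
  let r : A →* MulAut (↥P ⧸ B) :=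
    { toFun := fun a => QuotientGroup.congr _ _ (a : MulAut P) (hmap a)
      map_one' := MulEquiv.ext fun q => QuotientGroup.induction_on q fun _ => rfl
      map_mul' := fun _ _ => MulEquiv.ext fun q => QuotientGroup.induction_on q fun _ => rfl }
  have hr : ∀ (a : A) (x : P), r a (x : ↥P ⧸ B) = ((a : MulAut P) x : ↥P ⧸ B) := fun _ _ => rfl
  -- the automorphisms which are trivial on the lower section
  let A1 : Subgroup A :=
    { carrier := {a | ∀ x ∈ B, x⁻¹ * (a : MulAut P) x ∈ B0}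
      one_mem' := fun x _ => by simp
      mul_mem' := fun {a b} ha hb x hx => by
        rw [Subgroup.coe_mul, MulAut.mul_apply]
        exact mod_trans' (hb x hx) (ha _ (hBinv b b.2 x hx))
      inv_mem' := fun {a} ha x hx => by
        have h1 := ha (((a⁻¹ : A) : MulAut P) x) (hBinv _ (a⁻¹).2 x hx)
        rw [← MulAut.mul_apply, ← Subgroup.coe_mul, mul_inv_cancel, Subgroup.coe_one, MulAut.one_apply] at h1
        simpa using B0.inv_mem h1 }
  haveI hA1n : A1.Normal := ⟨fun a ha b x hx => by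
    have h1 : ((b * a * b⁻¹ : A) : MulAut P) x =
        x * (b : MulAut P) ((((b⁻¹ : A) : MulAut P) x)⁻¹ * (a : MulAut P) (((b⁻¹ : A) : MulAut P) x)) := by
      simp only [Subgroup.coe_mul, InvMemClass.coe_inv, MulAut.mul_apply, map_mul, map_inv,
        MulAut.inv_apply, MulEquiv.apply_symm_apply, mul_inv_cancel_left]
    rw [h1, inv_mul_cancel_left]
    exact hB0inv b b.2 _ (ha _ (hBinv _ (b⁻¹).2 x hx))⟩
  have hpA1 : ∀ (a : A) (k : ℕ), a ^ p ^ k = 1 → a ∈ A1 := by
    intro a k ha x hx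
    have ha' : (a : MulAut P) ^ p ^ k = 1 := by rw [← SubgroupClass.coe_pow, ha]; rfl
    rcases hBc with h | h
    · have hBB : B0 = B := Subgroup.eq_of_le_of_card_ge hB0B h.le
      rw [hBB]
      exact B.mul_mem (B.inv_mem hx) (hBinv a a.2 x hx)
    · exact section_trivial hPG hB0B h (hBinv a a.2) (hB0inv a a.2) ha' x hx
  have hRA1 : R ≤ A1 := fun a ha => by
    obtain ⟨k, hk⟩ := hRp ⟨a, ha⟩
    exact hpA1 a k (congrArg Subtype.val hk)
  have hJ : ∀ a : A, a ∈ A1 → r a = 1 → a ∈ I := by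
    intro a ha hra
    have hrad := isRadical_of_isEssential hS hE
    let D : ℕ → Subgroup Ω
      | 0 => ⊥
      | 1 => B0.map P.subtype
      | 2 => B.map P.subtype
      | _ => P
    refine Subgroup.mem_subgroupOf.mpr (mem_inn_of_stabilizes hS hrad (D := D) (n := 3) rfl rfl ?_ a.2 ?_)
    · intro b hb i hi x hx
      interval_cases i
      · rw [show x = 1 from Subtype.ext (Subgroup.mem_bot.mp hx), map_one]
        exact one_mem _
      · obtain ⟨y, hy, hyx⟩ := hx
        exact ⟨b x, hB0inv b hb x (by rw [show x = y from Subtype.ext hyx.symm]; exact hy), rfl⟩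
      · obtain ⟨y, hy, hyx⟩ := hx
        exact ⟨b x, hBinv b hb x (by rw [show x = y from Subtype.ext hyx.symm]; exact hy), rfl⟩
      · exact (b x).2
    · have htr : ∀ x, x⁻¹ * (a : MulAut P) x ∈ B := fun x =>
        QuotientGroup.eq.mp (((hr a x).symm.trans (DFunLike.congr_fun hra _)).symm)
      intro i hi x hx
      interval_cases i
      · obtain ⟨y, hy, hyx⟩ := hx
        rw [htriv a a.2 htr x (by rw [show x = y from Subtype.ext hyx.symm]; exact hy), inv_mul_cancel]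
        exact one_mem _
      · obtain ⟨y, hy, hyx⟩ := hx
        exact ⟨_, ha x (by rw [show x = y from Subtype.ext hyx.symm]; exact hy), rfl⟩
      · exact ⟨_, htr x, rfl⟩
  have hIA1 : I ≤ A1 := hIR.trans hRA1
  set I1 := I.subgroupOf A1
  set R1 := R.subgroupOf A1
  haveI hI1 : I1.Normal := inferInstance
  have hI1p : IsPGroup p I1 := hIp.comap_subtype
  have hO1 : ∀ N : Subgroup A1, N.Normal → IsPGroup p N → N ≤ I1 := by
    intro N hN hNp a ha
    have h1 : N ≤ Cfsg.pCore p A1 := Cfsg.Lib.Core.le_pCore' hN hNp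
    haveI : ((Cfsg.pCore p A1).map A1.subtype).Normal := inferInstance
    exact hO _ inferInstance ((Cfsg.Lib.Core.pCore_isPGroup p A1).map _) ⟨a, h1 ha, rfl⟩
  have hker : IsPGroup p (r.comp A1.subtype).ker := by
    refine hI1p.to_le fun a ha => hJ a a.2 ?_
    exact MonoidHom.mem_ker.mp ha
  have hR1I : ¬ R1 ≤ I1 := fun h => hRI fun a ha => h (show (⟨a, hRA1 ha⟩ : A1) ∈ R1 from ha)
  have hR1p : IsPGroup p R1 := hRp.comap_subtype
  obtain ⟨e, f, he, hf, hfix, htrivR, ⟨u, hu, huf⟩, d, -, hde, hdf, -⟩ :=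
    Plane.exists_diag hq hexp (r.comp A1.subtype) I1 hI1 hI1p hO1 hker R1 hR1p hR1I hp2
  set rd := r (d : A) with hrd
  have hinv : ∀ v, rd v = v⁻¹ := by
    have h2 : ∀ v : ↥P ⧸ B, v ^ 2 = v⁻¹ := fun v => by
      rw [eq_inv_iff_mul_eq_one, ← pow_succ]
      have := hexp v
      rwa [hp3] at this
    intro v
    obtain ⟨i, j, rfl⟩ := Plane.exists_coords hq hexp he hf v
    rw [map_mul, map_pow, map_pow, show rd e = e⁻¹ from hde.trans (h2 e),
      show rd f = f⁻¹ from hdf.trans (by rw [hp3]; exact h2 f), inv_pow, inv_pow, ← mul_inv_rev,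
      Plane.comm hq (f ^ j)]
  have hcomm_d : ∀ a : A, r a * rd = rd * r a := fun a => MulEquiv.ext fun v => by
    rw [MulAut.mul_apply, MulAut.mul_apply, hinv, hinv, map_inv]
  have hdR : ∀ a ∈ R, (d : A) * a * (d : A)⁻¹ ∈ R := by
    intro a ha
    have h1 : (d : A) * a * (d : A)⁻¹ * a⁻¹ ∈ I := by
      refine hJ _ (mul_mem (mul_mem (mul_mem d.2 (hRA1 ha)) (inv_mem d.2)) (inv_mem (hRA1 ha))) ?_
      rw [map_mul, map_mul, map_mul, ← hrd, ← hcomm_d, map_inv, map_inv, mul_assoc (r a), ← hrd, mul_inv_cancel,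
        mul_one, mul_inv_cancel]
    have h2 := mul_mem (hIR h1) ha
    rwa [inv_mul_cancel_right] at h2
  -- automorphisms extending to the normalizer displace inside `T`
  have hext : ∀ a : A, (∀ b ∈ R, a * b * a⁻¹ ∈ R) → ∀ x : P, (x : Ω)⁻¹ * ((a : MulAut P) x : Ω) ∈ T := by
    intro a ha x
    obtain ⟨ψ, hψ, hψe⟩ := extend_of_normalizes hS hF hE.2.1 a ha
    have hxN : (x : Ω) ∈ normalizerIn S P := le_normalizerIn hPS x.2
    have hlt' : Nat.card P < Nat.card (normalizerIn S P) :=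
      lt_of_le_of_ne (Subgroup.card_le_of_le (le_normalizerIn hPS)) fun h =>
        (lt_normalizerIn hS hlt).ne (Subgroup.eq_of_le_of_card_ge (le_normalizerIn hPS) h.ge)
    have h1 := hbig _ hlt' _ ((mem_autGroup (normalizerIn_le P)).1 hψ) ⟨(x : Ω), hxN⟩
    have h2 := hψe x hxN
    simp only [MonoidHom.comp_apply, Subgroup.coe_subtype, MulEquiv.coe_toMonoidHom] at h1
    rwa [h2] at h1
  have hTconj : ∀ y ∈ T, ∀ g ∈ S, y ∈ S → g * y * g⁻¹ ∈ T := fun y hy g hg hyS => by
    have := T.mul_mem hy (hconjT g hg y hyS)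
    rwa [mul_inv_cancel_left] at this
  intro α hα
  let W : Subgroup P :=
    { carrier := {x | (x : Ω)⁻¹ * (α x : Ω) ∈ T}
      one_mem' := by simp
      mul_mem' := fun {x y} hx hy => by
        show ((x * y : P) : Ω)⁻¹ * (α (x * y) : Ω) ∈ T
        have h1 := T.mul_mem (hTconj _ hx ((y : Ω)⁻¹) (S.inv_mem (hPS y.2))
          (S.mul_mem (S.inv_mem (hPS x.2)) (hPS (α x).2))) hy
        simpa [mul_assoc] using h1
      inv_mem' := fun {x} hx => by
        show ((x⁻¹ : P) : Ω)⁻¹ * (α x⁻¹ : Ω) ∈ T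
        have h1 := hTconj _ (T.inv_mem hx) (x : Ω) (hPS x.2)
          (S.inv_mem (S.mul_mem (S.inv_mem (hPS x.2)) (hPS (α x).2)))
        simpa [mul_assoc] using h1 }
  set a : A := ⟨α, hα⟩ with ha
  -- the lower section
  obtain ⟨β, hβA, hβe⟩ : ∃ β : A, β ∈ A1 ∧ r (β * a) e ∈ Subgroup.zpowers e := by
    set e' := r a e with he'
    by_cases hee : e' ∈ Subgroup.zpowers e
    · exact ⟨1, one_mem _, by rwa [one_mul]⟩
    have he'1 : e' ≠ 1 := fun h => hee (h ▸ one_mem _)
    obtain ⟨k, hk⟩ := hR1p ⟨u, hu⟩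
    have hup : (u : A) ^ p ^ k = 1 := congrArg (fun z : R1 => ((z : A1) : A)) hk
    have hue : r (u : A) e = e := hfix u hu
    set u' := a * (u : A) * a⁻¹ with hu'
    have hu'p : u' ^ p ^ k = 1 := by rw [hu', conj_pow, hup, mul_one, mul_inv_cancel]
    have hu'e' : r u' e' = e' := by
      rw [he', ← MulAut.mul_apply, ← map_mul, hu', inv_mul_cancel_right, map_mul, MulAut.mul_apply, hue]
    obtain ⟨i, hi⟩ := mem_powers_iff_mem_zpowers.mpr (shift_mem hq hexp r hu'p he'1 hu'e' e)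
    have hi' : r u' e = e * e' ^ i := by
      rw [eq_mul_of_mul_inv_eq hi.symm]
      exact Plane.comm hq _ _
    have hpi : ¬ p ∣ i := by
      intro hd
      rw [Plane.pow_eq_pow_of_modEq (hexp e') (Nat.modEq_zero_iff_dvd.mpr hd), pow_zero, mul_one] at hi'
      have h1 : r u' = 1 := Plane.aut_ext hq hexp he hee hi' hu'e'
      rw [hu', map_mul, map_mul, map_inv] at h1
      have h2 : r (u : A) = 1 := conj_eq_one_iff.mp h1
      have h3 : r (u : A) f = e * f := huf
      rw [h2, MulAut.one_apply] at h3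
      exact he (mul_eq_right.mp h3.symm)
    obtain ⟨x0, y0, hxy⟩ := Plane.exists_coords hq hexp he hf e'
    have hpy : ¬ p ∣ y0 := fun hd => hee (by
      rw [hxy, Plane.pow_eq_pow_of_modEq (hexp f) (Nat.modEq_zero_iff_dvd.mpr hd), pow_zero, mul_one]
      exact pow_mem (Subgroup.mem_zpowers e) x0)
    obtain ⟨s, hs⟩ := Plane.exists_mul_modEq hpy 1
    obtain ⟨q, hq'⟩ := Plane.exists_mul_modEq hpi 1
    have hu_e' : r (u : A) e' = e' * e ^ y0 := by
      have hc : Commute e f := Plane.comm hq e f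
      rw [hxy, map_mul, map_pow, map_pow, hue, show r (u : A) f = e * f from huf, hc.mul_pow, mul_assoc,
        ((hc.pow_pow y0 y0)).eq]
    have hupow : ∀ n : ℕ, r ((u : A) ^ n) e' = e' * e ^ (y0 * n) := by
      intro n
      induction n with
      | zero => simp
      | succ n ih =>
        rw [pow_succ', map_mul, MulAut.mul_apply, ih, map_mul, map_pow (r (u : A)), hue, hu_e', mul_assoc,
          ← pow_add]
        ring_nf
    have hu'pow : ∀ n : ℕ, r (u' ^ n) e = e * e' ^ (i * n) := by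
      intro n
      induction n with
      | zero => simp
      | succ n ih =>
        rw [pow_succ', map_mul, MulAut.mul_apply, ih, map_mul, map_pow (r u'), hu'e', hi', mul_assoc, ← pow_add]
        ring_nf
    refine ⟨(u' ^ q)⁻¹ * (u : A) ^ s, mul_mem (inv_mem (pow_mem (hpA1 u' k hu'p) q)) (pow_mem u.2 s), ?_⟩
    rw [map_mul, MulAut.mul_apply, ← he', map_mul, MulAut.mul_apply, hupow,
      Plane.pow_eq_pow_of_modEq (hexp e) hs, pow_one, Plane.comm hq e' e]
    have h1 : r (u' ^ q) e = e * e' := by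
      rw [hu'pow, Plane.pow_eq_pow_of_modEq (hexp e') hq', pow_one]
    rw [← h1, ← MulAut.mul_apply, ← map_mul, inv_mul_cancel, map_one, MulAut.one_apply]
    exact Subgroup.mem_zpowers e
  set γ := β * a with hγ
  have hγR : ∀ b ∈ R, γ * b * γ⁻¹ ∈ R := by
    intro b hb
    set c := γ * b * γ⁻¹ with hc
    obtain ⟨k, hk⟩ := hRp ⟨b, hb⟩
    have hbp : b ^ p ^ k = 1 := congrArg Subtype.val hk
    have hcp : c ^ p ^ k = 1 := by rw [hc, conj_pow, hbp, mul_one, mul_inv_cancel]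
    have hbe : r b e = e := hfix ⟨b, hRA1 hb⟩ hb
    have hce : r c e = e := by
      obtain ⟨n, hn⟩ := mem_powers_iff_mem_zpowers.mpr hβe
      have hn' : r γ e = e ^ n := hn.symm
      have hpn : ¬ p ∣ n := fun hd => he ((r γ).injective (by
        rw [hn', Plane.pow_eq_pow_of_modEq (hexp e) (Nat.modEq_zero_iff_dvd.mpr hd), pow_zero, map_one]))
      obtain ⟨s, hs⟩ := Plane.exists_mul_modEq hpn 1
      have h1 : r c (r γ e) = r γ e := by
        rw [← MulAut.mul_apply, ← map_mul, hc, inv_mul_cancel_right, map_mul, MulAut.mul_apply, hbe]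
      rw [hn'] at h1
      conv_lhs => rw [← pow_one e, ← Plane.pow_eq_pow_of_modEq (hexp e) hs, pow_mul, map_pow, h1, ← pow_mul,
        Plane.pow_eq_pow_of_modEq (hexp e) hs, pow_one]
    obtain ⟨i, hi⟩ := mem_powers_iff_mem_zpowers.mpr (shift_mem hq hexp r hcp he hce f)
    have hupow : ∀ n : ℕ, r ((u : A) ^ n) e = e ∧ r ((u : A) ^ n) f = e ^ n * f := by
      intro n
      induction n with
      | zero => simp
      | succ n ih =>
        refine ⟨?_, ?_⟩
        · rw [pow_succ', map_mul, MulAut.mul_apply, ih.1]; exact hfix u hu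
        · rw [pow_succ', map_mul, MulAut.mul_apply, ih.2, map_mul, map_pow (r (u : A)),
            show r (u : A) e = e from hfix u hu, show r (u : A) f = e * f from huf, ← mul_assoc, ← pow_succ]
    have h1 : c * ((u : A) ^ i)⁻¹ ∈ I := by
      refine hJ _ (mul_mem (hpA1 c k hcp) (inv_mem (pow_mem u.2 i))) ?_
      rw [map_mul, map_inv, mul_inv_eq_one]
      exact Plane.aut_ext hq hexp he hf (by rw [hce, (hupow i).1])
        (by rw [eq_mul_of_mul_inv_eq hi.symm, (hupow i).2])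
    have h2 := mul_mem (hIR h1) (pow_mem (show (u : A) ∈ R from hu) i)
    rwa [inv_mul_cancel_right] at h2
  have hBW : B ≤ W := by
    intro b hb
    have h1 := hext γ hγR b
    have hab : (a : MulAut P) b ∈ B := hBinv α hα b hb
    have h2 : ((α b)⁻¹ * (β : MulAut P) (α b) : P) ∈ B0 := hβA _ hab
    have h3 := T.mul_mem h1 (T.inv_mem (hB0T _ h2))
    show (b : Ω)⁻¹ * (α b : Ω) ∈ T
    rw [hγ, Subgroup.coe_mul, MulAut.mul_apply] at h1
    simpa [hγ, ha, Subgroup.coe_mul, MulAut.mul_apply, mul_assoc] using h3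
  -- the displacements of the inverting automorphism
  have hdW : ∀ x : P, x⁻¹ * ((d : A) : MulAut P) x ∈ W := by
    intro x
    set D := ((d : A) : MulAut P) with hD
    have hδ : a * (d : A) * a⁻¹ * (d : A)⁻¹ ∈ I := by
      refine hJ _ (mul_mem (hA1n.conj_mem _ d.2 a) (inv_mem d.2)) ?_
      rw [map_mul, map_mul, map_mul, ← hrd, hcomm_d, map_inv, map_inv, mul_inv_cancel_right, ← hrd, mul_inv_cancel]
    obtain ⟨y, hy⟩ := hδ
    set z := α x with hz
    have h4 : α (x⁻¹ * D x) = z⁻¹ * (y * D z * y⁻¹) := by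
      have h5 : ((a * (d : A) * a⁻¹ * (d : A)⁻¹ : A) : MulAut P) (D z) = α (D x) := by
        simp [hD, hz, ha, MulAut.mul_apply, MulAut.inv_apply]
      rw [map_mul, map_inv, ← h5, ← MulAut.conj_apply]
      exact congrArg (fun g : MulAut P => z⁻¹ * g (D z)) hy.symm
    show ((x⁻¹ * D x : P) : Ω)⁻¹ * (α (x⁻¹ * D x) : Ω) ∈ T
    refine T.mul_mem (T.inv_mem (by simpa using hext (d : A) hdR x)) ?_
    rw [h4]
    have e1 : ((z⁻¹ * (y * D z * y⁻¹) : P) : Ω) =
        ((z : Ω)⁻¹ * (D z : Ω)) * ((D z : Ω)⁻¹ * ((y : Ω) * (D z : Ω) * (y : Ω)⁻¹)) := by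
      simp [mul_assoc]
    rw [e1]
    exact T.mul_mem (hext (d : A) hdR z) (hconjT _ (hPS y.2) _ (hPS (D z).2))
  intro x
  suffices x ∈ W from this
  obtain ⟨k, hk⟩ := hPG x
  refine Plane.mem_of_pow_mem hk (show ¬ p ∣ 2 by rw [hp3]; norm_num) ?_
  set D := ((d : A) : MulAut P) with hD
  have h1 : x * D x ∈ B := by
    rw [← QuotientGroup.eq_one_iff, QuotientGroup.mk_mul]
    have := hinv (x : ↥P ⧸ B)
    rw [hrd, hr] at this
    rw [this, mul_inv_cancel]
  have h2 := mul_mem (hBW h1) (inv_mem (hdW x))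
  have h3 : x * D x * (x⁻¹ * D x)⁻¹ = x ^ 2 := by rw [sq, mul_inv_rev, inv_inv, mul_assoc x (D x), mul_inv_cancel_left]
  rwa [h3] at h2

end Cfsg.Lib.OrderPFive
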