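import Cfsg.Agent.Lib.OrderPFive.Extend
import Cfsg.Agent.Lib.OrderPFive.CalcPearl

/-!
# A self-centralizing essential subgroup of order `p ^ 2` in a group of order `p ^ 5`
-/

set_option autoImplicit false
set_option linter.style.haveILetI false

namespace Cfsg.Lib.OrderPFive

open Cfsg Cfsg.FusionSystem
open Cfsg.Lib.FusionSys
open Cfsg.Lib.FusionSys.RankTwo (cA coe_cA basic)
open scoped commutatorElement

theorem card_comap_inclusion {Ω : Type*} [Group Ω] {S N : Subgroup Ω} (hN : N ≤ S) {X : Subgroup S}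
    (hX : X ≤ N.subgroupOf S) : Nat.card (X.comap (Subgroup.inclusion hN)) = Nat.card X := by
  refine Nat.card_congr (Equiv.ofBijective
    (fun x : X.comap (Subgroup.inclusion hN) => (⟨Subgroup.inclusion hN x, x.2⟩ : X)) ⟨fun a b h => ?_, fun x => ?_⟩)
  · exact Subtype.ext (Subgroup.inclusion_injective hN (congrArg Subtype.val h))
  · exact ⟨⟨⟨x, hX x.2⟩, x.2⟩, Subtype.ext (Subtype.ext rfl)⟩

/-- A large subgroup of elements whose commutators with `x` lie one step lower. -/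
theorem exists_comm_kernel {p : ℕ} [hp : Fact p.Prime] {G : Type*} [Group G] [Finite G] (hG : IsPGroup p G)
    {L M : Subgroup G} [hLn : L.Normal] [hMn : M.Normal] (hLM : L ≤ M) (hc : Nat.card M = p * Nat.card L)
    {x : G} (hx : ∀ y, ⁅x, y⁆ ∈ M) :
    ∃ H : Subgroup G, Nat.card G ≤ p * Nat.card H ∧ ∀ y ∈ H, ⁅x, y⁆ ∈ L := by
  set π := QuotientGroup.mk' L
  have hcen : ∀ a ∈ M, ∀ q, Commute (π a) q := fun a ha q => QuotientGroup.induction_on q fun b =>
    commute_mk (comm_mem_step hG hLM hc ha b).2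
  let φ : G →* G ⧸ L :=
    { toFun := fun y => π ⁅x, y⁆
      map_one' := by simp
      map_mul' := fun y y' => by
        rw [show ⁅x, y * y'⁆ = ⁅x, y⁆ * (y * ⁅x, y'⁆ * y⁻¹) by
          rw [commutatorElement_def, commutatorElement_def, commutatorElement_def]; group,
          map_mul, map_mul, map_mul, map_inv, ← (hcen _ (hx y') (π y)).eq, mul_inv_cancel_right] }
  refine ⟨φ.ker, ?_, fun y hy => (QuotientGroup.eq_one_iff _).mp (MonoidHom.mem_ker.mp hy)⟩
  rw [← Subgroup.card_mul_index φ.ker, Subgroup.index_ker, mul_comm p]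
  refine Nat.mul_le_mul_left _ ?_
  have hle : φ.range ≤ M.map π := by
    rintro _ ⟨y, rfl⟩
    exact ⟨_, hx y, rfl⟩
  refine (Subgroup.card_le_of_le hle).trans ?_
  have hker : (π.subgroupMap M).ker = L.subgroupOf M := by
    ext a
    rw [MonoidHom.mem_ker, Subgroup.mem_subgroupOf, ← QuotientGroup.eq_one_iff (N := L), Subtype.ext_iff]
    rfl
  have h1 := (π.subgroupMap M).ker.card_mul_index
  rw [Subgroup.index_ker, MonoidHom.range_eq_top.mpr (π.subgroupMap_surjective M), Subgroup.card_top, hker,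
    Nat.card_congr (Subgroup.subgroupOfEquivOfLe hLM).toEquiv, hc, mul_comm p] at h1
  exact (Nat.eq_of_mul_eq_mul_left Nat.card_pos h1).le

universe u

variable {Ω : Type u} [Group Ω] {S : Subgroup Ω} [Finite S] {p : ℕ} [hp : Fact p.Prime]
variable {F : FusionSystem S} {E : Subgroup Ω}

set_option maxHeartbeats 800000 in
/-- The case with an essential subgroup of order `p ^ 2`. -/
theorem pearl_case (hS : IsPGroup p S) (hF : F.IsSaturated p) (hp2 : p ≠ 2) (hp7 : p ≠ 7)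
    (hE : F.IsEssential p E) (hcard : Nat.card S = p ^ 5)
    (hab : ∀ B : Subgroup S, p ^ 4 ≤ Nat.card B → ∃ a ∈ B, ∃ b ∈ B, a * b ≠ b * a)
    (hEc : Nat.card E = p ^ 2) (hEel : Cfsg.IsElementaryAbelian p E) :
    p = 3 ∧ Subgroup.center S ≤ commutator S ∧ Nat.card (Subgroup.center S) = p ∧
      ∃ K : Subgroup S, commutator S ≤ K ∧ K ≠ ⊤ ∧ ∀ h ∈ F.autGroup S, ∀ x, x⁻¹ * h x ∈ K := by
  have hES : E ≤ S := hE.1.1
  obtain ⟨hlt, -, -, -, -, -⟩ := basic hS hF hE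
  haveI := finite_of_le hES
  haveI : Finite ↥(F.autGroup E) := Finite.of_injective
    (fun a : F.autGroup E => ((a : MulAut E) : E → E))
    (DFunLike.coe_injective.comp Subtype.val_injective)
  have hEexp : ∀ x : E, x ^ p = 1 := fun x => Subtype.ext (by simpa using hEel.2 x x.2)
  have hEcomm := Plane.comm (V := E) hEc
  have hker : IsPGroup p (F.autGroup E).subtype.ker := by
    rw [(F.autGroup E).ker_subtype]
    exact IsPGroup.of_bot
  set Nm := normalizerIn S E with hNm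
  obtain ⟨hIker, -, e, f, g₀, d, ψ₀, he, hf, hgE, hge, hgf, -, hde, hdf, hψ₀, hψ₀e, hψ₀g, hgen, -⟩ :=
    RankTwo.frame hS hF hp2 hE hES hEc hEexp (F.autGroup E).subtype hker
  simp only [Subgroup.coe_subtype] at hge hgf hde hdf
  set ι := Subgroup.inclusion hES with hι
  set ES := E.subgroupOf S with hES'
  have hESc : Nat.card ES = p ^ 2 := by
    rw [hES', Nat.card_congr (Subgroup.subgroupOfEquivOfLe hES).toEquiv, hEc]
  have hNmS : Nm ≤ S := normalizerIn_le E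
  haveI := finite_of_le hNmS
  set z : S := ι e with hz
  set x : S := ι f with hx
  have hzp : z ^ p = 1 := by rw [hz, ← map_pow, hEexp, map_one]
  have hxp : x ^ p = 1 := by rw [hx, ← map_pow, hEexp, map_one]
  have hz1 : z ≠ 1 := fun h => he (Subgroup.inclusion_injective hES (h.trans (map_one _).symm))
  have hdecE : ∀ a ∈ ES, ∃ i j : ℕ, a = z ^ i * x ^ j := by
    intro a ha
    obtain ⟨i, j, hij⟩ := Plane.exists_coords hEc hEexp he hf ⟨(a : Ω), ha⟩
    exact ⟨i, j, by rw [hz, hx, ← map_pow, ← map_pow, ← map_mul, ← hij]; exact Subtype.ext rfl⟩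
  have hcS : ∀ y : S, (∀ a ∈ ES, y * a = a * y) → y ∈ ES := fun y hy =>
    hE.1.2 E (isConj_refl F hES) (mem_centralizerIn.2
      ⟨y.2, fun a ha => congrArg Subtype.val (hy ⟨a, hES ha⟩ ha)⟩)
  -- the centre is the fixed line
  set gS : S := ⟨(g₀ : Ω), g₀.2.1⟩ with hgS
  have hgact : ∀ a : E, ι (((cA F hES g₀ : F.autGroup E) : MulAut E) a) = gS * ι a * gS⁻¹ :=
    fun a => Subtype.ext (coe_cA (F := F) hES g₀ a)
  have hfixed : ∀ a : E, gS * ι a = ι a * gS → a ∈ Subgroup.zpowers e := by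
    intro a ha
    obtain ⟨i, j, rfl⟩ := Plane.exists_coords hEc hEexp he hf a
    have h1 : ((cA F hES g₀ : F.autGroup E) : MulAut E) (e ^ i * f ^ j) = e ^ i * f ^ j :=
      Subgroup.inclusion_injective hES (by rw [← hι, hgact, ha, mul_inv_cancel_right])
    rw [map_mul, map_pow, map_pow, hge, hgf, (show Commute e f from hEcomm _ _).mul_pow,
      mul_left_cancel_iff, mul_eq_right] at h1
    rw [Plane.pow_eq_pow_of_modEq (hEexp f) (Nat.modEq_zero_iff_dvd.mpr
      (orderOf_eq_prime (hEexp e) he ▸ orderOf_dvd_of_pow_eq_one h1)), pow_zero, mul_one]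
    exact pow_mem (Subgroup.mem_zpowers e) i
  have hcenE : Subgroup.center S ≤ ES := fun y hy => hcS y fun a _ => (Subgroup.mem_center_iff.mp hy a).symm
  have hcen : Subgroup.center S = Subgroup.zpowers z := by
    have hle : Subgroup.center S ≤ Subgroup.zpowers z := fun y hy => by
      obtain ⟨i, hi⟩ := hfixed ⟨(y : Ω), hcenE hy⟩ (by
        rw [show ι (⟨(y : Ω), hcenE hy⟩ : E) = y from Subtype.ext rfl]
        exact Subgroup.mem_center_iff.mp hy gS)
      exact ⟨i, (map_zpow ι e i).symm.trans ((congrArg ι hi).trans (Subtype.ext rfl))⟩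
    refine Subgroup.eq_of_le_of_card_ge hle ?_
    rw [Nat.card_zpowers, orderOf_eq_prime hzp hz1]
    obtain ⟨k, hk⟩ := card_eq_pow hS (Subgroup.center S)
    rw [hk]
    refine Nat.le_self_pow (fun h0 => ?_) p
    rw [h0, pow_zero, Subgroup.card_eq_one] at hk
    haveI : Nontrivial S := Finite.one_lt_card_iff_nontrivial.mp
      (by rw [hcard]; exact Nat.one_lt_pow (by norm_num) hp.out.one_lt)
    exact (Subgroup.nontrivial_iff_ne_bot _).mp hS.center_nontrivial hk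
  set Zc := Subgroup.zpowers z with hZc
  haveI hZn : Zc.Normal := hcen ▸ inferInstance
  have hZc' : Nat.card Zc = p := by rw [hZc, Nat.card_zpowers, orderOf_eq_prime hzp hz1]
  have hzC : ∀ {a}, a ∈ Zc → ∀ y : S, y * a = a * y := fun {a} ha y => by
    rw [← hcen] at ha
    exact Subgroup.mem_center_iff.mp ha y
  have hzE : z ∈ ES := e.2
  have hxE : x ∈ ES := f.2
  have hxz : x ∉ Zc := fun h => hf (by
    rw [hZc, hz, ← MonoidHom.map_zpowers] at h
    obtain ⟨y, hy, hyx⟩ := h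
    exact Subgroup.inclusion_injective hES hyx ▸ hy)
  have hCE : ∀ y : S, y * x = x * y → y ∈ ES := fun y hy => hcS y fun a ha => by
    obtain ⟨i, j, rfl⟩ := hdecE a ha
    exact ((show Commute y (z ^ i) from hzC (pow_mem (Subgroup.mem_zpowers z) i) y).mul_right
      ((show Commute y x from hy).pow_right j)).eq
  -- the first normalizer
  set N1 := Nm.subgroupOf S with hN1'
  have hEN1 : ES ≤ N1 := fun a ha => le_normalizerIn hES ha
  have hNorm : ∀ y : S, ⁅x, y⁆ ∈ Zc → y ∈ N1 := fun y hy => ⟨y.2, Subgroup.mem_normalizer_fintype fun a ha => by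
    obtain ⟨i, j, hij⟩ := hdecE ⟨a, hES ha⟩ ha
    have h1 : y * x * y⁻¹ = ⁅x, y⁆⁻¹ * x := by rw [commutatorElement_def]; group
    have hZE : Zc ≤ ES := Subgroup.zpowers_le.mpr hzE
    have h2 : y * (⟨a, hES ha⟩ : S) * y⁻¹ ∈ ES := by
      rw [hij, show y * (z ^ i * x ^ j) * y⁻¹ = (y * z ^ i * y⁻¹) * (y * x * y⁻¹) ^ j by rw [conj_pow]; group]
      refine mul_mem ?_ (pow_mem (by rw [h1]; exact mul_mem (inv_mem (hZE hy)) hxE) j)
      rw [hzC (pow_mem (Subgroup.mem_zpowers z) i) y, mul_inv_cancel_right]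
      exact pow_mem hzE i
    exact h2⟩
  have hgS' : gS ∉ ES := hgE
  have hgpE : gS ^ p ∈ ES := by
    refine hCE _ ?_
    have hiter : ∀ n : ℕ, gS ^ n * x * (gS ^ n)⁻¹ = z ^ n * x := by
      intro n
      induction n with
      | zero => simp
      | succ n ih =>
        have h1 : gS * x * gS⁻¹ = z * x := by rw [hx, ← hgact, hgf, map_mul, hz]
        have h2 : gS * z * gS⁻¹ = z := by rw [hz, ← hgact, hge]
        rw [show gS ^ (n + 1) * x * (gS ^ (n + 1))⁻¹ = gS * (gS ^ n * x * (gS ^ n)⁻¹) * gS⁻¹ by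
          rw [pow_succ']; group, ih,
          show gS * (z ^ n * x) * gS⁻¹ = (gS * z * gS⁻¹) ^ n * (gS * x * gS⁻¹) by rw [conj_pow]; group,
          h1, h2, ← mul_assoc, ← pow_succ]
    have h3 := hiter p
    rw [hzp, one_mul] at h3
    exact mul_inv_eq_iff_eq_mul.mp h3
  have hN1gen : ∀ y ∈ N1, ∃ i : ℕ, (gS ^ i)⁻¹ * y ∈ ES := fun y hy => by
    obtain ⟨i, hi⟩ := hgen ⟨(y : Ω), hy⟩
    exact ⟨i, hi⟩
  have hN1c : Nat.card N1 = p ^ 3 := by
    refine le_antisymm ?_ ?_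
    · refine (Nat.card_le_card_of_surjective (fun q : Fin p × ES =>
        (⟨gS ^ (q.1 : ℕ) * q.2, N1.mul_mem (N1.pow_mem g₀.2 _) (hEN1 q.2.2)⟩ : N1)) ?_).trans (by
          rw [Nat.card_prod, Nat.card_fin, hESc, ← pow_succ'])
      rintro ⟨y, hy⟩
      obtain ⟨i, hi⟩ := hN1gen y hy
      refine ⟨(⟨i % p, Nat.mod_lt _ hp.out.pos⟩, ⟨(gS ^ (i % p))⁻¹ * y, ?_⟩), Subtype.ext (mul_inv_cancel_left _ _)⟩
      have h2 : (gS ^ (i % p))⁻¹ * y = (gS ^ p) ^ (i / p) * ((gS ^ i)⁻¹ * y) := by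
        rw [← pow_mul]
        conv_rhs => rw [show i = p * (i / p) + i % p from (Nat.div_add_mod i p).symm, pow_add, mul_inv_rev]
        rw [show p * ((p * (i / p) + i % p) / p) = p * (i / p) by rw [Nat.div_add_mod]]
        rw [← mul_assoc (gS ^ (p * (i / p))), ← mul_assoc (gS ^ (p * (i / p))),
          ((Commute.refl gS).pow_pow _ _).inv_right.eq, mul_assoc ((gS ^ (i % p))⁻¹), mul_inv_cancel, mul_one]
      rw [h2]
      exact mul_mem (pow_mem hgpE _) hi
    · have := card_step hS (lt_of_le_of_ne hEN1 fun h => hgS' (h.ge g₀.2))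
      rwa [hESc, ← pow_succ'] at this
  -- conjugates of the normalizer are not normal
  have hnotnormal : ∀ Q : Subgroup Ω, F.IsConj Nm Q → ¬ (Q.subgroupOf S).Normal := by
    intro Q hQ hn
    obtain ⟨φ, hφ⟩ := isConj_iff.1 hQ
    have hQS : Q ≤ S := (isConj_le hQ).2
    set ι' := (Subgroup.inclusion hQS).comp (φ.toMonoidHom.comp (Subgroup.inclusion (le_normalizerIn hES))) with hι'
    set E2 := ι'.range.map S.subtype with hE2
    have hE2S : E2 ≤ S := Subgroup.map_subtype_le _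
    haveI := finite_of_le hE2S
    haveI := finite_of_le (normalizerIn_le (S := S) E2)
    have hconj : F.IsConj E E2 := by
      refine ⟨S.subtype.comp ι', hom_congr (restrict_mem hφ (le_normalizerIn hES)) fun a => rfl, ?_⟩
      rw [hE2, MonoidHom.range_comp]
    have hι'inj : Function.Injective ι' := (Subgroup.inclusion_injective hQS).comp
      (φ.injective.comp (Subgroup.inclusion_injective (le_normalizerIn hES)))
    have hrc : Nat.card ι'.range = p ^ 2 := by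
      rw [← Nat.card_congr (MonoidHom.ofInjective hι'inj).toEquiv, hEc]
    have hZle : Zc ≤ ι'.range := fun a ha => by
      have h1 : (a : Ω) ∈ E2 := hE.1.2 E2 hconj (mem_centralizerIn.2 ⟨a.2, fun b hb =>
        congrArg Subtype.val (hzC ha ⟨b, hE2S hb⟩).symm⟩)
      obtain ⟨b, hb, hba⟩ := h1
      exact Subtype.ext hba ▸ hb
    obtain ⟨x', hx', hx'Z⟩ := SetLike.exists_of_lt (lt_of_le_of_ne hZle fun h => by
      rw [← h, hZc'] at hrc
      nlinarith [hp.out.one_lt])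
    set QS := Q.subgroupOf S
    have hQc : Nat.card QS = p ^ 3 := by
      rw [Nat.card_congr (Subgroup.subgroupOfEquivOfLe hQS).toEquiv, ← Nat.card_congr φ.toEquiv, ← hN1c, hN1',
        Nat.card_congr (Subgroup.subgroupOfEquivOfLe hNmS).toEquiv]
    have hrQ : ι'.range ≤ QS := by
      rintro _ ⟨a, rfl⟩
      exact (φ _).2
    obtain ⟨M, hMn, hZM, hMQ, hMc⟩ := exists_normal_step hS (lt_of_le_of_ne (hZle.trans hrQ) fun h => by
      rw [← h, hZc'] at hQc
      nlinarith [hp.out.one_lt, Nat.le_self_pow (show 3 ≠ 0 by norm_num) p, Nat.pow_le_pow_right hp.out.pos (show 2 ≤ 3 by norm_num)])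
    obtain ⟨H, hH, hHx⟩ := exists_comm_kernel hS hZM hMc (x := x') fun y =>
      (comm_mem_step hS hMQ (by rw [hQc, hMc, hZc', ← mul_assoc, ← sq, ← pow_succ]) (hrQ hx') y).2
    have hHN : H ≤ (normalizerIn S E2).subgroupOf S := fun y hy => ⟨y.2, Subgroup.mem_normalizer_fintype fun a ha => by
      obtain ⟨b, hb, rfl⟩ := ha
      obtain ⟨i, hi⟩ := gen_of_step hS hZle (by rw [hrc, hZc', sq]) hx' hx'Z hb
      have h1 : y * b * y⁻¹ ∈ ι'.range := by
        have e1 : y * x' * y⁻¹ = ⁅x', y⁆⁻¹ * x' := by rw [commutatorElement_def]; group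
        rw [← mul_inv_cancel_left (x' ^ i) b, show y * (x' ^ i * ((x' ^ i)⁻¹ * b)) * y⁻¹ =
          (y * x' * y⁻¹) ^ i * (y * ((x' ^ i)⁻¹ * b) * y⁻¹) by rw [conj_pow]; group]
        exact mul_mem (pow_mem (by rw [e1]; exact mul_mem (inv_mem (hZle (hHx y hy))) hx') i)
          (hZle (hZn.conj_mem _ hi y))
      exact ⟨_, h1, by simp⟩⟩
    have h1 := (Subgroup.card_le_of_le hHN).trans_eq
      (Nat.card_congr (Subgroup.subgroupOfEquivOfLe (normalizerIn_le E2)).toEquiv)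
    have h2 := hE.2.1.2 E2 hconj
    rw [← hNm, ← Nat.card_congr (Subgroup.subgroupOfEquivOfLe hNmS).toEquiv, ← hN1', hN1c] at h2
    have h3 := hH.trans (Nat.mul_le_mul_left p (h1.trans h2))
    rw [hcard, ← pow_succ'] at h3
    exact absurd ((Nat.pow_le_pow_iff_right hp.out.one_lt).mp h3) (by norm_num)
  have hN1n : ¬ N1.Normal := hnotnormal Nm (isConj_refl F hNmS)
  -- the second normalizer
  set Nm2 := normalizerIn S Nm with hNm2
  have hNm2S : Nm2 ≤ S := normalizerIn_le Nm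
  haveI := finite_of_le hNm2S
  have hnormal : ∀ Q : Subgroup Ω, Q ≤ S → S ≤ normalizerIn S Q → (Q.subgroupOf S).Normal := fun Q _ h =>
    ⟨fun a ha y => (Subgroup.mem_normalizer_iff.mp (h y.2).2 a).mp ha⟩
  have hN2le : ∀ Q : Subgroup Ω, F.IsConj Nm Q → Nat.card (normalizerIn S Q) ≤ p ^ 4 := by
    intro Q hQ
    haveI := finite_of_le (normalizerIn_le (S := S) Q)
    obtain ⟨k, hk⟩ := IsPGroup.iff_card.mp (hS.to_le (normalizerIn_le Q))
    have h1 := card_le_of_le (normalizerIn_le (S := S) Q)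
    rw [hk, hcard] at h1
    rw [hk]
    refine Nat.pow_le_pow_right hp.out.pos ?_
    by_contra h
    have hk5 : k = 5 := by have := (Nat.pow_le_pow_iff_right hp.out.one_lt).mp h1; omega
    exact hnotnormal Q hQ (hnormal Q (isConj_le hQ).2
      (eq_of_le_of_card_le le_rfl (normalizerIn_le Q) (by rw [hk, hk5, hcard])).ge)
  have hNmc : Nat.card Nm = p ^ 3 := by
    rw [← hN1c, hN1', Nat.card_congr (Subgroup.subgroupOfEquivOfLe hNmS).toEquiv]
  have hNm2c : Nat.card Nm2 = p ^ 4 := by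
    refine le_antisymm (hN2le Nm (isConj_refl F hNmS)) ?_
    have hlt' : Nm < S := lt_of_le_of_ne hNmS fun h => by
      rw [h, hcard] at hNmc
      exact absurd (Nat.pow_right_injective hp.out.two_le hNmc) (by norm_num)
    obtain ⟨k, hk⟩ := IsPGroup.iff_card.mp (hS.to_le hNm2S)
    have h1 : Nat.card Nm < Nat.card Nm2 := lt_of_le_of_ne (Subgroup.card_le_of_le (le_normalizerIn hNmS))
      fun e => (lt_normalizerIn hS hlt').ne (Subgroup.eq_of_le_of_card_ge (le_normalizerIn hNmS) e.ge)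
    rw [hNmc, hk] at h1
    rw [hk]
    exact Nat.pow_le_pow_right hp.out.pos ((Nat.pow_lt_pow_iff_right hp.out.one_lt).mp h1)
  have hNmFN : F.IsFullyNormalized Nm := ⟨hNmS, fun Q hQ => (hN2le Q hQ).trans hNm2c.ge⟩
  set N2 := Nm2.subgroupOf S with hN2'
  have hN2c : Nat.card N2 = p ^ 4 := by
    rw [hN2', Nat.card_congr (Subgroup.subgroupOfEquivOfLe hNm2S).toEquiv, hNm2c]
  haveI hN2n : N2.Normal := normal_of_card hS (by rw [hcard, hN2c, ← pow_succ'])
  have hN1N2 : N1 ≤ N2 := fun a ha => le_normalizerIn hNmS ha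
  -- the series
  obtain ⟨D1, hD1n, hZD1, -, hD1c⟩ := exists_normal_step hS (lt_of_le_of_ne le_top fun h : Zc = ⊤ => by
    rw [h, Subgroup.card_top, hcard] at hZc'
    exact absurd ((Nat.pow_eq_self_iff hp.out.one_lt).mp hZc') (by norm_num))
  rw [hZc', ← sq] at hD1c
  have hD1s : Nat.card D1 = p * Nat.card Zc := by rw [hD1c, hZc', sq]
  have hD1N1 : D1 ≤ N1 := fun a ha => hNorm a (comm_mem_swap (comm_mem_step hS hZD1 hD1s ha x).2)
  have hED1 : ES ≠ D1 := by
    intro h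
    refine hN1n ?_
    have htop : N1 = ⊤ := by
      refine (Subgroup.eq_top_iff' _).mpr fun y => ⟨y.2, Subgroup.mem_normalizer_fintype fun a ha => ?_⟩
      have h1 := (h ▸ hD1n : ES.Normal).conj_mem ⟨a, hES ha⟩ ha y
      exact h1
    rw [htop]
    infer_instance
  have hxD1 : x ∉ D1 := fun h => hED1 (by
    refine Subgroup.eq_of_le_of_card_ge (fun a ha => ?_) (by rw [hESc, hD1c])
    obtain ⟨i, j, rfl⟩ := hdecE a ha
    exact mul_mem (pow_mem (hZD1 (Subgroup.mem_zpowers z)) i) (pow_mem h j))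
  obtain ⟨d1, hd1, hd1Z⟩ := SetLike.exists_of_lt (lt_of_le_of_ne hZD1 fun h => by
    rw [← h, hZc'] at hD1c
    nlinarith [hp.out.one_lt])
  set Γ := Subgroup.centralizer (D1 : Set S) with hΓ'
  haveI hΓn : Γ.Normal := inferInstance
  have hΓD1 : ∀ y ∈ Γ, ∀ a ∈ D1, y * a = a * y := fun y hy a ha =>
    (Subgroup.mem_centralizer_iff.mp hy a ha).symm
  have hxΓ : x ∉ Γ := fun h => by
    have h1 : D1 ≤ ES := fun a ha => hCE a (hΓD1 x h a ha).symm
    exact hED1 (Subgroup.eq_of_le_of_card_ge h1 (by rw [hESc, hD1c])).symm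
  have hΓc : Nat.card Γ = p ^ 4 := by
    haveI : (⊥ : Subgroup S).Normal := inferInstance
    obtain ⟨H, hH, hHd⟩ := exists_comm_kernel hS (L := (⊥ : Subgroup S)) (M := Zc) bot_le
      (by rw [hZc', Subgroup.card_bot, mul_one]) (x := d1) fun y => (comm_mem_step hS hZD1 hD1s hd1 y).2
    have hHΓ : H ≤ Γ := fun y hy => Subgroup.mem_centralizer_iff.mpr fun a ha => by
      obtain ⟨i, hi⟩ := gen_of_step hS hZD1 hD1s hd1 hd1Z ha
      rw [← mul_inv_cancel_left (d1 ^ i) a]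
      exact (((show Commute d1 y from commutatorElement_eq_one_iff_mul_comm.mp
        (Subgroup.mem_bot.mp (hHd y hy))).pow_left i).mul_left (hzC hi y).symm).eq
    obtain ⟨k, hk⟩ := card_eq_pow hS Γ
    have h1 := hH.trans (Nat.mul_le_mul_left p (Subgroup.card_le_of_le hHΓ))
    rw [hcard, hk, ← pow_succ'] at h1
    have h2 := (Nat.pow_le_pow_iff_right hp.out.one_lt).mp h1
    have h3 := card_le_of_le (S := S) (P := Γ.map S.subtype) (Subgroup.map_subtype_le _)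
    rw [Subgroup.card_map_of_injective S.subtype_injective, hk, hcard] at h3
    have h4 := (Nat.pow_le_pow_iff_right hp.out.one_lt).mp h3
    rcases (show k = 4 ∨ k = 5 by omega) with rfl | rfl
    · exact hk
    · exact absurd (Subgroup.eq_top_of_card_eq Γ (by rw [hk, hcard]) ▸ Subgroup.mem_top x) hxΓ
  have hD1Γ : D1 ≤ Γ := fun a ha => Subgroup.mem_centralizer_iff.mpr fun b hb => by
    haveI := IsPGroup.isMulCommutative_of_card_eq_prime_sq (p := p) hD1c
    exact congrArg Subtype.val (IsMulCommutative.is_comm.comm (⟨b, hb⟩ : D1) ⟨a, ha⟩)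
  obtain ⟨D2, hD2n, hD12, hD2Γ, hD2c⟩ := exists_normal_step hS (lt_of_le_of_ne hD1Γ fun h => by
    rw [← h, hD1c] at hΓc
    exact absurd (Nat.pow_right_injective hp.out.two_le hΓc) (by norm_num))
  rw [hD1c, ← pow_succ'] at hD2c
  have hD2s : Nat.card D2 = p * Nat.card D1 := by rw [hD2c, hD1c, ← pow_succ']
  have hN2norm : ∀ y : S, ⁅x, y⁆ ∈ D1 → y ∈ N2 := fun y hy => ⟨y.2, Subgroup.mem_normalizer_fintype fun a ha => by
    obtain ⟨i, hi⟩ := gen_of_step hS hD1N1 (by rw [hN1c, hD1c, ← pow_succ']) (hEN1 hxE) hxD1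
      (show (⟨a, hNmS ha⟩ : S) ∈ N1 from ha)
    have h1 : y * x * y⁻¹ = ⁅x, y⁆⁻¹ * x := by rw [commutatorElement_def]; group
    have h2 : y * (⟨a, hNmS ha⟩ : S) * y⁻¹ ∈ N1 := by
      rw [← mul_inv_cancel_left (x ^ i) (⟨a, hNmS ha⟩ : S),
        show y * (x ^ i * ((x ^ i)⁻¹ * (⟨a, hNmS ha⟩ : S))) * y⁻¹ =
          (y * x * y⁻¹) ^ i * (y * ((x ^ i)⁻¹ * (⟨a, hNmS ha⟩ : S)) * y⁻¹) by rw [conj_pow]; group]
      exact mul_mem (pow_mem (by rw [h1]; exact mul_mem (inv_mem (hD1N1 hy)) (hEN1 hxE)) i)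
        (hD1N1 (hD1n.conj_mem _ hi y))
    exact h2⟩
  have hD2N2 : D2 ≤ N2 := fun y hy => hN2norm y (comm_mem_step hS hD12 hD2s hy x).1
  obtain ⟨g, hgΓ, hgD2⟩ := SetLike.exists_of_lt (lt_of_le_of_ne hD2Γ fun h => by
    rw [← h, hD2c] at hΓc
    exact absurd (Nat.pow_right_injective hp.out.two_le hΓc) (by norm_num))
  obtain ⟨m, hm, hinn⟩ := exists_inner_pow hS hF
  refine calc_pearl hS hp2 hp7 hcard hab (E := ES) (N1 := N1) (D1 := D1) (D2 := D2) (Γ := Γ) (N2 := N2)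
    (z := z) (x := x) (g := g) hzp hz1 hcen hzE hxE hxp hxz hESc hCE hEN1 hN1c hN1n hNorm hN1N2 hN2c hN2norm
    (hZD1 (Subgroup.mem_zpowers z)) hD1c hD12 hD2c hD2Γ hΓc hD2N2 hΓD1 hgΓ hgD2 (F.autGroup S) hm hinn ?_
  -- the automorphism of the first normalizer
  set l := (p + 1) / 2 with hl
  set η := Subgroup.inclusion hNmS with hη
  have hηN : ∀ a : Nm, η a ∈ N1 := fun a => a.2
  have hNp : IsPGroup p Nm := hS.to_le hNmS
  have hψE : ∀ a : E, ∀ ha : (a : Ω) ∈ Nm, η (ψ₀ ⟨a, ha⟩) = ι ((d : MulAut E) a) := fun a ha =>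
    Subtype.ext (hψ₀e a ha)
  haveI hZn1 : (Zc.comap η).Normal := Subgroup.Normal.comap hZn η
  haveI hD1n1 : (D1.comap η).Normal := Subgroup.Normal.comap hD1n η
  have hcE : Nat.card (ES.comap η) = p ^ 2 := by rw [card_comap_inclusion hNmS hEN1, hESc]
  haveI hEn1 : (ES.comap η).Normal := normal_of_card hNp (by rw [hNmc, hcE, ← pow_succ'])
  have hcZ : Nat.card (Zc.comap η) = p := by rw [card_comap_inclusion hNmS (hZD1.trans hD1N1), hZc']
  have hcD : Nat.card (D1.comap η) = p ^ 2 := by rw [card_comap_inclusion hNmS hD1N1, hD1c]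
  have hZinv : ∀ a : MulAut Nm, ∀ y ∈ Zc.comap η, a y ∈ Zc.comap η := by
    intro a y hy
    have hcomm : ∀ w : Nm, η (a y) * η w = η w * η (a y) := fun w => by
      have h1 : a (y * a.symm w) = a (a.symm w * y) := by
        congr 1
        exact Subgroup.inclusion_injective hNmS (by rw [map_mul, map_mul]; exact (hzC hy _).symm)
      simp only [map_mul, MulEquiv.apply_symm_apply] at h1
      rw [← map_mul, h1, map_mul]
    have h2 : η (a y) ∈ ES := hCE _ (hcomm ⟨(f : E), le_normalizerIn hES f.2⟩)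
    obtain ⟨i, hi⟩ := hfixed ⟨((η (a y) : S) : Ω), h2⟩ (hcomm ⟨(gS : Ω), g₀.2⟩).symm
    show η (a y) ∈ Zc
    exact ⟨i, (map_zpow ι e i).symm.trans ((congrArg ι hi).trans (Subtype.ext rfl))⟩
  obtain ⟨y2, hy2, hy2N⟩ := SetLike.exists_of_lt (lt_of_le_of_ne hN1N2 fun h => by
    rw [← h, hN1c] at hN2c
    exact absurd (Nat.pow_right_injective hp.out.two_le hN2c) (by norm_num))
  set u1 := cA F hNmS ⟨(y2 : Ω), hy2⟩ with hu1
  have hu1η : ∀ a : Nm, η ((u1 : MulAut Nm) a) = y2 * η a * y2⁻¹ := fun a =>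
    Subtype.ext (coe_cA (F := F) hNmS _ a)
  obtain ⟨k1, hk1⟩ := hS y2
  have hu1p : u1 ^ p ^ k1 = 1 := by
    have h1 : (⟨(y2 : Ω), hy2⟩ : ↥(normalizerIn S Nm)) ^ p ^ k1 = 1 :=
      Subtype.ext (by simpa using congrArg Subtype.val hk1)
    rw [hu1, ← map_pow, h1, map_one]
  have hconj : ∀ (a y : S), a⁻¹ * (y * a * y⁻¹) = ⁅a⁻¹, y⁆ := fun a y => by
    rw [commutatorElement_def]; group
  obtain ⟨v, ⟨kv, hvp⟩, hvE, hvD⟩ := move_mod hNp (L := Zc.comap η) (X := D1.comap η) (W := ES.comap η)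
    (Subgroup.comap_mono hZD1) (Subgroup.comap_mono (Subgroup.zpowers_le.mpr hzE))
    (by rw [hNmc, hcZ, ← pow_succ]) (by rw [hcD, hcZ, sq]) (by rw [hcE, hcZ, sq])
    (fun h => hxD1 (h.ge (show (⟨(f : E), le_normalizerIn hES f.2⟩ : Nm) ∈ ES.comap η from f.2)))
    (F.autGroup Nm) (fun a _ => hZinv a) (u := u1) (t := ⟨ψ₀, (mem_autGroup hNmS).2 hψ₀⟩) hu1p
    (fun a ha => by
      show η _ ∈ Zc
      rw [map_mul, map_inv, hu1η, hconj]
      exact (comm_mem_step hS hZD1 hD1s (D1.inv_mem ha) y2).2)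
    ⟨⟨(f : E), le_normalizerIn hES f.2⟩, fun h => hy2N (hNorm y2 (by
      have h2 : η _ ∈ Zc := h
      rw [map_mul, map_inv, hu1η, hconj, show η ⟨(f : E), le_normalizerIn hES f.2⟩ = x from rfl] at h2
      have e1 : ⁅x, y2⁆ = x * (⁅x⁻¹, y2⁆)⁻¹ * x⁻¹ := by
        rw [commutatorElement_def, commutatorElement_def]; group
      rw [e1]
      exact hZn.conj_mem _ (inv_mem h2) x))⟩
    (fun a ha => by
      show η (ψ₀ a) ∈ ES
      rw [show a = (⟨((⟨(a : Ω), ha⟩ : E) : Ω), a.2⟩ : Nm) from rfl, hψE]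
      exact ((d : MulAut E) _).2)
  set T0 := v * (⟨ψ₀, (mem_autGroup hNmS).2 hψ₀⟩ : F.autGroup Nm) with hT0
  have hT0a : ∀ a, (T0 : MulAut Nm) a = (v : MulAut Nm) (ψ₀ a) := fun _ => rfl
  have hvpow : (v : MulAut Nm) ^ p ^ kv = 1 := by rw [← SubgroupClass.coe_pow, hvp]; rfl
  have hvZ : ∀ a ∈ Zc.comap η, (v : MulAut Nm) a = a := fun a ha => by
    have h := section_trivial hNp (L := (⊥ : Subgroup Nm)) (X := Zc.comap η) bot_le
      (by rw [hcZ, Subgroup.card_bot, mul_one]) (hZinv _)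
      (fun y hy => by rw [Subgroup.mem_bot] at hy ⊢; rw [hy, map_one]) hvpow a ha
    exact (inv_mul_eq_one.mp (Subgroup.mem_bot.mp h)).symm
  have hvtop : ∀ a : Nm, a⁻¹ * (v : MulAut Nm) a ∈ ES.comap η := fun a =>
    section_trivial hNp le_top (by rw [Subgroup.card_top, hNmc, hcE, ← pow_succ'])
      (fun y _ => Subgroup.mem_top _) (fun y hy => by
        rw [← mul_inv_cancel_left y ((v : MulAut Nm) y)]
        exact mul_mem hy (Subgroup.comap_mono (Subgroup.zpowers_le.mpr hzE) (hvE y hy)))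
      hvpow a (Subgroup.mem_top a)
  have hψ4 : ∀ a : Nm, (a ^ 4)⁻¹ * ψ₀ a ∈ ES.comap η := by
    intro a
    obtain ⟨i, hi⟩ := hgen a
    set π := QuotientGroup.mk' (ES.comap η)
    have e1 : π a = π g₀ ^ i := by
      rw [← map_pow]
      exact (QuotientGroup.eq.mpr (show (g₀ ^ i)⁻¹ * a ∈ ES.comap η from hi)).symm
    have e2 : π (ψ₀ g₀) = π g₀ ^ 4 := by
      rw [← map_pow]
      exact (QuotientGroup.eq.mpr (show (g₀ ^ 4)⁻¹ * ψ₀ g₀ ∈ ES.comap η from hψ₀g)).symm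
    have e3 : π (ψ₀ a) = π (ψ₀ (g₀ ^ i)) := by
      refine (QuotientGroup.eq.mpr ?_).symm
      rw [← map_inv, ← map_mul]
      set b := (g₀ ^ i)⁻¹ * a
      show η (ψ₀ b) ∈ ES
      rw [show b = (⟨((⟨(b : Ω), hi⟩ : E) : Ω), b.2⟩ : Nm) from rfl, hψE]
      exact ((d : MulAut E) _).2
    refine QuotientGroup.eq.mp ?_
    show π (a ^ 4) = π (ψ₀ a)
    rw [e3, map_pow ψ₀, map_pow π, map_pow π, e2, e1, ← pow_mul, ← pow_mul, mul_comm]
  have hT0z : η ((T0 : MulAut Nm) ⟨(e : E), le_normalizerIn hES e.2⟩) = z ^ 2 := by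
    have h1 : ψ₀ ⟨(e : E), le_normalizerIn hES e.2⟩ = ⟨((e ^ 2 : E) : Ω), le_normalizerIn hES (e ^ 2).2⟩ :=
      Subgroup.inclusion_injective hNmS (by
        rw [← hη, hψE, show (d : MulAut E) e = e ^ 2 from hde]
        exact Subtype.ext rfl)
    rw [hT0a, h1, hvZ]
    · exact map_pow ι e 2
    · show ι (e ^ 2) ∈ Zc
      rw [map_pow]
      exact pow_mem (Subgroup.mem_zpowers z) 2
  have hT0x : (x ^ l)⁻¹ * η ((T0 : MulAut Nm) ⟨(f : E), le_normalizerIn hES f.2⟩) ∈ Zc := by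
    have h1 : ψ₀ ⟨(f : E), le_normalizerIn hES f.2⟩ = ⟨((f ^ l : E) : Ω), le_normalizerIn hES (f ^ l).2⟩ :=
      Subgroup.inclusion_injective hNmS (by
        rw [← hη, hψE, show (d : MulAut E) f = f ^ l from hdf]
        exact Subtype.ext rfl)
    have h2 := hvE ⟨((f ^ l : E) : Ω), le_normalizerIn hES (f ^ l).2⟩ (f ^ l).2
    rw [Subgroup.mem_comap, map_mul, map_inv] at h2
    rw [hT0a, h1]
    rwa [show η (⟨((f ^ l : E) : Ω), le_normalizerIn hES (f ^ l).2⟩ : Nm) = x ^ l from map_pow ι f l] at h2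
  have hT0D : ∀ a ∈ D1.comap η, (a ^ 4)⁻¹ * (T0 : MulAut Nm) a ∈ Zc.comap η := by
    intro a ha
    have h1 : (a ^ 4)⁻¹ * (T0 : MulAut Nm) a ∈ ES.comap η ⊓ D1.comap η := by
      refine ⟨?_, (D1.comap η).mul_mem ((D1.comap η).inv_mem ((D1.comap η).pow_mem ha 4)) (hvD a ha)⟩
      rw [hT0a]
      exact mod_trans' (hψ4 a) (hvtop (ψ₀ a))
    by_contra hn
    have h2 : Zc.comap η < ES.comap η ⊓ D1.comap η := lt_of_le_of_ne
      (le_inf (Subgroup.comap_mono (Subgroup.zpowers_le.mpr hzE)) (Subgroup.comap_mono hZD1))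
      fun h => hn (h.ge h1)
    have h3 : ES.comap η ⊓ D1.comap η = ES.comap η := eq_of_step hNp h2 inf_le_left (by rw [hcE, hcZ, sq])
    have h4 : (⟨(f : E), le_normalizerIn hES f.2⟩ : Nm) ∈ D1.comap η := (h3.ge f.2).2
    exact hxD1 h4
  -- extension to the second normalizer
  haveI hD1n2 : (D1.subgroupOf N2).Normal := Subgroup.Normal.comap hD1n N2.subtype
  haveI hN1n2 : (N1.subgroupOf N2).Normal := normal_of_card (hS.to_subgroup N2)
    (by rw [Nat.card_congr (Subgroup.subgroupOfEquivOfLe hN1N2).toEquiv, hN2c, hN1c, ← pow_succ'])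
  let D' : ℕ → Subgroup Ω
    | 0 => ⊥
    | 1 => Zc.map S.subtype
    | 2 => D1.map S.subtype
    | _ => Nm
  have hN1map : N1.map S.subtype = Nm := Subgroup.map_subgroupOf_eq_of_le hNmS
  obtain ⟨T1, hT1, hT1e⟩ := extend_series hS hF hNmFN 3 D' rfl rfl
    (by
      intro y hy i hi a ha
      interval_cases i
      · rw [Subgroup.mem_bot.mp ha]; simp [D']
      ·
        obtain ⟨b, hb, rfl⟩ := ha
        exact ⟨_, hZn.conj_mem b hb ⟨y, hy.1⟩, by simp⟩
      ·
        obtain ⟨b, hb, rfl⟩ := ha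
        exact ⟨_, hD1n.conj_mem b hb ⟨y, hy.1⟩, by simp⟩
      · exact (Subgroup.mem_normalizer_iff.mp hy.2 a).mp ha)
    (by
      intro y hy i hi a ha
      interval_cases i
      ·
        obtain ⟨b, hb, rfl⟩ := ha
        have h1 : b⁻¹ * (⟨y, hy.1⟩ * b * (⟨y, hy.1⟩ : S)⁻¹) = 1 := by
          rw [hzC hb, mul_inv_cancel_right, inv_mul_cancel]
        show _ ∈ (⊥ : Subgroup Ω)
        exact Subgroup.mem_bot.mpr (by simpa using congrArg Subtype.val h1)
      ·
        obtain ⟨b, hb, rfl⟩ := ha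
        refine ⟨b⁻¹ * (⟨y, hy.1⟩ * b * (⟨y, hy.1⟩ : S)⁻¹), ?_, by simp⟩
        rw [hconj]
        exact (comm_mem_step hS hZD1 hD1s (D1.inv_mem hb) _).2
      ·
        set b : S := ⟨a, hNmS ha⟩
        refine ⟨b⁻¹ * (⟨y, hy.1⟩ * b * (⟨y, hy.1⟩ : S)⁻¹), ?_, by simp [b]⟩
        rw [hconj]
        have hb : b ∈ N1 := ha
        have hY : (⟨y, hy.1⟩ : S) ∈ N2 := hy
        have := (comm_mem_step (hS.to_subgroup N2) (X := D1.subgroupOf N2) (Y := N1.subgroupOf N2)
          (fun q hq => hD1N1 hq) (by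
            rw [Nat.card_congr (Subgroup.subgroupOfEquivOfLe hN1N2).toEquiv,
              Nat.card_congr (Subgroup.subgroupOfEquivOfLe (hD1N1.trans hN1N2)).toEquiv, hN1c, hD1c, ← pow_succ'])
          (y := ⟨b⁻¹, N2.inv_mem (hN1N2 hb)⟩) (N1.inv_mem hb) ⟨⟨y, hy.1⟩, hY⟩).2
        simpa [Subgroup.mem_subgroupOf, commutatorElement_def] using this)
    T0 (by
      intro i hi a ha
      have key : ∀ X : Subgroup S, (a : Ω) ∈ X.map S.subtype → η a ∈ X := fun X hX => by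
        obtain ⟨b, hb, hba⟩ := hX
        rw [show η a = b from Subtype.ext hba.symm]
        exact hb
      interval_cases i
      ·
        have h1 : a = 1 := Subtype.ext (Subgroup.mem_bot.mp ha)
        show _ ∈ (⊥ : Subgroup Ω)
        rw [h1, map_one]
        exact one_mem _
      · exact ⟨η ((T0 : MulAut Nm) a), hZinv _ a (key Zc ha), rfl⟩
      · exact ⟨η ((T0 : MulAut Nm) a), hvD a (key D1 ha), rfl⟩
      · exact ((T0 : MulAut Nm) a).2)
  -- the automorphism of the second normalizer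
  set η2 := Subgroup.inclusion hNm2S with hη2
  have hη2N : ∀ a : Nm2, η2 a ∈ N2 := fun a => a.2
  have hN2p : IsPGroup p Nm2 := hS.to_le hNm2S
  have hT1η : ∀ a : Nm, η2 (T1 ⟨a, le_normalizerIn hNmS a.2⟩) = η ((T0 : MulAut Nm) a) := fun a =>
    Subtype.ext (hT1e a _)
  haveI : (D1.comap η2).Normal := Subgroup.Normal.comap hD1n η2
  haveI : (Zc.comap η2).Normal := Subgroup.Normal.comap hZn η2
  have hcZ2 : Nat.card (Zc.comap η2) = p := by
    rw [card_comap_inclusion hNm2S ((hZD1.trans hD1N1).trans hN1N2), hZc']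
  have hcD2 : Nat.card (D1.comap η2) = p ^ 2 := by rw [card_comap_inclusion hNm2S (hD1N1.trans hN1N2), hD1c]
  have hZinv2 : ∀ a : MulAut Nm2, ∀ y ∈ Zc.comap η2, a y ∈ Zc.comap η2 := by
    intro a y hy
    have hcomm : ∀ w : Nm2, η2 (a y) * η2 w = η2 w * η2 (a y) := fun w => by
      have h1 : a (y * a.symm w) = a (a.symm w * y) := by
        congr 1
        exact Subgroup.inclusion_injective hNm2S (by rw [map_mul, map_mul]; exact (hzC hy _).symm)
      simp only [map_mul, MulEquiv.apply_symm_apply] at h1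
      rw [← map_mul, h1, map_mul]
    have h2 : η2 (a y) ∈ ES := hCE _ (hcomm ⟨(x : Ω), hN1N2 (hEN1 hxE)⟩)
    obtain ⟨i, hi⟩ := hfixed ⟨((η2 (a y) : S) : Ω), h2⟩
      (hcomm ⟨(gS : Ω), le_normalizerIn hNmS g₀.2⟩).symm
    exact ⟨i, (map_zpow ι e i).symm.trans ((congrArg ι hi).trans (Subtype.ext rfl))⟩
  obtain ⟨c2, hc2, hc2D⟩ := SetLike.exists_of_lt (lt_of_le_of_ne hD12 fun h => by
    rw [← h, hD1c] at hD2c
    exact absurd (Nat.pow_right_injective hp.out.two_le hD2c) (by norm_num))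
  have hD2N1 : c2 ∉ N1 := fun h => by
    have h1 : D1 < N1 ⊓ D2 := lt_of_le_of_ne (le_inf hD1N1 hD12) fun e => hc2D (e.ge ⟨h, hc2⟩)
    have h2 : N1 ⊓ D2 = D2 := eq_of_step hS h1 inf_le_right hD2s
    have h3 : D2 = N1 := Subgroup.eq_of_le_of_card_ge (h2.ge.trans inf_le_left) (by rw [hN1c, hD2c])
    exact hN1n (h3 ▸ hD2n)
  have hD1inv2 : ∀ a : MulAut Nm2, ∀ y ∈ D1.comap η2, a y ∈ D1.comap η2 := by
    intro a y hy
    set q := η2 (a y) with hq
    have hcom : ∀ w : Nm2, ⁅q, η2 w⁆ ∈ Zc := fun w => by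
      have h1 : ⁅y, a.symm w⁆ ∈ Zc.comap η2 := by
        rw [Subgroup.mem_comap, map_commutatorElement]
        exact (comm_mem_step hS hZD1 hD1s hy _).2
      have h2 := hZinv2 a _ h1
      rw [map_commutatorElement, MulEquiv.apply_symm_apply, Subgroup.mem_comap, map_commutatorElement] at h2
      exact h2
    have hqx := hcom ⟨(x : Ω), hN1N2 (hEN1 hxE)⟩
    have hqN1 : q ∈ N1 := hNorm q (comm_mem_swap hqx)
    obtain ⟨i, hi⟩ := gen_of_step hS hD1N1 (by rw [hN1c, hD1c, ← pow_succ']) (hEN1 hxE) hxD1 hqN1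
    have hxc : ⁅x, c2⁆ ∈ D1 := (comm_mem_step hS hD12 hD2s hc2 x).1
    have h3 : ⁅x, c2⁆ ^ i ∈ Zc := by
      have h4 : (⁅x, c2⁆ ^ (i * 1))⁻¹ * ⁅x ^ i * ((x ^ i)⁻¹ * q), c2 ^ 1 * 1⁆ ∈ Zc :=
        comm_scalar i 1 (comm_mem_swap (comm_mem_step hS hZD1 hD1s hxc x).2)
          (comm_mem_swap (comm_mem_step hS hZD1 hD1s hxc c2).2) (comm_mem_step hS hZD1 hD1s hi c2).2
          (by rw [commutatorElement_one_right]; exact one_mem _)
          (by rw [commutatorElement_one_right]; exact one_mem _)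
      rw [mul_inv_cancel_left, pow_one, mul_one, mul_one] at h4
      have h5 : ⁅q, c2⁆ ∈ Zc := hcom ⟨(c2 : Ω), hD2N2 hc2⟩
      have := mul_mem h5 (inv_mem h4)
      rwa [mul_inv_rev, inv_inv, mul_inv_cancel_left] at this
    have hxcZ : ⁅x, c2⁆ ∉ Zc := fun h => hD2N1 (hNorm c2 h)
    obtain ⟨t, ht⟩ := dvd_of_pow_mem (pow_p_mem_step hS hZD1 hD1s hxc) hxcZ h3
    rw [ht, pow_mul, hxp, one_pow, inv_one, one_mul] at hi
    exact hi
  obtain ⟨s, hs⟩ : ∃ s : S, s ∉ N2 := by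
    by_contra h
    push Not at h
    rw [(Subgroup.eq_top_iff' N2).mpr h, Subgroup.card_top, hcard] at hN2c
    exact absurd (Nat.pow_right_injective hp.out.two_le hN2c) (by norm_num)
  have hNm2n : S ≤ normalizerIn S Nm2 := fun y hy => ⟨hy, Subgroup.mem_normalizer_fintype fun a ha =>
    hN2n.conj_mem (⟨a, hNm2S ha⟩ : S) ha ⟨y, hy⟩⟩
  set u2 := cA F hNm2S ⟨(s : Ω), hNm2n s.2⟩ with hu2
  have hu2η : ∀ a : Nm2, η2 ((u2 : MulAut Nm2) a) = s * η2 a * s⁻¹ := fun a =>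
    Subtype.ext (coe_cA (F := F) hNm2S _ a)
  obtain ⟨k2, hk2⟩ := hS s
  have hu2p : u2 ^ p ^ k2 = 1 := by
    have h1 : (⟨(s : Ω), hNm2n s.2⟩ : ↥(normalizerIn S Nm2)) ^ p ^ k2 = 1 :=
      Subtype.ext (by simpa using congrArg Subtype.val hk2)
    rw [hu2, ← map_pow, h1, map_one]
  have hcN1 : Nat.card (N1.comap η2) = p ^ 3 := by rw [card_comap_inclusion hNm2S hN1N2, hN1c]
  have hcD22 : Nat.card (D2.comap η2) = p ^ 3 := by rw [card_comap_inclusion hNm2S hD2N2, hD2c]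
  obtain ⟨v2, ⟨kv2, hv2p⟩, hv2N, hv2D⟩ := move_mod hN2p (L := D1.comap η2) (X := D2.comap η2) (W := N1.comap η2)
    (Subgroup.comap_mono hD12) (Subgroup.comap_mono hD1N1) (by rw [hNm2c, hcD2, ← pow_add])
    (by rw [hcD22, hcD2, ← pow_succ']) (by rw [hcN1, hcD2, ← pow_succ'])
    (fun h => hD2N1 (h.le (show (⟨(c2 : Ω), hD2N2 hc2⟩ : Nm2) ∈ D2.comap η2 from hc2)))
    (F.autGroup Nm2) (fun a _ => hD1inv2 a) (u := u2) (t := ⟨T1, hT1⟩) hu2p
    (fun a ha => by
      show η2 _ ∈ D1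
      rw [map_mul, map_inv, hu2η, hconj]
      exact (comm_mem_step hS hD12 hD2s (D2.inv_mem ha) s).2)
    ⟨⟨(x : Ω), hN1N2 (hEN1 hxE)⟩, fun h => hs (hN2norm s (by
      have h2 : η2 _ ∈ D1 := h
      rw [map_mul, map_inv, hu2η, hconj, show η2 ⟨(x : Ω), hN1N2 (hEN1 hxE)⟩ = x from rfl] at h2
      have e1 : ⁅x, s⁆ = x * (⁅x⁻¹, s⁆)⁻¹ * x⁻¹ := by
        rw [commutatorElement_def, commutatorElement_def]; group
      rw [e1]
      exact hD1n.conj_mem _ (inv_mem h2) x))⟩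
    (fun a ha => by
      show η2 (T1 a) ∈ N1
      rw [show a = (⟨((⟨(a : Ω), ha⟩ : Nm) : Ω), a.2⟩ : Nm2) from rfl, hT1η]
      exact ((T0 : MulAut Nm) _).2)
  set T2 := v2 * (⟨T1, hT1⟩ : F.autGroup Nm2) with hT2
  have hT2a : ∀ a, (T2 : MulAut Nm2) a = (v2 : MulAut Nm2) (T1 a) := fun _ => rfl
  have hv2pow : (v2 : MulAut Nm2) ^ p ^ kv2 = 1 := by rw [← SubgroupClass.coe_pow, hv2p]; rfl
  have hv2Z : ∀ a ∈ Zc.comap η2, (v2 : MulAut Nm2) a = a := fun a ha => by
    have h := section_trivial hN2p (L := (⊥ : Subgroup Nm2)) (X := Zc.comap η2) bot_le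
      (by rw [hcZ2, Subgroup.card_bot, mul_one]) (hZinv2 _)
      (fun y hy => by rw [Subgroup.mem_bot] at hy ⊢; rw [hy, map_one]) hv2pow a ha
    exact (inv_mul_eq_one.mp (Subgroup.mem_bot.mp h)).symm
  have hv2D1 : ∀ a ∈ D1.comap η2, a⁻¹ * (v2 : MulAut Nm2) a ∈ Zc.comap η2 :=
    section_trivial hN2p (Subgroup.comap_mono hZD1) (by rw [hcD2, hcZ2, sq]) (hD1inv2 _) (hZinv2 _) hv2pow
  -- extension to `S`
  let D'' : ℕ → Subgroup S
    | 0 => ⊥
    | 1 => Zc
    | 2 => D1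
    | 3 => D2
    | _ => N2
  obtain ⟨T, hT, hTe⟩ := extend_series_top hS hF hNm2S hNm2n 4 D'' rfl rfl
    (by
      intro j hj
      interval_cases j
      · exact (inferInstance : (⊥ : Subgroup S).Normal)
      · exact hZn
      · exact hD1n
      · exact hD2n
      · exact hN2n)
    (by
      intro j hj a ha y
      have key : ∀ (X Y : Subgroup S) [X.Normal] [Y.Normal], X ≤ Y → Nat.card Y = p * Nat.card X → a ∈ Y →
          a⁻¹ * (y * a * y⁻¹) ∈ X := fun X Y _ _ hXY hc haY => by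
        rw [hconj]
        exact (comm_mem_step hS hXY hc (Y.inv_mem haY) y).2
      interval_cases j
      · exact key ⊥ Zc bot_le (by rw [hZc', Subgroup.card_bot, mul_one]) ha
      · exact key Zc D1 hZD1 hD1s ha
      · exact key D1 D2 hD12 hD2s ha
      · exact key D2 N2 hD2N2 (by rw [hN2c, hD2c, ← pow_succ']) ha)
    T2 (by
      intro j hj a ha
      interval_cases j
      ·
        have h1 : a = 1 := Subgroup.inclusion_injective hNm2S ((Subgroup.mem_bot.mp ha).trans (map_one _).symm)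
        show η2 _ ∈ (⊥ : Subgroup S)
        rw [h1, map_one, map_one]
        exact one_mem _
      · exact hZinv2 _ a ha
      · exact hD1inv2 _ a ha
      · exact hv2D a ha
      · exact ((T2 : MulAut Nm2) a).2)
  have hTη : ∀ a : Nm2, T (η2 a) = η2 ((T2 : MulAut Nm2) a) := hTe
  have hlift : ∀ {a}, a ∈ N2 → ∃ b : Nm2, η2 b = a := fun {a} ha => ⟨⟨a, ha⟩, Subtype.ext rfl⟩
  refine ⟨T, hT, ?_, ?_, fun a ha => ?_, fun a ha => ?_⟩
  · have h1 := (hT1η ⟨(e : E), le_normalizerIn hES e.2⟩).trans hT0z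
    rw [show z = η2 (⟨(e : E), le_normalizerIn hNmS (le_normalizerIn hES e.2)⟩ : Nm2) from Subtype.ext rfl,
      hTη, hT2a, hv2Z]
    · exact h1
    · show η2 _ ∈ Zc
      rw [h1]
      exact pow_mem (Subgroup.mem_zpowers z) 2
  · set b : Nm2 := T1 ⟨(f : E), le_normalizerIn hNmS (le_normalizerIn hES f.2)⟩ with hb
    have h1 : η2 b = η ((T0 : MulAut Nm) ⟨(f : E), le_normalizerIn hES f.2⟩) :=
      hT1η ⟨(f : E), le_normalizerIn hES f.2⟩
    have hbN : η2 b ∈ N1 := h1 ▸ ((T0 : MulAut Nm) _).2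
    have h2 := hv2N b hbN
    rw [Subgroup.mem_comap, map_mul, map_inv] at h2
    nth_rw 2 [show x = η2 (⟨(f : E), le_normalizerIn hNmS (le_normalizerIn hES f.2)⟩ : Nm2) from Subtype.ext rfl]
    rw [hTη, hT2a, ← hb]
    exact mod_trans' (hZD1 (h1 ▸ hT0x)) h2
  · obtain ⟨b, rfl⟩ := hlift (hN1N2 (hD1N1 ha))
    have hbN : (b : Ω) ∈ Nm := hD1N1 ha
    have h1 := hT0D ⟨(b : Ω), hbN⟩ ha
    rw [Subgroup.mem_comap, map_mul, map_inv, map_pow, ← hT1η,
      show η (⟨(b : Ω), hbN⟩ : Nm) = η2 b from rfl] at h1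
    have h2 := hv2D1 (T1 b) (hD1inv2 T1 b ha)
    rw [Subgroup.mem_comap, map_mul, map_inv] at h2
    rw [hTη, hT2a]
    exact mod_trans' h1 h2
  · obtain ⟨b, rfl⟩ := hlift ha
    rw [hTη]
    exact hη2N _

end Cfsg.Lib.OrderPFive
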