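import Cfsg.Agent.Lib.OrderPFive.Invariant
import Cfsg.Agent.Lib.OrderPFive.Elementary
import Cfsg.Agent.Lib.OrderPFive.Pearl
import Cfsg.Agent.Lib.FusionSys.SmallEssential
import Cfsg.Agent.S5188

/-!
# Abelian subgroups of index `p` in groups of order `p ^ 5` supporting reduced fusion systems
-/

set_option autoImplicit false
set_option linter.style.haveILetI false

namespace Cfsg.Lib.OrderPFive

open Cfsg Cfsg.FusionSystem
open Cfsg.Lib.FusionSys
open scoped commutatorElement

universe u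

variable {Ω : Type u} [Group Ω] {S : Subgroup Ω} [Finite S] {p : ℕ} [hp : Fact p.Prime]
variable {F : FusionSystem S} {P : Subgroup Ω}

theorem map_mem_center {G : Type*} [Group G] (α : MulAut G) {x : G} (hx : x ∈ Subgroup.center G) :
    α x ∈ Subgroup.center G := by
  refine Subgroup.mem_center_iff.mpr fun y => ?_
  have h := congrArg α (Subgroup.mem_center_iff.mp hx (α.symm y))
  rwa [map_mul, map_mul, MulEquiv.apply_symm_apply] at h

theorem map_mem_commutator {G : Type*} [Group G] (α : MulAut G) {x : G} (hx : x ∈ commutator G) :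
    α x ∈ commutator G := by
  have h : commutator G ≤ (commutator G).comap α.toMonoidHom := by
    rw [commutator_def]
    refine Subgroup.commutator_le.mpr fun a _ b _ => ?_
    rw [Subgroup.mem_comap, map_commutatorElement]
    exact Subgroup.commutator_mem_commutator (Subgroup.mem_top _) (Subgroup.mem_top _)
  exact h hx

/-- The possible essential subgroups. -/
theorem ess_shapes (hS : IsPGroup p S) (hF : F.IsSaturated p) (hp2 : p ≠ 2) (hcard : Nat.card S = p ^ 5)
    (hab : ∀ B : Subgroup S, p ^ 4 ≤ Nat.card B → ∃ a ∈ B, ∃ b ∈ B, a * b ≠ b * a)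
    (hP : F.IsEssential p P) :
    (Nat.card P = p ^ 2 ∧ Cfsg.IsElementaryAbelian p P) ∨ (Nat.card P = p ^ 3 ∧ Cfsg.IsElementaryAbelian p P) ∨
      (¬ IsMulCommutative P ∧ (Subgroup.center P).index ≤ p ^ 2 ∧ (Nat.card P = p ^ 3 ∨ Nat.card P = p ^ 4)) := by
  have hPS : P ≤ S := hP.1.1
  haveI := finite_of_le hPS
  have hPG : IsPGroup p P := hS.to_le hPS
  obtain ⟨k, hk⟩ := IsPGroup.iff_card.mp hPG
  have hlt := (RankTwo.basic hS hF hP).1
  have hk4 : k ≤ 4 := by
    by_contra h
    refine hlt.ne (Subgroup.eq_of_le_of_card_ge hPS ?_)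
    rw [hcard, hk]
    exact Nat.pow_le_pow_right hp.out.pos (by omega)
  have hnc := RankTwo.not_isCyclic hS hF hP
  have hk2 : 2 ≤ k := by
    by_contra h
    refine hnc ?_
    rcases (show k = 0 ∨ k = 1 by omega) with rfl | rfl
    · haveI : Subsingleton P := (Nat.card_eq_one_iff_unique.mp (by rw [hk, pow_zero])).1
      exact isCyclic_of_subsingleton
    · exact isCyclic_of_prime_card (p := p) (by rw [hk, pow_one])
  rcases (show k = 2 ∨ k = 3 ∨ k = 4 by omega) with rfl | rfl | rfl
  · left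
    refine ⟨hk, ⟨⟨fun a b => Plane.comm hk a b⟩⟩, fun a ha => ?_⟩
    obtain ⟨j, hj2, hj⟩ := (Nat.dvd_prime_pow hp.out).mp (hk ▸ orderOf_dvd_natCard (⟨a, ha⟩ : P))
    have hj1 : j ≤ 1 := by
      by_contra h
      exact hnc (isCyclic_of_orderOf_eq_card _ (by rw [hj, hk, show j = 2 by omega]))
    have h1 : (⟨a, ha⟩ : P) ^ p = 1 := by
      rw [← orderOf_dvd_iff_pow_eq_one, hj]
      exact (pow_dvd_pow p hj1).trans (by rw [pow_one])
    exact congrArg Subtype.val h1
  · rcases RankTwo.card_cube hS hF hP hk with h | ⟨-, h, -⟩ | ⟨h, -⟩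
    · exact Or.inr (Or.inl ⟨hk, h⟩)
    · right; right
      have hc := h.2
      have hna : ¬ IsMulCommutative P := fun hcomm => by
        have h1 : Subgroup.center P = ⊤ := eq_top_iff.mpr fun x _ =>
          Subgroup.mem_center_iff.mpr fun y => hcomm.is_comm.comm y x
        rw [h1, Subgroup.card_top, hk] at hc
        exact absurd (Nat.pow_right_injective hp.out.two_le (hc.trans (pow_one p).symm)) (by norm_num)
      refine ⟨hna, ?_, Or.inl hk⟩
      rw [Subgroup.index_eq_card, (Plane.cube_center hk hna).2.1]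
    · exact absurd h hp2
  · right; right
    have hna : ¬ IsMulCommutative P := fun hcomm => by
      obtain ⟨a, ha, b, hb, hne⟩ := hab (P.subgroupOf S)
        (by rw [Nat.card_congr (Subgroup.subgroupOfEquivOfLe hPS).toEquiv, hk])
      exact hne (Subtype.ext (congrArg Subtype.val
        (hcomm.is_comm.comm (⟨(a : Ω), ha⟩ : P) ⟨(b : Ω), hb⟩) :))
    refine ⟨hna, ?_, Or.inr hk⟩
    have key : p ^ 2 ≤ Nat.card (Subgroup.center P) → (Subgroup.center P).index ≤ p ^ 2 := fun h => by
      have h1 := (Subgroup.center P).card_mul_index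
      refine Nat.le_of_mul_le_mul_left ?_ (pow_pos hp.out.pos 2)
      calc p ^ 2 * (Subgroup.center P).index ≤ Nat.card (Subgroup.center P) * (Subgroup.center P).index :=
            Nat.mul_le_mul_right _ h
        _ = p ^ 2 * p ^ 2 := by rw [h1, hk]; ring
    apply key
    rcases Cfsg.Agent.S5188.nonabelian_case hS hF hP hk hna with
      ⟨-, E, _, _, hEx, -, -, ⟨e⟩⟩ | ⟨h, -⟩ | ⟨-, -, -, h⟩
    · rw [Nat.card_congr (Subgroup.centerCongr e).toEquiv, sq]
      calc p * p = Nat.card (Subgroup.center E × Multiplicative (ZMod p)) := by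
            rw [Nat.card_prod, hEx.2, Nat.card_congr Multiplicative.toAdd, Nat.card_zmod]
        _ ≤ _ := Nat.card_le_card_of_injective
            (fun z => ⟨((z.1 : E), z.2), Subgroup.mem_center_iff.mpr fun w =>
              Prod.ext (Subgroup.mem_center_iff.mp z.1.2 w.1) (mul_comm w.2 z.2)⟩)
            (fun z w h => by
              have h1 := congrArg Subtype.val h
              exact Prod.ext (Subtype.ext (congrArg Prod.fst h1)) (congrArg Prod.snd h1 :))
    · exact absurd h hp2
    · exact h.ge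

/-- The commutator subgroup of a nonabelian group with centre of index at most `p ^ 2`. -/
theorem commutator_card {G : Type*} [Group G] [Finite G] (hG : IsPGroup p G)
    (hidx : (Subgroup.center G).index ≤ p ^ 2) (hna : ¬ IsMulCommutative G) :
    Nat.card (G ⧸ Subgroup.center G) = p ^ 2 ∧ (∀ x : G, x ^ p ∈ Subgroup.center G) ∧
      commutator G ≤ Subgroup.center G ∧ Nat.card (commutator G) = p := by
  obtain ⟨hQ, hxp, s, hs, hs1, hsp, hcomm⟩ := Cfsg.Agent.S5265.center_facts hG hidx hna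
  have hle : commutator G ≤ Subgroup.zpowers s := by
    rw [commutator_def]
    exact Subgroup.commutator_le.mpr fun a _ b _ => hcomm a b
  refine ⟨hQ, hxp, hle.trans (Subgroup.zpowers_le.mpr hs), ?_⟩
  have h1 := Subgroup.card_dvd_of_le hle
  rw [Nat.card_zpowers, orderOf_eq_prime hsp hs1] at h1
  rcases (Nat.dvd_prime hp.out).mp h1 with h | h
  · refine absurd ⟨⟨fun a b => commutatorElement_eq_one_iff_mul_comm.mp ?_⟩⟩ hna
    rw [← Subgroup.mem_bot, ← Subgroup.card_eq_one.mp h]
    exact Subgroup.commutator_mem_commutator (Subgroup.mem_top a) (Subgroup.mem_top b)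
  · exact h

/-- Without small elementary abelian essential subgroups the centre is normal in the system. -/
theorem center_isNormal (hS : IsPGroup p S) (hF : F.IsSaturated p) (hp2 : p ≠ 2) (hcard : Nat.card S = p ^ 5)
    (hab : ∀ B : Subgroup S, p ^ 4 ≤ Nat.card B → ∃ a ∈ B, ∃ b ∈ B, a * b ≠ b * a)
    (hZ : Nat.card (Subgroup.center S) ≤ p ^ 2)
    (hno : ∀ P, F.IsEssential p P → (Nat.card P = p ^ 2 ∨ Nat.card P = p ^ 3) →
      ¬ Cfsg.IsElementaryAbelian p P) :
    F.IsNormal ((Subgroup.center S).map S.subtype) := by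
  set Q := (Subgroup.center S).map S.subtype with hQdef
  have hQc : Nat.card Q = Nat.card (Subgroup.center S) := Subgroup.card_map_of_injective S.subtype_injective
  haveI : Nontrivial S := Finite.one_lt_card_iff_nontrivial.mp
    (by rw [hcard]; exact Nat.one_lt_pow (by norm_num) hp.out.one_lt)
  haveI := hS.center_nontrivial
  refine isNormal_of_forall_essential hS hF fun P hP => ?_
  have hPS : P ≤ S := by rcases hP with rfl | hP; exacts [le_rfl, hP.1.1]
  haveI := finite_of_le hPS
  have fin : ∀ (W : Subgroup P) (α : MulAut P), (∀ x ∈ W, α x ∈ W) → W.map α.toMonoidHom = W := by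
    intro W α h
    refine Subgroup.eq_of_le_of_card_ge ?_ (Subgroup.card_map_of_injective α.injective).ge
    rintro _ ⟨x, hx, rfl⟩
    exact h x hx
  suffices Q ≤ P ∧ ∀ α ∈ F.autGroup P, ∀ x ∈ Q.subgroupOf P, α x ∈ Q.subgroupOf P from
    ⟨this.1, fun α hα => fin _ α (this.2 α hα)⟩
  rcases hP with rfl | hP
  · refine ⟨Subgroup.map_subtype_le _, fun α _ x hx => ?_⟩
    obtain ⟨y, hy, hyx⟩ := hx
    rw [show y = x from Subtype.ext hyx] at hy
    exact ⟨α x, map_mem_center α hy, rfl⟩
  have hQP : Q ≤ P := by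
    rintro _ ⟨z, hz, rfl⟩
    exact hP.1.2 P (isConj_refl F hPS) (mem_centralizerIn.2
      ⟨z.2, fun x hx => (congrArg Subtype.val (Subgroup.mem_center_iff.mp hz ⟨x, hPS hx⟩)).symm⟩)
  refine ⟨hQP, ?_⟩
  obtain ⟨hna, hidx, hPc⟩ : ¬ IsMulCommutative P ∧ (Subgroup.center P).index ≤ p ^ 2 ∧
      (Nat.card P = p ^ 3 ∨ Nat.card P = p ^ 4) := by
    rcases ess_shapes hS hF hp2 hcard hab hP with ⟨h1, h2⟩ | ⟨h1, h2⟩ | h
    · exact absurd h2 (hno P hP (Or.inl h1))
    · exact absurd h2 (hno P hP (Or.inr h1))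
    · exact h
  have hPG : IsPGroup p P := hS.to_le hPS
  obtain ⟨hq, -, hCZ, hCc⟩ := commutator_card hPG hidx hna
  have hQ'c : Nat.card (Q.subgroupOf P) = Nat.card (Subgroup.center S) := by
    rw [Nat.card_congr (Subgroup.subgroupOfEquivOfLe hQP).toEquiv, hQc]
  have hQZ : Q.subgroupOf P ≤ Subgroup.center P := by
    intro x hx
    obtain ⟨z, hz, hzx⟩ := hx
    refine Subgroup.mem_center_iff.mpr fun y => Subtype.ext ?_
    have h := congrArg Subtype.val (Subgroup.mem_center_iff.mp hz ⟨(y : Ω), hPS y.2⟩)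
    simp only [Subgroup.coe_mul] at h ⊢
    rw [← (show (z : Ω) = x from hzx)]
    exact h
  obtain ⟨k, hk⟩ := card_eq_pow hS (Subgroup.center S)
  have hk0 : k ≠ 0 := fun h0 => (Subgroup.nontrivial_iff_ne_bot _).mp inferInstance
    (Subgroup.card_eq_one.mp (by rw [hk, h0, pow_zero]))
  have hmul := Subgroup.card_eq_card_quotient_mul_card_subgroup (Subgroup.center P)
  rw [hq] at hmul
  intro α _ x hx
  have heqc : Nat.card (Subgroup.center P) ≤ Nat.card (Q.subgroupOf P) → α x ∈ Q.subgroupOf P := fun h => by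
    have he := Subgroup.eq_of_le_of_card_ge hQZ h
    rw [he] at hx ⊢
    exact map_mem_center α hx
  have hk1 : p ≤ Nat.card (Subgroup.center S) := by rw [hk]; exact Nat.le_self_pow hk0 p
  rcases hPc with h3 | h4
  · refine heqc ?_
    rw [hQ'c]
    refine le_trans (le_of_eq ?_) hk1
    refine Nat.eq_of_mul_eq_mul_left (pow_pos hp.out.pos 2) ?_
    rw [← hmul, h3]; ring
  · have hc2 : Nat.card (Subgroup.center P) = p ^ 2 :=
      Nat.eq_of_mul_eq_mul_left (pow_pos hp.out.pos 2) (by rw [← hmul, h4]; ring)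
    rcases (show k = 1 ∨ 2 ≤ k by omega) with rfl | hk2
    swap
    · exact heqc (by rw [hQ'c, hc2, hk]; exact Nat.pow_le_pow_right hp.out.pos hk2)
    rw [pow_one] at hk
    set N := P.subgroupOf S
    haveI : N.Normal := normal_of_card hS
      (by rw [Nat.card_congr (Subgroup.subgroupOfEquivOfLe hPS).toEquiv, h4, hcard]; ring)
    have hsub : commutator P ≤ Q.subgroupOf P := by
      obtain ⟨-, -, s, hs, hs1, hsp, hcomm⟩ := Cfsg.Agent.S5265.center_facts hPG hidx hna
      set s' : S := Subgroup.inclusion hPS s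
      have hle : ⁅N, N⁆ ≤ Subgroup.zpowers s' := Subgroup.commutator_le.mpr fun a ha b hb => by
        rw [← MonoidHom.map_zpowers, Subgroup.mem_map]
        exact ⟨⁅(⟨(a : Ω), ha⟩ : P), ⟨(b : Ω), hb⟩⁆, hcomm _ _, rfl⟩
      have hs'c : Nat.card (Subgroup.zpowers s') = p := by
        rw [Nat.card_zpowers, orderOf_injective _ (Subgroup.inclusion_injective hPS), orderOf_eq_prime hsp hs1]
      have hcen : ⁅N, N⁆ ≤ Subgroup.center S := by
        rcases (Nat.dvd_prime hp.out).mp (hs'c ▸ Subgroup.card_dvd_of_le hle) with h | h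
        · rw [Subgroup.card_eq_one.mp h]; exact bot_le
        · exact Cfsg.Lib.PGroup.le_center_of_card_eq_prime hS h
      rw [commutator_def]
      refine Subgroup.commutator_le.mpr fun a _ b _ => ?_
      exact ⟨⁅(⟨(a : Ω), hPS a.2⟩ : S), ⟨(b : Ω), hPS b.2⟩⁆,
        hcen (Subgroup.commutator_mem_commutator a.2 b.2), rfl⟩
    have he := Subgroup.eq_of_le_of_card_ge hsub (by rw [hQ'c, hk, hCc])
    rw [← he] at hx ⊢
    exact map_mem_commutator α hx

/-- The displacements on all essential subgroups lie in `T`. -/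
theorem displacement_all (hS : IsPGroup p S) (hF : F.IsSaturated p) (hp3 : p = 3) (hcard : Nat.card S = p ^ 5)
    (hab : ∀ B : Subgroup S, p ^ 4 ≤ Nat.card B → ∃ a ∈ B, ∃ b ∈ B, a * b ≠ b * a)
    (T : Subgroup Ω) (hconjT : ∀ g ∈ S, ∀ x ∈ S, x⁻¹ * (g * x * g⁻¹) ∈ T)
    (hE : F.IsEssential p P)
    (hbig : ∀ Q : Subgroup Ω, Nat.card P < Nat.card Q → ∀ φ ∈ F.Hom Q, ∀ x : Q, (x : Ω)⁻¹ * φ x ∈ T) :
    ∀ α ∈ F.autGroup P, ∀ x : P, (x : Ω)⁻¹ * (α x : Ω) ∈ T := by
  have hPS : P ≤ S := hE.1.1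
  haveI := finite_of_le hPS
  have hp2 : p ≠ 2 := by omega
  have hbot : ∀ α ∈ F.autGroup P, ∀ x ∈ (⊥ : Subgroup P), α x ∈ (⊥ : Subgroup P) := fun α _ x hx => by
    rw [Subgroup.mem_bot.mp hx, map_one]
    exact one_mem _
  have hexp : ∀ {B : Subgroup P} [B.Normal], (∀ x : P, x ^ p ∈ B) → ∀ v : ↥P ⧸ B, v ^ p = 1 :=
    fun {B} _ h v => QuotientGroup.induction_on v fun w => by
      rw [← QuotientGroup.mk_pow, (QuotientGroup.eq_one_iff _).mpr (h w)]
  rcases ess_shapes hS hF hp2 hcard hab hE with ⟨hc, hel⟩ | ⟨hc, hel⟩ | ⟨hna, hidx, hc⟩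
  · refine ess_displacement hS hF hp3 T hconjT hE hbig ⊥ ⊥ le_rfl hbot hbot ?_ (hexp fun x => ?_)
      (Or.inl rfl) (fun x hx => by rw [Subgroup.mem_bot.mp hx]; exact one_mem _)
      (fun α _ _ x hx => by rw [Subgroup.mem_bot.mp hx, map_one])
    · rw [Subgroup.card_eq_card_quotient_mul_card_subgroup (⊥ : Subgroup P), Subgroup.card_bot, mul_one] at hc
      exact hc
    · rw [Subgroup.mem_bot]
      exact Subtype.ext (hel.2 x x.2)
  · obtain ⟨C, hCc, hC⟩ := elem_complement hS hF hE hcard hab hc hel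
    haveI : C.Normal := ⟨fun x hx g => by rwa [hel.1.is_comm.comm g x, mul_inv_cancel_right]⟩
    refine ess_displacement hS hF hp3 T hconjT hE hbig C ⊥ bot_le hC hbot ?_ (hexp fun x => ?_)
      (Or.inr (by rw [hCc, Subgroup.card_bot, mul_one]))
      (fun x hx => by rw [Subgroup.mem_bot.mp hx]; exact one_mem _)
      (fun α _ _ x hx => by rw [Subgroup.mem_bot.mp hx, map_one])
    · rw [Subgroup.card_eq_card_quotient_mul_card_subgroup C, hCc] at hc
      exact Nat.eq_of_mul_eq_mul_right hp.out.pos (by rw [hc]; ring)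
    · rw [show x ^ p = 1 from Subtype.ext (hel.2 x x.2)]
      exact one_mem _
  · obtain ⟨hq, hxp, hCZ, hCc⟩ := commutator_card (hS.to_le hPS) hidx hna
    refine ess_displacement hS hF hp3 T hconjT hE hbig (Subgroup.center P) (commutator P) hCZ
      (fun α _ x hx => map_mem_center α hx) (fun α _ x hx => map_mem_commutator α hx) hq (hexp hxp) ?_ ?_ ?_
    · have hmul := Subgroup.card_eq_card_quotient_mul_card_subgroup (Subgroup.center P)
      rw [hq] at hmul
      rw [hCc]
      rcases hc with h | h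
      · exact Or.inl (Nat.eq_of_mul_eq_mul_left (pow_pos hp.out.pos 2) (by rw [← hmul, h]; ring))
      · exact Or.inr (Nat.eq_of_mul_eq_mul_left (pow_pos hp.out.pos 2) (by rw [← hmul, h]; ring))
    · have h : commutator P ≤ T.comap P.subtype := by
        rw [commutator_def]
        refine Subgroup.commutator_le.mpr fun a _ b _ => ?_
        show ((⁅a, b⁆ : P) : Ω) ∈ T
        have := hconjT (b : Ω) (hPS b.2) (a : Ω)⁻¹ (S.inv_mem (hPS a.2))
        simpa [commutatorElement_def, mul_assoc] using this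
      exact fun x hx => h hx
    · intro α _ htr
      have h : commutator P ≤ MonoidHom.eqLocus α.toMonoidHom (MonoidHom.id P) := by
        rw [commutator_def]
        refine Subgroup.commutator_le.mpr fun a _ b _ => ?_
        show α ⁅a, b⁆ = ⁅a, b⁆
        rw [map_commutatorElement, ← mul_inv_cancel_left a (α a), ← mul_inv_cancel_left b (α b)]
        exact (comm_near (Subgroup.mem_center_iff.mp (htr a) b).symm
          (Subgroup.mem_center_iff.mp (htr b) _) (Subgroup.mem_center_iff.mp (htr b) a).symm).trans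
          (by simp)
      exact fun x hx => h hx

/-- A group of order `p ^ 5` supporting a fusion system without normal subgroups equal to its hyperfocal
subgroup has an abelian subgroup of index `p`. -/
theorem exists_abelian_index (hS : IsPGroup p S) (hF : F.IsSaturated p) (hp2 : p ≠ 2) (hp7 : p ≠ 7)
    (hcard : Nat.card S = p ^ 5) (hcore : F.core = ⊥) (hhyp : F.hyperfocalSubgroup p = S) :
    ∃ A : Subgroup Ω, A ≤ S ∧ IsMulCommutative ↥A ∧ (A.subgroupOf S).index = p := by
  by_contra hno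
  have hab : ∀ B : Subgroup S, p ^ 4 ≤ Nat.card B → ∃ a ∈ B, ∃ b ∈ B, a * b ≠ b * a := by
    intro B hB
    by_contra h
    push Not at h
    obtain ⟨k, hk⟩ := card_eq_pow hS B
    obtain ⟨K, hK⟩ := Sylow.exists_subgroup_card_pow_prime (G := B) p (n := 4)
      (by rw [hk] at hB ⊢; exact pow_dvd_pow p ((Nat.pow_le_pow_iff_right hp.out.one_lt).mp hB))
    refine hno ⟨(K.map B.subtype).map S.subtype, Subgroup.map_subtype_le _, ⟨⟨?_⟩⟩, ?_⟩
    · rintro ⟨_, _, ⟨⟨a, ha⟩, -, rfl⟩, rfl⟩ ⟨_, _, ⟨⟨b, hb⟩, -, rfl⟩, rfl⟩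
      apply Subtype.ext
      have h' := congrArg Subtype.val (h a ha b hb)
      exact h'
    · rw [Subgroup.subgroupOf, Subgroup.comap_map_eq_self_of_injective S.subtype_injective]
      have h1 := (K.map B.subtype).card_mul_index
      rw [Subgroup.card_map_of_injective B.subtype_injective, hK, hcard, show p ^ 5 = p ^ 4 * p from pow_succ p 4] at h1
      exact Nat.eq_of_mul_eq_mul_left (pow_pos hp.out.pos 4) h1
  have hS1 : S ≠ ⊥ := fun h => by
    have := hcard
    rw [h, Subgroup.card_bot] at this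
    exact (Nat.one_lt_pow (by norm_num : 5 ≠ 0) hp.out.one_lt).ne this
  have hidx : p ^ 2 < (Subgroup.center S).index := by
    by_contra h
    push Not at h
    have h1 := (Cfsg.Agent.S5265.result p hS F hF hS1 hcore hhyp h).2.1
    rw [hcard] at h1
    exact absurd (Nat.pow_right_injective hp.out.two_le h1) (by norm_num)
  have hZ : Nat.card (Subgroup.center S) ≤ p ^ 2 := by
    obtain ⟨k, hk⟩ := card_eq_pow hS (Subgroup.center S)
    rw [hk]
    refine Nat.pow_le_pow_right hp.out.pos ?_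
    by_contra h
    have h1 := (Subgroup.center S).card_mul_index
    rw [hk, hcard] at h1
    have h2 : p ^ k * p ^ 2 < p ^ 5 := h1 ▸ Nat.mul_lt_mul_of_pos_left hidx (pow_pos hp.out.pos k)
    rw [← pow_add, Nat.pow_lt_pow_iff_right hp.out.one_lt] at h2
    omega
  obtain ⟨hp3, -, -, K, hCK, hK, hKA⟩ :
      p = 3 ∧ Subgroup.center S ≤ commutator S ∧ Nat.card (Subgroup.center S) = p ∧
        ∃ K : Subgroup S, commutator S ≤ K ∧ K ≠ ⊤ ∧ ∀ h ∈ F.autGroup S, ∀ x, x⁻¹ * h x ∈ K := by
    by_cases h3 : ∃ E, F.IsEssential p E ∧ Nat.card E = p ^ 3 ∧ Cfsg.IsElementaryAbelian p E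
    · obtain ⟨E, hE, hEc, hEel⟩ := h3
      exact elementary_case hS hF hp2 hE hcard hab hEc hEel
    by_cases h2 : ∃ E, F.IsEssential p E ∧ Nat.card E = p ^ 2 ∧ Cfsg.IsElementaryAbelian p E
    · obtain ⟨E, hE, hEc, hEel⟩ := h2
      exact pearl_case hS hF hp2 hp7 hE hcard hab hEc hEel
    exfalso
    have hn := center_isNormal hS hF hp2 hcard hab hZ (by
      rintro P hP (h | h) hel
      exacts [h2 ⟨P, hP, h, hel⟩, h3 ⟨P, hP, h, hel⟩])
    have hbot : (Subgroup.center S).map S.subtype = ⊥ :=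
      le_bot_iff.mp (le_of_le_of_eq (le_sSup hn) hcore)
    haveI : Nontrivial S := Finite.one_lt_card_iff_nontrivial.mp
      (by rw [hcard]; exact Nat.one_lt_pow (by norm_num) hp.out.one_lt)
    haveI := hS.center_nontrivial
    exact (Subgroup.nontrivial_iff_ne_bot _).mp inferInstance
      ((Subgroup.map_eq_bot_iff_of_injective _ S.subtype_injective).mp hbot)
  set T := K.map S.subtype with hT
  have hconjT : ∀ g ∈ S, ∀ x ∈ S, x⁻¹ * (g * x * g⁻¹) ∈ T := by
    intro g hg x hx
    refine ⟨⁅(⟨x, hx⟩ : S)⁻¹, ⟨g, hg⟩⁆, hCK ?_, ?_⟩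
    · rw [commutator_def]
      exact Subgroup.commutator_mem_commutator (Subgroup.mem_top _) (Subgroup.mem_top _)
    · simp [commutatorElement_def, mul_assoc]
  have hfoc : F.focalSubgroup ≤ T := by
    refine focal_le_of_displacement_rec hS hF T hconjT fun P hP hbig α hα x => ?_
    rcases hP with rfl | hP
    · exact ⟨x⁻¹ * α x, hKA α hα x, rfl⟩
    · exact displacement_all hS hF hp3 hcard hab T hconjT hP hbig α hα x
  refine hK (eq_top_iff.mpr fun x _ => ?_)
  obtain ⟨y, hy, hyx⟩ := ((hhyp.symm.le.trans (hyperfocal_le_focal_displacement p)).trans hfoc) x.2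
  rwa [show x = y from Subtype.ext hyx.symm]

end Cfsg.Lib.OrderPFive
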